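import Groth.Agent.Lib.Ferrand.Glue
import Mathlib.AlgebraicGeometry.Morphisms.Integral
import Mathlib.AlgebraicGeometry.Morphisms.Finite

/-!
# Properties of pushouts along closed immersions
-/

universe u

open CategoryTheory Limits AlgebraicGeometry TopologicalSpace

namespace Groth.Agent.Lib.Ferrand

variable {X Y Z P : Scheme.{u}} {i : Z ⟶ X} {j : Z ⟶ Y} {a : X ⟶ P} {b : Y ⟶ P}

namespace AffSq

theorem isAffineHom_left (h : AffSq i j a b) : IsAffineHom a := by
  have := h.affX; have := h.affP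
  infer_instance

theorem isClosedImmersion_right (h : AffSq i j a b) : IsClosedImmersion b := by
  have := h.affY; have := h.affP
  exact IsClosedImmersion.of_surjective_of_isAffine b h.sq.surjective_left

set_option backward.isDefEq.respectTransparency false in
theorem isIntegralHom_left (h : AffSq i j a b) [IsIntegralHom j] : IsIntegralHom a := by
  have := h.affX; have := h.affY; have := h.affZ; have := h.affP
  refine (HasAffineProperty.iff_of_isAffine (P := @IsIntegralHom) (f := a)).mpr ?_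
  have hj := (HasAffineProperty.iff_of_isAffine (P := @IsIntegralHom) (f := j)).mp ‹_›
  exact ⟨inferInstance, h.sq.isIntegral_left hj.2⟩

theorem isPullback (h : AffSq i j a b) [IsClosedImmersion i] : IsPullback i j a b := by
  have := h.affX; have := h.affY; have := h.affZ; have := h.affP
  have key : ∀ (s : PullbackCone a b), ∃ l : s.pt ⟶ Z, l ≫ i = s.fst ∧ l ≫ j = s.snd := by
    intro s
    have hc : ∀ x, s.fst.appTop.hom (a.appTop.hom x) = s.snd.appTop.hom (b.appTop.hom x) := by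
      intro x
      have := congrArg Scheme.Hom.appTop s.condition
      rw [Scheme.Hom.comp_appTop, Scheme.Hom.comp_appTop] at this
      exact congr($this x)
    have hker : RingHom.ker i.appTop.hom ≤ RingHom.ker s.fst.appTop.hom := by
      intro z hz
      obtain ⟨x, hx₁, hx₂⟩ := h.sq.exists_of_mem_ker hz
      rw [RingHom.mem_ker, ← hx₂, hc, hx₁, map_zero]
    let χ := RingHom.liftOfRightInverse i.appTop.hom _ (Function.rightInverse_surjInv h.sq.surj)
      ⟨s.fst.appTop.hom, hker⟩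
    have hχ : ∀ z, χ (i.appTop.hom z) = s.fst.appTop.hom z := fun z =>
      RingHom.liftOfRightInverse_comp_apply _ _ (Function.rightInverse_surjInv h.sq.surj)
        ⟨s.fst.appTop.hom, hker⟩ z
    have hχ' : ∀ y, χ (j.appTop.hom y) = s.snd.appTop.hom y := by
      intro y
      obtain ⟨z, hz⟩ := h.sq.surj (j.appTop.hom y)
      obtain ⟨x, hx₁, hx₂⟩ := h.sq.lift y z hz.symm
      rw [← hz, hχ, ← hx₂, hc, hx₁]
    obtain ⟨l, hl⟩ := exists_hom_appTop (X := s.pt) (T := Z)
      (CommRingCat.ofHom χ : Γ(Z, ⊤) ⟶ Γ(s.pt, ⊤))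
    refine ⟨l, ext_of_isAffine ?_, ext_of_isAffine ?_⟩
    · rw [Scheme.Hom.comp_appTop, hl]
      ext z
      exact hχ z
    · rw [Scheme.Hom.comp_appTop, hl]
      ext z
      exact hχ' z
  choose l hl₁ hl₂ using key
  exact ⟨⟨h.w⟩, ⟨PullbackCone.IsLimit.mk _ l hl₁ hl₂
    fun s m hm₁ _ => (cancel_mono i).mp (hm₁.trans (hl₁ s).symm)⟩⟩

theorem isPushout (h : AffSq i j a b) : IsPushout i j a b := h.isLocPushout.isPushout

end AffSq

/-- The data describing a pushout glued from affine squares. -/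
structure GluedBy (i : Z ⟶ X) (j : Z ⟶ Y) [IsClosedImmersion i] (a : X ⟶ P) (b : Y ⟶ P) : Prop where
  isPushout : IsPushout i j a b
  chart : ∀ p : P, ∃ (k : AffPair i j) (e : k.obj ⟶ P), IsOpenImmersion e ∧ p ∈ Set.range e ∧
    k.U.ι ≫ a = k.a ≫ e ∧ k.V.ι ≫ b = k.b ≫ e ∧
    a ⁻¹' Set.range e = (k.U : Set X) ∧ b ⁻¹' Set.range e = (k.V : Set Y)

theorem exists_gluedBy [IsClosedImmersion i] (hcov : ∀ y : Y, ∃ k : AffPair i j, y ∈ k.V) :
    ∃ (P : Scheme.{u}) (a : X ⟶ P) (b : Y ⟶ P), GluedBy i j a b := by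
  obtain ⟨a, b, hpo, hk, hpre, hsurj⟩ := exists_pushout hcov
  refine ⟨glued i j, a, b, hpo, fun p => ?_⟩
  obtain ⟨k, hk'⟩ := hsurj p
  exact ⟨k, k.ι, inferInstance, hk', (hk k).1, (hk k).2,
    congrArg (fun U : X.Opens => (U : Set X)) (hpre k).1,
    congrArg (fun U : Y.Opens => (U : Set Y)) (hpre k).2⟩

/-- Any pushout along a closed immersion with enough affine pairs is glued from affine squares. -/
theorem GluedBy.of_isPushout [IsClosedImmersion i] (hcov : ∀ y : Y, ∃ k : AffPair i j, y ∈ k.V)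
    (hP : IsPushout i j a b) : GluedBy i j a b := by
  obtain ⟨P', a', b', h⟩ := exists_gluedBy hcov
  let φ := h.isPushout.isoIsPushout _ _ hP
  have h₁ : a' ≫ φ.hom = a := h.isPushout.inl_isoIsPushout_hom _ _ hP
  have h₂ : b' ≫ φ.hom = b := h.isPushout.inr_isoIsPushout_hom _ _ hP
  refine ⟨hP, fun p => ?_⟩
  obtain ⟨k, e, he, ⟨q, hq⟩, e₁, e₂, e₃, e₄⟩ := h.chart (φ.inv p)
  have hr : Set.range (e ≫ φ.hom) = φ.hom '' Set.range e := by
    rw [Scheme.Hom.comp_base, TopCat.coe_comp, Set.range_comp]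
  refine ⟨k, e ≫ φ.hom, inferInstance, ?_, ?_, ?_, ?_, ?_⟩
  · rw [hr]
    refine ⟨φ.inv p, ⟨q, hq⟩, ?_⟩
    rw [← Scheme.Hom.comp_apply, φ.inv_hom_id]; rfl
  · rw [← h₁, reassoc_of% e₁]
  · rw [← h₂, reassoc_of% e₂]
  · rw [← h₁, ← e₃, hr, Scheme.Hom.comp_base, TopCat.coe_comp, Set.preimage_comp,
      Set.preimage_image_eq _ φ.hom.isOpenEmbedding.injective]
  · rw [← h₂, ← e₄, hr, Scheme.Hom.comp_base, TopCat.coe_comp, Set.preimage_comp,
      Set.preimage_image_eq _ φ.hom.isOpenEmbedding.injective]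

namespace GluedBy

variable [IsClosedImmersion i]

theorem surj (h : GluedBy i j a b) (p : P) : (∃ x, a x = p) ∨ ∃ y, b y = p := by
  obtain ⟨k, e, he, ⟨q, rfl⟩, e₁, e₂, -, -⟩ := h.chart p
  rcases k.affSq.exists_preimage q with ⟨x, rfl⟩ | ⟨y, rfl⟩
  · exact Or.inl ⟨k.U.ι x, by rw [← Scheme.Hom.comp_apply, e₁]; rfl⟩
  · exact Or.inr ⟨k.V.ι y, by rw [← Scheme.Hom.comp_apply, e₂]; rfl⟩

theorem of_charts (Q : MorphismProperty Scheme.{u}) [IsZariskiLocalAtTarget Q] {W : Scheme.{u}}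
    (f : W ⟶ P)
    (h : ∀ p : P, ∃ (V : Scheme.{u}) (e : V ⟶ P) (U : W.Opens) (g : U.toScheme ⟶ V),
      IsOpenImmersion e ∧ p ∈ Set.range e ∧ U.ι ≫ f = g ≫ e ∧ f ⁻¹' Set.range e = (U : Set W) ∧
      Q g) : Q f := by
  choose V e U g he hp hc hr hg using h
  let 𝒰 : P.OpenCover :=
    { I₀ := P
      X := V
      f := e
      mem₀ := by
        rw [Scheme.presieve₀_mem_precoverage_iff]
        exact ⟨fun p => ⟨p, hp p⟩, fun p => he p⟩ }
  refine IsZariskiLocalAtTarget.of_openCover 𝒰 fun (p : P) => ?_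
  have := he p
  have sq : IsPullback (U p).ι (g p) f (e p) := (IsOpenImmersion.isPullback (g p) (U p).ι (e p) f
    (hc p) (by
      ext1
      rw [Scheme.Opens.opensRange_ι]
      exact hr p)).flip
  show Q (pullback.snd f (e p))
  rw [← sq.isoPullback_inv_snd]
  exact (MorphismProperty.cancel_left_of_respectsIso Q sq.isoPullback.inv (g p)).mpr (hg p)

theorem isClosedImmersion_right (h : GluedBy i j a b) : IsClosedImmersion b := by
  refine of_charts @IsClosedImmersion b fun p => ?_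
  obtain ⟨k, e, he, hp, -, e₂, -, e₄⟩ := h.chart p
  exact ⟨k.obj, e, k.V, k.b, he, hp, e₂, e₄, k.affSq.isClosedImmersion_right⟩

set_option backward.isDefEq.respectTransparency false in
theorem isAffineHom_left (h : GluedBy i j a b) : IsAffineHom a := by
  refine of_charts @IsAffineHom a fun p => ?_
  obtain ⟨k, e, he, hp, e₁, -, e₃, -⟩ := h.chart p
  exact ⟨k.obj, e, k.U, k.a, he, hp, e₁, e₃, k.affSq.isAffineHom_left⟩

set_option backward.isDefEq.respectTransparency false in
theorem isIntegralHom_left (h : GluedBy i j a b) [IsIntegralHom j] : IsIntegralHom a := by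
  refine of_charts @IsIntegralHom a fun p => ?_
  obtain ⟨k, e, he, hp, e₁, -, e₃, -⟩ := h.chart p
  have : IsIntegralHom (j.resLE k.V (i ⁻¹ᵁ k.U) k.eq.le) := by
    rw [(j.resLE_congr k.eq.le rfl k.eq @IsIntegralHom), Scheme.Hom.resLE_eq_morphismRestrict]
    infer_instance
  exact ⟨k.obj, e, k.U, k.a, he, hp, e₁, e₃, k.affSq.isIntegralHom_left⟩

theorem isPullback (h : GluedBy i j a b) : IsPullback i j a b := by
  have := h.isClosedImmersion_right
  let l : Z ⟶ pullback a b := pullback.lift i j h.isPushout.w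
  have : IsClosedImmersion (pullback.fst a b) :=
    MorphismProperty.of_isPullback (IsPullback.of_hasPullback a b).flip inferInstance
  have : IsClosedImmersion l := by
    have : IsClosedImmersion (l ≫ pullback.fst a b) := by
      rw [pullback.lift_fst]; infer_instance
    exact IsClosedImmersion.of_comp l (pullback.fst a b)
  suffices IsIso l by
    exact IsPullback.of_iso_pullback h.isPushout.toCommSq (asIso l) (pullback.lift_fst _ _ _)
      (pullback.lift_snd _ _ _)
  suffices ∀ q : (pullback a b : Scheme.{u}), ∃ O : (pullback a b).Opens, q ∈ O ∧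
      ∃ s : O.toScheme ⟶ Z, s ≫ l = O.ι by
    choose O hO s hs using this
    have hmono : Mono l := inferInstance
    obtain ⟨S, hS⟩ := exists_glue O ⊤ (eq_top_iff.mpr fun q _ => Opens.mem_iSup.mpr ⟨q, hO q⟩) s
      fun q q' => by
        rw [← cancel_mono l, Category.assoc, Category.assoc, hs, hs, Scheme.homOfLE_ι,
          Scheme.homOfLE_ι]
    refine ⟨(pullback a b).topIso.inv ≫ S, ?_, ?_⟩
    · rw [← cancel_mono l, Category.assoc, Category.assoc, Category.id_comp]
      conv_rhs => rw [← Category.comp_id l]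
      congr 1
      rw [Iso.inv_comp_eq, Category.comp_id]
      refine hom_ext_iSup O ⊤ (eq_top_iff.mpr fun q _ => Opens.mem_iSup.mpr ⟨q, hO q⟩) fun q hq => ?_
      rw [← Category.assoc, hS q hq, hs, Scheme.topIso_hom, Scheme.homOfLE_ι]
    · rw [Category.assoc, Iso.inv_comp_eq, Category.comp_id]
      refine hom_ext_iSup O ⊤ (eq_top_iff.mpr fun q _ => Opens.mem_iSup.mpr ⟨q, hO q⟩) fun q hq => ?_
      rw [← Category.assoc, hS q hq, hs, Scheme.topIso_hom, Scheme.homOfLE_ι]
  intro q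
  obtain ⟨k, e, he, hp, e₁, e₂, e₃, e₄⟩ := h.chart ((pullback.fst a b ≫ a) q)
  let O : (pullback a b).Opens := (pullback.fst a b ≫ a) ⁻¹ᵁ e.opensRange
  have r₁ : Set.range (O.ι ≫ pullback.fst a b) ⊆ Set.range k.U.ι := by
    rintro _ ⟨z, rfl⟩
    rw [Scheme.Opens.range_ι, ← e₃]
    exact z.2
  have r₂ : Set.range (O.ι ≫ pullback.snd a b) ⊆ Set.range k.V.ι := by
    rintro _ ⟨z, rfl⟩
    rw [Scheme.Opens.range_ι, ← e₄, Set.mem_preimage, ← Scheme.Hom.comp_apply, Category.assoc,
      ← pullback.condition]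
    exact z.2
  have : IsClosedImmersion (i.resLE k.U (i ⁻¹ᵁ k.U) le_rfl) := by
    rw [Scheme.Hom.resLE_eq_morphismRestrict]
    exact MorphismProperty.of_isPullback (isPullback_morphismRestrict i k.U).flip inferInstance
  let s := k.affSq.isPullback (i := i.resLE k.U (i ⁻¹ᵁ k.U) le_rfl) |>.lift
    (IsOpenImmersion.lift k.U.ι _ r₁) (IsOpenImmersion.lift k.V.ι _ r₂) (by
      rw [← cancel_mono e, Category.assoc, Category.assoc, ← e₁, ← e₂,
        IsOpenImmersion.lift_fac_assoc, IsOpenImmersion.lift_fac_assoc, Category.assoc,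
        Category.assoc, pullback.condition])
  have hs₁ : s ≫ i.resLE k.U (i ⁻¹ᵁ k.U) le_rfl = _ := IsPullback.lift_fst _ _ _ _
  have hs₂ : s ≫ j.resLE k.V (i ⁻¹ᵁ k.U) k.eq.le = _ := IsPullback.lift_snd _ _ _ _
  refine ⟨O, hp, s ≫ (i ⁻¹ᵁ k.U).ι, pullback.hom_ext ?_ ?_⟩
  · rw [Category.assoc, Category.assoc, pullback.lift_fst,
      ← Scheme.Hom.resLE_comp_ι i (le_refl (i ⁻¹ᵁ k.U)), reassoc_of% hs₁, IsOpenImmersion.lift_fac]
  · rw [Category.assoc, Category.assoc, pullback.lift_snd,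
      ← Scheme.Hom.resLE_comp_ι j k.eq.le, reassoc_of% hs₂, IsOpenImmersion.lift_fac]

end GluedBy

end Groth.Agent.Lib.Ferrand
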