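import Groth.Agent.Lib.Ferrand.Affine
import Mathlib.Algebra.Category.Ring.Constructions
import Mathlib.AlgebraicGeometry.Morphisms.ClosedImmersion

/-!
# Spectra of fibre products of rings along surjections
-/

universe u

open CategoryTheory Limits AlgebraicGeometry

namespace Groth.Agent.Lib.Ferrand

theorem isSq_of_isPullback {R B A' A : CommRingCat.{u}} {r : R ⟶ B} {s : R ⟶ A'} {q : B ⟶ A}
    {p : A' ⟶ A} (h : IsPullback r s q p) (hp : Function.Surjective p.hom) :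
    IsSq r.hom s.hom q.hom p.hom := by
  obtain ⟨e, he₁, he₂⟩ : ∃ e : R ≅ (CommRingCat.pullbackCone q p).pt,
      e.hom ≫ (CommRingCat.pullbackCone q p).fst = r ∧
      e.hom ≫ (CommRingCat.pullbackCone q p).snd = s :=
    ⟨h.isLimit.conePointUniqueUpToIso (CommRingCat.pullbackConeIsLimit q p),
      h.isLimit.conePointUniqueUpToIso_hom_comp _ WalkingCospan.left,
      h.isLimit.conePointUniqueUpToIso_hom_comp _ WalkingCospan.right⟩
  let E := e.commRingCatIsoToRingEquiv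
  have h₁ : ∀ x, r.hom x = (CommRingCat.pullbackCone q p).fst.hom (E x) :=
    fun x => (congr($he₁ x)).symm
  have h₂ : ∀ x, s.hom x = (CommRingCat.pullbackCone q p).snd.hom (E x) :=
    fun x => (congr($he₂ x)).symm
  refine ⟨fun x => congr($h.w x), hp, fun x y hr hs => E.injective (Subtype.ext (Prod.ext ?_ ?_)),
    fun b a hba => ⟨E.symm ⟨(b, a), hba⟩, ?_, ?_⟩⟩
  · exact (h₁ x).symm.trans (hr.trans (h₁ y))
  · exact (h₂ x).symm.trans (hs.trans (h₂ y))
  · exact (h₁ _).trans (congrArg _ (E.apply_symm_apply _))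
  · exact (h₂ _).trans (congrArg _ (E.apply_symm_apply _))

theorem IsSq.congr_iso {R B A' A R₁ B₁ A₁' A₁ : Type u} [CommRing R] [CommRing B] [CommRing A']
    [CommRing A] [CommRing R₁] [CommRing B₁] [CommRing A₁'] [CommRing A₁]
    {r : R →+* B} {s : R →+* A'} {q : B →+* A} {p : A' →+* A} (h : IsSq r s q p)
    (eR : R ≃+* R₁) (eB : B ≃+* B₁) (eA' : A' ≃+* A₁') (eA : A ≃+* A₁)
    (r₁ : R₁ →+* B₁) (s₁ : R₁ →+* A₁') (q₁ : B₁ →+* A₁) (p₁ : A₁' →+* A₁)
    (hr : ∀ x, r₁ (eR x) = eB (r x)) (hs : ∀ x, s₁ (eR x) = eA' (s x))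
    (hq : ∀ x, q₁ (eB x) = eA (q x)) (hp : ∀ x, p₁ (eA' x) = eA (p x)) :
    IsSq r₁ s₁ q₁ p₁ := by
  refine ⟨fun x => ?_, fun z => ?_, fun x y h₁ h₂ => ?_, fun b a hba => ?_⟩
  · obtain ⟨x, rfl⟩ := eR.surjective x
    rw [hr, hs, hq, hp, h.comm]
  · obtain ⟨a, ha⟩ := h.surj (eA.symm z)
    exact ⟨eA' a, by rw [hp, ha, RingEquiv.apply_symm_apply]⟩
  · obtain ⟨x, rfl⟩ := eR.surjective x
    obtain ⟨y, rfl⟩ := eR.surjective y
    rw [hr, hr] at h₁
    rw [hs, hs] at h₂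
    exact congrArg eR (h.ext x y (eB.injective h₁) (eA'.injective h₂))
  · obtain ⟨b, rfl⟩ := eB.surjective b
    obtain ⟨a, rfl⟩ := eA'.surjective a
    rw [hq, hp] at hba
    obtain ⟨x, hx₁, hx₂⟩ := h.lift b a (eA.injective hba)
    exact ⟨eR x, by rw [hr, hx₁], by rw [hs, hx₂]⟩

theorem affSq_Spec {R B A' A : CommRingCat.{u}} {r : R ⟶ B} {s : R ⟶ A'} {q : B ⟶ A}
    {p : A' ⟶ A} (hw : r ≫ q = s ≫ p) (h : IsSq r.hom s.hom q.hom p.hom) :
    AffSq (Spec.map p) (Spec.map q) (Spec.map s) (Spec.map r) where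
  affZ := inferInstance
  affX := inferInstance
  affY := inferInstance
  affP := inferInstance
  w := by rw [← Spec.map_comp, ← Spec.map_comp, hw]
  sq := h.congr_iso (Scheme.ΓSpecIso R).symm.commRingCatIsoToRingEquiv
    (Scheme.ΓSpecIso B).symm.commRingCatIsoToRingEquiv
    (Scheme.ΓSpecIso A').symm.commRingCatIsoToRingEquiv
    (Scheme.ΓSpecIso A).symm.commRingCatIsoToRingEquiv _ _ _ _
    (fun x => (congr($(Scheme.ΓSpecIso_inv_naturality r) x)).symm)
    (fun x => (congr($(Scheme.ΓSpecIso_inv_naturality s) x)).symm)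
    (fun x => (congr($(Scheme.ΓSpecIso_inv_naturality q) x)).symm)
    (fun x => (congr($(Scheme.ΓSpecIso_inv_naturality p) x)).symm)

end Groth.Agent.Lib.Ferrand
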