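import Groth.Agent.Lib.Ferrand.Pairs

/-!
# Charts of pushouts along closed immersions
-/

universe u

open CategoryTheory Limits AlgebraicGeometry TopologicalSpace

namespace Groth.Agent.Lib.Ferrand

variable {X Y Z P : Scheme.{u}} {i : Z ⟶ X} {j : Z ⟶ Y} {a : X ⟶ P} {b : Y ⟶ P}

/-- Every affine pair gives an affine open chart of any pushout. -/
theorem exists_chart [IsClosedImmersion i] (hcov : ∀ y : Y, ∃ k : AffPair i j, y ∈ k.V)
    (hP : IsPushout i j a b) (k : AffPair i j) :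
    ∃ e : k.obj ⟶ P, IsOpenImmersion e ∧ k.U.ι ≫ a = k.a ≫ e ∧ k.V.ι ≫ b = k.b ≫ e ∧
      a ⁻¹' Set.range e = (k.U : Set X) ∧ b ⁻¹' Set.range e = (k.V : Set Y) := by
  obtain ⟨a', b', hpo, hk, hpre, -⟩ := exists_pushout hcov
  let φ := hpo.isoIsPushout _ _ hP
  have h₁ : a' ≫ φ.hom = a := hpo.inl_isoIsPushout_hom _ _ hP
  have h₂ : b' ≫ φ.hom = b := hpo.inr_isoIsPushout_hom _ _ hP
  have hr : Set.range (k.ι ≫ φ.hom) = φ.hom '' Set.range k.ι := by
    rw [Scheme.Hom.comp_base, TopCat.coe_comp, Set.range_comp]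
  refine ⟨k.ι ≫ φ.hom, inferInstance, ?_, ?_, ?_, ?_⟩
  · rw [← h₁, reassoc_of% (hk k).1]
  · rw [← h₂, reassoc_of% (hk k).2]
  · rw [← h₁, hr, Scheme.Hom.comp_base, TopCat.coe_comp, Set.preimage_comp,
      Set.preimage_image_eq _ φ.hom.isOpenEmbedding.injective]
    exact congrArg (fun U : X.Opens => (U : Set X)) (hpre k).1
  · rw [← h₂, hr, Scheme.Hom.comp_base, TopCat.coe_comp, Set.preimage_comp,
      Set.preimage_image_eq _ φ.hom.isOpenEmbedding.injective]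
    exact congrArg (fun U : Y.Opens => (U : Set Y)) (hpre k).2

/-- The image of an affine pair is an affine open of the pushout with the given preimages. -/
theorem exists_affineOpen_of_pair [IsClosedImmersion i]
    (hcov : ∀ y : Y, ∃ k : AffPair i j, y ∈ k.V) (hP : IsPushout i j a b) (k : AffPair i j) :
    ∃ O : P.Opens, IsAffineOpen O ∧ a ⁻¹ᵁ O = k.U ∧ b ⁻¹ᵁ O = k.V := by
  obtain ⟨e, he, -, -, e₃, e₄⟩ := exists_chart hcov hP k
  have := k.affSq.affP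
  refine ⟨e.opensRange, isAffineOpen_opensRange e, ?_, ?_⟩
  · ext1; exact e₃
  · ext1; exact e₄

/-- A square with an affine open cover of the target by Ferrand squares is a pushout. -/
theorem isPushout_of_affine_cover [IsClosedImmersion i]
    (hcov : ∀ y : Y, ∃ k : AffPair i j, y ∈ k.V) (hw : i ≫ a = j ≫ b)
    (hloc : ∀ p : P, ∃ (O : P.Opens) (k : AffPair i j) (a₀ : k.U.toScheme ⟶ O.toScheme)
      (b₀ : k.V.toScheme ⟶ O.toScheme), p ∈ O ∧ a ⁻¹ᵁ O = k.U ∧ b ⁻¹ᵁ O = k.V ∧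
        a₀ ≫ O.ι = k.U.ι ≫ a ∧ b₀ ≫ O.ι = k.V.ι ≫ b ∧
        AffSq (i.resLE k.U (i ⁻¹ᵁ k.U) le_rfl) (j.resLE k.V (i ⁻¹ᵁ k.U) k.eq.le) a₀ b₀) :
    IsPushout i j a b := by
  obtain ⟨P', a', b', hg⟩ := exists_gluedBy hcov
  let φ := hg.isPushout.desc a b hw
  have h₁ : a' ≫ φ = a := hg.isPushout.inl_desc _ _ _
  have h₂ : b' ≫ φ = b := hg.isPushout.inr_desc _ _ _
  suffices hφ : IsIso φ from
    hg.isPushout.of_iso (Iso.refl _) (Iso.refl _) (Iso.refl _) (asIso φ) (by simp) (by simp)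
      (by simp [h₁]) (by simp [h₂])
  choose O k a₀ b₀ hpO hOa hOb ha₀ hb₀ hsq using hloc
  refine (IsZariskiLocalAtTarget.iff_of_iSup_eq_top (P := MorphismProperty.isomorphisms Scheme) O
    (eq_top_iff.mpr fun p _ => Opens.mem_iSup.mpr ⟨p, hpO p⟩)).mpr fun p => ?_
  obtain ⟨e, he, e₁, e₂, e₃, e₄⟩ := exists_chart hcov hg.isPushout (k p)
  let ψ := (k p).affSq.isPushout.isoIsPushout _ _ (hsq p).isPushout
  have hψ₁ : (k p).a ≫ ψ.hom = a₀ p := (k p).affSq.isPushout.inl_isoIsPushout_hom _ _ _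
  have hψ₂ : (k p).b ≫ ψ.hom = b₀ p := (k p).affSq.isPushout.inr_isoIsPushout_hom _ _ _
  have hcomm : e ≫ φ = ψ.hom ≫ (O p).ι := by
    refine (k p).hom_ext ?_ ?_
    · rw [← Category.assoc, ← e₁, Category.assoc, h₁, ← Category.assoc, hψ₁, ha₀]
    · rw [← Category.assoc, ← e₂, Category.assoc, h₂, ← Category.assoc, hψ₂, hb₀]
  have hrange : φ ⁻¹ᵁ O p = e.opensRange := by
    ext q
    rcases hg.surj q with ⟨x, rfl⟩ | ⟨y, rfl⟩
    · refine Iff.trans ?_ (Set.ext_iff.mp e₃ x).symm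
      show (a' ≫ φ) x ∈ O p ↔ _
      rw [h₁]
      exact SetLike.ext_iff.mp (hOa p) x
    · refine Iff.trans ?_ (Set.ext_iff.mp e₄ y).symm
      show (b' ≫ φ) y ∈ O p ↔ _
      rw [h₂]
      exact SetLike.ext_iff.mp (hOb p) y
  let ε := IsOpenImmersion.isoOfRangeEq e (φ ⁻¹ᵁ O p).ι
    (by rw [Scheme.Opens.range_ι, hrange]; rfl)
  have hε : ε.inv ≫ e = (φ ⁻¹ᵁ O p).ι := IsOpenImmersion.isoOfRangeEq_inv_fac _ _ _
  show IsIso (φ ∣_ O p)
  have : φ ∣_ O p = ε.inv ≫ ψ.hom := by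
    rw [← cancel_mono (O p).ι, morphismRestrict_ι, Category.assoc, ← hcomm, ← Category.assoc, hε]
  rw [this]
  infer_instance

end Groth.Agent.Lib.Ferrand
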