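import Groth.Agent.Lib.Ferrand.BaseChangeRing
import Groth.Agent.Lib.Ferrand.Chart
import Mathlib.AlgebraicGeometry.Morphisms.Flat

/-!
# Base change of pushouts along closed immersions
-/

universe u

open CategoryTheory Limits AlgebraicGeometry TopologicalSpace

namespace Groth.Agent.Lib.Ferrand

variable {X Y Z P S S' X' Y' Z' P' : Scheme.{u}} {i : Z ⟶ X} {j : Z ⟶ Y} {a : X ⟶ P} {b : Y ⟶ P}

theorem AffSq.comp_iso (h : AffSq i j a b) (ψ : P ≅ P') :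
    AffSq i j (a ≫ ψ.hom) (b ≫ ψ.hom) := by
  have := h.affP
  refine ⟨h.affZ, h.affX, h.affY, .of_isIso ψ.inv, by rw [reassoc_of% h.w], ?_⟩
  let e : Γ(P', ⊤) ≅ Γ(P, ⊤) :=
    ⟨ψ.hom.appTop, ψ.inv.appTop, by rw [← Scheme.Hom.comp_appTop, Iso.inv_hom_id]; rfl,
      by rw [← Scheme.Hom.comp_appTop, Iso.hom_inv_id]; rfl⟩
  refine h.sq.congr_iso e.symm.commRingCatIsoToRingEquiv (RingEquiv.refl _) (RingEquiv.refl _)
    (RingEquiv.refl _) _ _ _ _ (fun x => ?_) (fun x => ?_) (fun x => rfl) (fun x => rfl)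
  · show (b ≫ ψ.hom).appTop (ψ.inv.appTop x) = b.appTop x
    rw [Scheme.Hom.comp_appTop]
    exact congrArg b.appTop.hom congr($(e.inv_hom_id) x)
  · show (a ≫ ψ.hom).appTop (ψ.inv.appTop x) = a.appTop x
    rw [Scheme.Hom.comp_appTop]
    exact congrArg a.appTop.hom congr($(e.inv_hom_id) x)

theorem GluedBy.cover [IsClosedImmersion i] (h : GluedBy i j a b) (y : Y) :
    ∃ k : AffPair i j, y ∈ k.V := by
  obtain ⟨k, e, -, hp, -, -, -, e₄⟩ := h.chart (b y)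
  exact ⟨k, e₄.le hp⟩

/-- A glued pushout is a Ferrand square over every affine open. -/
theorem GluedBy.affSq_restrict [IsClosedImmersion i] (h : GluedBy i j a b) (O : P.Opens)
    (hO : IsAffineOpen O) (e : i ⁻¹ᵁ (a ⁻¹ᵁ O) ≤ j ⁻¹ᵁ (b ⁻¹ᵁ O)) :
    AffSq (i.resLE (a ⁻¹ᵁ O) (i ⁻¹ᵁ (a ⁻¹ᵁ O)) le_rfl)
      (j.resLE (b ⁻¹ᵁ O) (i ⁻¹ᵁ (a ⁻¹ᵁ O)) e)
      (a.resLE O (a ⁻¹ᵁ O) le_rfl) (b.resLE O (b ⁻¹ᵁ O) le_rfl) := by
  have := h.isAffineHom_left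
  have := h.isClosedImmersion_right
  let k : AffPair i j := ⟨a ⁻¹ᵁ O, b ⁻¹ᵁ O, hO.preimage a, hO.preimage b, by
    rw [← Scheme.Hom.comp_preimage, ← Scheme.Hom.comp_preimage, h.isPushout.w]⟩
  obtain ⟨c, hc, c₁, c₂, c₃, c₄⟩ := exists_chart h.cover h.isPushout k
  have hr : Set.range c = Set.range O.ι := by
    rw [Scheme.Opens.range_ι]
    ext p
    rcases h.surj p with ⟨x, rfl⟩ | ⟨y, rfl⟩
    · exact Set.ext_iff.mp c₃ x
    · exact Set.ext_iff.mp c₄ y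
  let ψ := IsOpenImmersion.isoOfRangeEq c O.ι hr
  have hψ : ψ.hom ≫ O.ι = c := IsOpenImmersion.isoOfRangeEq_hom_fac _ _ _
  have ha : k.a ≫ ψ.hom = a.resLE O (a ⁻¹ᵁ O) le_rfl := by
    rw [← cancel_mono O.ι, Category.assoc, hψ, Scheme.Hom.resLE_comp_ι]
    exact c₁.symm
  have hb : k.b ≫ ψ.hom = b.resLE O (b ⁻¹ᵁ O) le_rfl := by
    rw [← cancel_mono O.ι, Category.assoc, hψ, Scheme.Hom.resLE_comp_ι]
    exact c₂.symm
  have := k.affSq.comp_iso ψ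
  rw [ha, hb] at this
  exact this

/-- Ferrand squares of affine schemes are stable under flat base change, and under any base change
if the corner is flat. -/
theorem AffSq.baseChange [IsAffine S] [IsAffine S'] (h : AffSq i j a b) (g : P ⟶ S) (t : S' ⟶ S)
    {pP : P' ⟶ P} {gP : P' ⟶ S'} (hP : IsPullback pP gP g t)
    {pX : X' ⟶ X} {a' : X' ⟶ P'} (hX : IsPullback pX a' a pP)
    {pY : Y' ⟶ Y} {b' : Y' ⟶ P'} (hY : IsPullback pY b' b pP)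
    {pZ : Z' ⟶ Z} {i' : Z' ⟶ X'} (hZ : IsPullback pZ i' i pX)
    {j' : Z' ⟶ Y'} (hj : j' ≫ pY = pZ ≫ j) (hw : i' ≫ a' = j' ≫ b')
    (hfl : Flat t ∨ Flat (i ≫ a ≫ g)) : AffSq i' j' a' b' := by
  have := h.affX; have := h.affY; have := h.affZ; have := h.affP
  have hX' := hX.paste_vert hP
  have hY' := hY.paste_vert hP
  have hZ' : IsPullback pZ (i' ≫ a' ≫ gP) (i ≫ a ≫ g) t := hZ.paste_vert hX'
  have : IsAffine P' := .of_isPullback hP
  have : IsAffine X' := .of_isPullback hX'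
  have : IsAffine Y' := .of_isPullback hY'
  have : IsAffine Z' := .of_isPullback hZ'
  refine ⟨‹_›, ‹_›, ‹_›, ‹_›, hw, ?_⟩
  have kR := (isPushout_appTop_of_isPullback hP).flip
  have kB : IsPushout t.appTop (g.appTop ≫ b.appTop) (b' ≫ gP).appTop pY.appTop := by
    rw [← Scheme.Hom.comp_appTop]; exact (isPushout_appTop_of_isPullback hY').flip
  have kA' : IsPushout t.appTop (g.appTop ≫ a.appTop) (a' ≫ gP).appTop pX.appTop := by
    rw [← Scheme.Hom.comp_appTop]; exact (isPushout_appTop_of_isPullback hX').flip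
  have hq : g.appTop ≫ b.appTop ≫ j.appTop = (i ≫ a ≫ g).appTop := by
    rw [← Scheme.Hom.comp_appTop, ← Scheme.Hom.comp_appTop, Category.assoc, reassoc_of% h.w]
  have kA : IsPushout t.appTop (g.appTop ≫ b.appTop ≫ j.appTop) (i' ≫ a' ≫ gP).appTop pZ.appTop := by
    rw [hq]; exact (isPushout_appTop_of_isPullback hZ').flip
  refine h.sq.baseChange t.appTop g.appTop kR kB kA' kA ?_ ?_ ?_ ?_ ?_ ?_ ?_ ?_ ?_
  · rw [← Scheme.Hom.comp_appTop, ← Scheme.Hom.comp_appTop, hY.w]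
  · rw [← Scheme.Hom.comp_appTop]
  · rw [← Scheme.Hom.comp_appTop, ← Scheme.Hom.comp_appTop, hX.w]
  · rw [← Scheme.Hom.comp_appTop]
  · rw [← Scheme.Hom.comp_appTop, ← Scheme.Hom.comp_appTop, hj]
  · rw [← Scheme.Hom.comp_appTop, reassoc_of% hw]
  · rw [← Scheme.Hom.comp_appTop, ← Scheme.Hom.comp_appTop, hZ.w]
  · rw [← Scheme.Hom.comp_appTop]
  · rcases hfl with hf | hf
    · exact .inl ((HasRingHomProperty.iff_of_isAffine (P := @Flat)).mp hf)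
    · refine .inr ?_
      rw [hq]
      exact (HasRingHomProperty.iff_of_isAffine (P := @Flat)).mp hf

theorem flat_resLE {A B : Scheme.{u}} (f : A ⟶ B) [Flat f] (U : B.Opens) (V : A.Opens)
    (e : V ≤ f ⁻¹ᵁ U) : Flat (f.resLE U V e) := by
  unfold Scheme.Hom.resLE
  infer_instance

/-- Pushouts along closed immersions commute with flat base change, and with any base change if
the glued subscheme is flat over the base. -/
theorem GluedBy.baseChange [IsClosedImmersion i] (h : GluedBy i j a b) (g : P ⟶ S) (t : S' ⟶ S)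
    {pP : P' ⟶ P} {gP : P' ⟶ S'} (hP : IsPullback pP gP g t)
    {pX : X' ⟶ X} {a' : X' ⟶ P'} (hX : IsPullback pX a' a pP)
    {pY : Y' ⟶ Y} {b' : Y' ⟶ P'} (hY : IsPullback pY b' b pP)
    {pZ : Z' ⟶ Z} {i' : Z' ⟶ X'} (hZ : IsPullback pZ i' i pX)
    {j' : Z' ⟶ Y'} (hj : j' ≫ pY = pZ ≫ j) (hw : i' ≫ a' = j' ≫ b')
    (hfl : Flat t ∨ Flat (i ≫ a ≫ g)) : IsPushout i' j' a' b' := by
  have := h.isAffineHom_left
  have := h.isClosedImmersion_right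
  have : IsClosedImmersion i' := MorphismProperty.of_isPullback hZ inferInstance
  have : IsClosedImmersion b' := MorphismProperty.of_isPullback hY inferInstance
  have : IsAffineHom a' := MorphismProperty.of_isPullback hX inferInstance
  have local' : ∀ p : P', ∃ (O : P'.Opens) (k : AffPair i' j') (a₀ : k.U.toScheme ⟶ O.toScheme)
      (b₀ : k.V.toScheme ⟶ O.toScheme), p ∈ O ∧ a' ⁻¹ᵁ O = k.U ∧ b' ⁻¹ᵁ O = k.V ∧
        a₀ ≫ O.ι = k.U.ι ≫ a' ∧ b₀ ≫ O.ι = k.V.ι ≫ b' ∧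
        AffSq (i'.resLE k.U (i' ⁻¹ᵁ k.U) le_rfl) (j'.resLE k.V (i' ⁻¹ᵁ k.U) k.eq.le) a₀ b₀ := by
    intro p
    obtain ⟨U, hU, hpU, -⟩ := exists_isAffineOpen_mem_and_subset
      (x := g (pP p)) (U := ⊤) trivial
    obtain ⟨U', hU', hpU', hU'le⟩ := exists_isAffineOpen_mem_and_subset
      (x := gP p) (U := t ⁻¹ᵁ U) (show t (gP p) ∈ U by
        rw [← Scheme.Hom.comp_apply, ← hP.w, Scheme.Hom.comp_apply]; exact hpU)
    obtain ⟨O, hO, hpO, hOle'⟩ := exists_isAffineOpen_mem_and_subset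
      (x := pP p) (U := g ⁻¹ᵁ U) hpU
    have hOle : O ≤ g ⁻¹ᵁ U := hOle'
    obtain ⟨O', hO'⟩ : ∃ O' : P'.Opens, O' = pP ⁻¹ᵁ O ⊓ gP ⁻¹ᵁ U' := ⟨_, rfl⟩
    have : IsAffine U.toScheme := hU
    have : IsAffine U'.toScheme := hU'
    have : IsAffine O.toScheme := hO
    have rP := Scheme.Hom.isPullback_resLE hP (US := U) (UT := U') (UX := O) hU'le hOle hO'
    have hO'aff : IsAffineOpen O' := IsAffine.of_isPullback rP
    have hO'le : O' ≤ pP ⁻¹ᵁ O := hO'.le.trans inf_le_left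
    have eX : a' ⁻¹ᵁ O' = pX ⁻¹ᵁ (a ⁻¹ᵁ O) ⊓ a' ⁻¹ᵁ O' := by
      refine (inf_eq_right.mpr fun x hx => ?_).symm
      show a (pX x) ∈ O
      rw [← Scheme.Hom.comp_apply, hX.w, Scheme.Hom.comp_apply]
      exact hO'le hx
    have eY : b' ⁻¹ᵁ O' = pY ⁻¹ᵁ (b ⁻¹ᵁ O) ⊓ b' ⁻¹ᵁ O' := by
      refine (inf_eq_right.mpr fun x hx => ?_).symm
      show b (pY x) ∈ O
      rw [← Scheme.Hom.comp_apply, hY.w, Scheme.Hom.comp_apply]
      exact hO'le hx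
    have eZ : i' ⁻¹ᵁ (a' ⁻¹ᵁ O') =
        pZ ⁻¹ᵁ (i ⁻¹ᵁ (a ⁻¹ᵁ O)) ⊓ i' ⁻¹ᵁ (a' ⁻¹ᵁ O') := by
      refine (inf_eq_right.mpr fun x hx => ?_).symm
      show i (pZ x) ∈ a ⁻¹ᵁ O
      rw [← Scheme.Hom.comp_apply, hZ.w, Scheme.Hom.comp_apply]
      exact (eX.le hx).1
    have rX := Scheme.Hom.isPullback_resLE hX (US := O) (UT := O') (UX := a ⁻¹ᵁ O) hO'le le_rfl eX
    have rY := Scheme.Hom.isPullback_resLE hY (US := O) (UT := O') (UX := b ⁻¹ᵁ O) hO'le le_rfl eY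
    have rZ := Scheme.Hom.isPullback_resLE hZ (US := a ⁻¹ᵁ O) (UT := a' ⁻¹ᵁ O')
      (UX := i ⁻¹ᵁ (a ⁻¹ᵁ O)) (fun x hx => (eX.le hx).1) le_rfl eZ
    have e₁ : i ⁻¹ᵁ (a ⁻¹ᵁ O) = j ⁻¹ᵁ (b ⁻¹ᵁ O) := by
      rw [← Scheme.Hom.comp_preimage, ← Scheme.Hom.comp_preimage, h.isPushout.w]
    have e₂ : i' ⁻¹ᵁ (a' ⁻¹ᵁ O') = j' ⁻¹ᵁ (b' ⁻¹ᵁ O') := by
      rw [← Scheme.Hom.comp_preimage, ← Scheme.Hom.comp_preimage, hw]
    refine ⟨O', ⟨_, _, hO'aff.preimage a', hO'aff.preimage b', e₂⟩, a'.resLE O' _ le_rfl,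
      b'.resLE O' _ le_rfl, hO'.ge ⟨hpO, hpU'⟩, rfl, rfl, Scheme.Hom.resLE_comp_ι _ _,
      Scheme.Hom.resLE_comp_ι _ _, ?_⟩
    refine (h.affSq_restrict O hO e₁.le).baseChange _ _ rP rX rY rZ ?_ ?_ ?_
    · rw [← cancel_mono (b ⁻¹ᵁ O).ι]
      simp [hj]
    · rw [← cancel_mono O'.ι]
      simp [hw]
    · rcases hfl with hf | hf
      · exact .inl (flat_resLE t _ _ _)
      · refine .inr ?_
        rw [Scheme.Hom.resLE_comp_resLE, Scheme.Hom.resLE_comp_resLE]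
        exact flat_resLE _ _ _ _
  refine isPushout_of_affine_cover (fun y => ?_) hw local'
  obtain ⟨O, k, -, -, hy, -, hk, -⟩ := local' (b' y)
  exact ⟨k, hk.le hy⟩

end Groth.Agent.Lib.Ferrand
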