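import Groth.Agent.Lib.Ferrand.CartesianRing
import Groth.Agent.Lib.Ferrand.BaseChange

/-!
# Cartesian maps of pushouts along closed immersions
-/

universe u

open CategoryTheory Limits AlgebraicGeometry TopologicalSpace

namespace Groth.Agent.Lib.Ferrand

theorem isPullback_of_appTop {A B C D : Scheme.{u}} [IsAffine A] [IsAffine B] [IsAffine C]
    [IsAffine D] {fst : A ⟶ B} {snd : A ⟶ C} {f : B ⟶ D} {g : C ⟶ D}
    (h : IsPushout f.appTop g.appTop fst.appTop snd.appTop) : IsPullback fst snd f g :=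
  IsPullback.of_iso (isPullback_SpecMap_of_isPushout _ _ _ _ h) A.isoSpec.symm B.isoSpec.symm
    C.isoSpec.symm D.isoSpec.symm (Scheme.isoSpec_inv_naturality fst)
    (Scheme.isoSpec_inv_naturality snd) (Scheme.isoSpec_inv_naturality f)
    (Scheme.isoSpec_inv_naturality g)

variable {X Y Z P X' Y' Z' P' : Scheme.{u}}

set_option backward.isDefEq.respectTransparency false in
theorem isPullback_of_local {f : X' ⟶ X} {a' : X' ⟶ P'} {a : X ⟶ P} {k : P' ⟶ P}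
    (hw : f ≫ a = a' ≫ k)
    (H : ∀ p : P', ∃ (O : P.Opens) (O' : P'.Opens) (e : O' ≤ k ⁻¹ᵁ O)
      (e' : a' ⁻¹ᵁ O' ≤ f ⁻¹ᵁ (a ⁻¹ᵁ O)), p ∈ O' ∧
        IsPullback (f.resLE (a ⁻¹ᵁ O) (a' ⁻¹ᵁ O') e') (a'.resLE O' (a' ⁻¹ᵁ O') le_rfl)
          (a.resLE O (a ⁻¹ᵁ O) le_rfl) (k.resLE O O' e)) :
    IsPullback f a' a k := by
  let l : X' ⟶ pullback a k := pullback.lift f a' hw
  suffices IsIso l from
    IsPullback.of_iso_pullback ⟨hw⟩ (asIso l) (pullback.lift_fst _ _ _) (pullback.lift_snd _ _ _)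
  choose O O' e e' hp hpb using H
  refine (IsZariskiLocalAtTarget.iff_of_iSup_eq_top (P := MorphismProperty.isomorphisms Scheme)
    (fun p => pullback.snd a k ⁻¹ᵁ O' p)
    (eq_top_iff.mpr fun q _ => Opens.mem_iSup.mpr ⟨_, hp (pullback.snd a k q)⟩)).mpr fun p => ?_
  have hUY : pullback.snd a k ⁻¹ᵁ O' p =
      pullback.fst a k ⁻¹ᵁ (a ⁻¹ᵁ O p) ⊓ pullback.snd a k ⁻¹ᵁ O' p := by
    refine (inf_eq_right.mpr ?_).symm
    rw [← Scheme.Hom.comp_preimage, pullback.condition, Scheme.Hom.comp_preimage]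
    exact fun q hq => e p hq
  have hQ := Scheme.Hom.isPullback_resLE (IsPullback.of_hasPullback a k) (US := O p) (UT := O' p)
    (UX := a ⁻¹ᵁ O p) (e p) le_rfl hUY
  have hl : l ⁻¹ᵁ (pullback.snd a k ⁻¹ᵁ O' p) = a' ⁻¹ᵁ O' p := by
    rw [← Scheme.Hom.comp_preimage, pullback.lift_snd]
  show IsIso (l ∣_ (pullback.snd a k ⁻¹ᵁ O' p))
  rw [← Scheme.Hom.resLE_eq_morphismRestrict]
  refine (Scheme.Hom.resLE_congr l le_rfl rfl hl (MorphismProperty.isomorphisms Scheme)).mpr ?_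
  show IsIso _
  have : l.resLE (pullback.snd a k ⁻¹ᵁ O' p) (a' ⁻¹ᵁ O' p) hl.ge =
      ((hpb p).isoIsPullback _ _ hQ).hom := by
    refine hQ.hom_ext ?_ ?_
    · rw [IsPullback.isoIsPullback_hom_fst, ← cancel_mono (a ⁻¹ᵁ O p).ι]
      simp [l]
    · rw [IsPullback.isoIsPullback_hom_snd, ← cancel_mono (O' p).ι]
      simp [l]
  rw [this]
  infer_instance

variable {i : Z ⟶ X} {j : Z ⟶ Y} {a : X ⟶ P} {b : Y ⟶ P}
  {i' : Z' ⟶ X'} {j' : Z' ⟶ Y'} {a' : X' ⟶ P'} {b' : Y' ⟶ P'}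
  {f : X' ⟶ X} {g : Y' ⟶ Y} {c : Z' ⟶ Z} {k : P' ⟶ P}

theorem AffSq.cartesian (h : AffSq i j a b) (h' : AffSq i' j' a' b') (hX : IsPullback c i' i f)
    (hY : IsPullback c j' j g) (ha : a' ≫ k = f ≫ a) (hb : b' ≫ k = g ≫ b) :
    IsPullback f a' a k ∧ IsPullback g b' b k ∧
      (LocallyOfFiniteType f → LocallyOfFiniteType g → LocallyOfFiniteType k) := by
  have := h.affX; have := h.affY; have := h.affZ; have := h.affP
  have := h'.affX; have := h'.affY; have := h'.affZ; have := h'.affP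
  have hm : IsCartMap b.appTop a.appTop j.appTop i.appTop b'.appTop a'.appTop j'.appTop i'.appTop
      k.appTop g.appTop f.appTop c.appTop :=
    { sq := h.sq
      sq₁ := h'.sq
      wr := by rw [← Scheme.Hom.comp_appTop, ← Scheme.Hom.comp_appTop, hb]
      ws := by rw [← Scheme.Hom.comp_appTop, ← Scheme.Hom.comp_appTop, ha]
      right := isPushout_appTop_of_isPullback hY
      bot := isPushout_appTop_of_isPullback hX }
  refine ⟨isPullback_of_appTop hm.isPushout_top, isPullback_of_appTop hm.isPushout_left,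
    fun hf hg => ?_⟩
  exact (HasRingHomProperty.iff_of_isAffine (P := @LocallyOfFiniteType)).mpr
    (hm.finiteType ((HasRingHomProperty.iff_of_isAffine (P := @LocallyOfFiniteType)).mp hg)
      ((HasRingHomProperty.iff_of_isAffine (P := @LocallyOfFiniteType)).mp hf))

set_option backward.isDefEq.respectTransparency false in
/-- A map of glued pushouts induced by cartesian squares has cartesian squares. -/
theorem GluedBy.cartesian [IsClosedImmersion i] [IsClosedImmersion i'] (h : GluedBy i j a b)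
    (h' : GluedBy i' j' a' b') (hX : IsPullback c i' i f) (hY : IsPullback c j' j g)
    (ha : a' ≫ k = f ≫ a) (hb : b' ≫ k = g ≫ b) :
    IsPullback f a' a k ∧ IsPullback g b' b k ∧
      (LocallyOfFiniteType f → LocallyOfFiniteType g → LocallyOfFiniteType k) := by
  have H : ∀ p : P', ∃ (O : P.Opens) (O' : P'.Opens) (e : O' ≤ k ⁻¹ᵁ O)
      (ea : a' ⁻¹ᵁ O' ≤ f ⁻¹ᵁ (a ⁻¹ᵁ O)) (eb : b' ⁻¹ᵁ O' ≤ g ⁻¹ᵁ (b ⁻¹ᵁ O)), p ∈ O' ∧
        IsPullback (f.resLE (a ⁻¹ᵁ O) (a' ⁻¹ᵁ O') ea) (a'.resLE O' (a' ⁻¹ᵁ O') le_rfl)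
          (a.resLE O (a ⁻¹ᵁ O) le_rfl) (k.resLE O O' e) ∧
        IsPullback (g.resLE (b ⁻¹ᵁ O) (b' ⁻¹ᵁ O') eb) (b'.resLE O' (b' ⁻¹ᵁ O') le_rfl)
          (b.resLE O (b ⁻¹ᵁ O) le_rfl) (k.resLE O O' e) ∧
        (LocallyOfFiniteType f → LocallyOfFiniteType g → LocallyOfFiniteType (O'.ι ≫ k)) := by
    intro p
    obtain ⟨O, hO, hpO, -⟩ := exists_isAffineOpen_mem_and_subset (x := k p) (U := ⊤) trivial
    obtain ⟨O', hO', hpO', hle'⟩ := exists_isAffineOpen_mem_and_subset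
      (x := p) (U := k ⁻¹ᵁ O) hpO
    have e : O' ≤ k ⁻¹ᵁ O := hle'
    have ea : a' ⁻¹ᵁ O' ≤ f ⁻¹ᵁ (a ⁻¹ᵁ O) := by
      rw [← Scheme.Hom.comp_preimage f a, ← ha]
      exact fun x hx => e hx
    have eb : b' ⁻¹ᵁ O' ≤ g ⁻¹ᵁ (b ⁻¹ᵁ O) := by
      rw [← Scheme.Hom.comp_preimage g b, ← hb]
      exact fun x hx => e hx
    have e₁ : i ⁻¹ᵁ (a ⁻¹ᵁ O) ≤ j ⁻¹ᵁ (b ⁻¹ᵁ O) := by
      rw [← Scheme.Hom.comp_preimage, ← Scheme.Hom.comp_preimage, h.isPushout.w]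
    have e₂ : i' ⁻¹ᵁ (a' ⁻¹ᵁ O') = j' ⁻¹ᵁ (b' ⁻¹ᵁ O') := by
      rw [← Scheme.Hom.comp_preimage, ← Scheme.Hom.comp_preimage, h'.isPushout.w]
    have hsq := h.affSq_restrict O hO e₁
    have hsq' := h'.affSq_restrict O' hO' e₂.le
    have eX : i' ⁻¹ᵁ (a' ⁻¹ᵁ O') =
        c ⁻¹ᵁ (i ⁻¹ᵁ (a ⁻¹ᵁ O)) ⊓ i' ⁻¹ᵁ (a' ⁻¹ᵁ O') := by
      refine (inf_eq_right.mpr fun z hz => ?_).symm
      show i (c z) ∈ a ⁻¹ᵁ O
      rw [← Scheme.Hom.comp_apply, hX.w, Scheme.Hom.comp_apply]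
      exact ea hz
    have eY : i' ⁻¹ᵁ (a' ⁻¹ᵁ O') =
        c ⁻¹ᵁ (i ⁻¹ᵁ (a ⁻¹ᵁ O)) ⊓ j' ⁻¹ᵁ (b' ⁻¹ᵁ O') := eX.trans (by rw [e₂])
    have rX := Scheme.Hom.isPullback_resLE hX (US := a ⁻¹ᵁ O) (UT := a' ⁻¹ᵁ O')
      (UX := i ⁻¹ᵁ (a ⁻¹ᵁ O)) ea le_rfl eX
    have rY := Scheme.Hom.isPullback_resLE hY (US := b ⁻¹ᵁ O) (UT := b' ⁻¹ᵁ O')
      (UX := i ⁻¹ᵁ (a ⁻¹ᵁ O)) eb e₁ eY
    obtain ⟨pa, pb, pf⟩ := hsq.cartesian hsq' rX rY (k := k.resLE O O' e)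
      (by rw [← cancel_mono O.ι]; simp [ha]) (by rw [← cancel_mono O.ι]; simp [hb])
    refine ⟨O, O', e, ea, eb, hpO', pa, pb, fun hf hg => ?_⟩
    have res : ∀ {A B : Scheme.{u}} (φ : A ⟶ B) [LocallyOfFiniteType φ] (U : B.Opens)
        (V : A.Opens) (e : V ≤ φ ⁻¹ᵁ U), LocallyOfFiniteType (φ.resLE U V e) := by
      intro A B φ _ U V e
      have : LocallyOfFiniteType (φ.resLE U V e ≫ U.ι) := by
        rw [Scheme.Hom.resLE_comp_ι]; infer_instance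
      exact locallyOfFiniteType_of_comp _ U.ι
    have := pf (res f _ _ _) (res g _ _ _)
    rw [← Scheme.Hom.resLE_comp_ι k e]
    infer_instance
  choose O O' e ea eb hp pa pb pf using H
  refine ⟨isPullback_of_local ha.symm fun p => ⟨O p, O' p, e p, ea p, hp p, pa p⟩,
    isPullback_of_local hb.symm fun p => ⟨O p, O' p, e p, eb p, hp p, pb p⟩, fun hf hg => ?_⟩
  exact (IsZariskiLocalAtSource.iff_of_iSup_eq_top (P := @LocallyOfFiniteType) O'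
    (eq_top_iff.mpr fun p _ => Opens.mem_iSup.mpr ⟨p, hp p⟩)).mpr fun p => pf p hf hg

end Groth.Agent.Lib.Ferrand
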