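import Groth.Agent.Lib.Ferrand.Pairs

/-!
# Finite sets of points in affine opens
-/

universe u

open CategoryTheory Limits AlgebraicGeometry TopologicalSpace

namespace Groth.Agent.Lib.Ferrand

/-- Davis' prime avoidance. -/
theorem exists_add_mem_forall_notMem {A : Type u} [CommRing A] (s : Finset (Ideal A))
    (hs : ∀ P ∈ s, P.IsPrime) (I : Ideal A) (x : A) (h : ∀ P ∈ s, x ∈ P → ¬ I ≤ P) :
    ∃ i ∈ I, ∀ P ∈ s, x + i ∉ P := by
  classical
  -- the maximal members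
  let t := s.filter fun P => ∀ Q ∈ s, P ≤ Q → Q = P
  have hmax : ∀ P ∈ s, ∃ Q ∈ t, P ≤ Q := by
    intro P hP
    obtain ⟨Q, hPQ, hQ, hQmax⟩ := s.exists_le_maximal hP
    exact ⟨Q, Finset.mem_filter.mpr ⟨hQ, fun R hR hQR => le_antisymm (hQmax hR hQR) hQR⟩, hPQ⟩
  have hts : ∀ P ∈ t, P ∈ s := fun P hP => (Finset.mem_filter.mp hP).1
  let B := t.filter fun P => x ∈ P
  let J : Ideal A := I ⊓ (t.filter fun P => x ∉ P).inf id
  have hnot : ∀ P ∈ B, ¬ J ≤ P := by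
    intro P hP hle
    obtain ⟨hPt, hxP⟩ := Finset.mem_filter.mp hP
    rcases ((hs P (hts P hPt)).inf_le).mp hle with hI | hQ
    · exact h P (hts P hPt) hxP hI
    · obtain ⟨Q, hQt, hQP⟩ := ((hs P (hts P hPt)).inf_le' (f := id)).mp hQ
      obtain ⟨hQt, hxQ⟩ := Finset.mem_filter.mp hQt
      exact hxQ ((Finset.mem_filter.mp hQt).2 P (hts P hPt) hQP ▸ hxP)
  obtain ⟨i, hiJ, hi⟩ : ∃ i ∈ J, ∀ P ∈ B, i ∉ P := by
    by_contra! hcon
    have hsub : (J : Set A) ⊆ ⋃ P ∈ (B : Set (Ideal A)), (P : Set A) := fun i hi => by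
      obtain ⟨P, hP, hiP⟩ := hcon i hi
      exact Set.mem_biUnion hP hiP
    obtain ⟨P, hP, hle⟩ := (Ideal.subset_union_prime (f := fun P => P) ⊥ ⊥ fun P hP _ _ =>
      hs P (hts P (Finset.mem_filter.mp hP).1)).mp hsub
    exact hnot P hP hle
  refine ⟨i, hiJ.1, fun P hP hmem => ?_⟩
  obtain ⟨Q, hQt, hPQ⟩ := hmax P hP
  by_cases hxQ : x ∈ Q
  · exact hi Q (Finset.mem_filter.mpr ⟨hQt, hxQ⟩) (by simpa using Q.sub_mem (hPQ hmem) hxQ)
  · have hiQ : i ∈ Q := Finset.inf_le (f := id) (Finset.mem_filter.mpr ⟨hQt, hxQ⟩) hiJ.2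
    exact hxQ (by simpa using Q.sub_mem (hPQ hmem) hiQ)

variable {X : Scheme.{u}}

/-- A finite set in an affine open has basic neighbourhoods inside any open neighbourhood. -/
theorem exists_basicOpen_finite_le {U : X.Opens} (hU : IsAffineOpen U) {E : Set X} (hE : E.Finite)
    (hEU : E ⊆ U) (W : X.Opens) (hEW : E ⊆ W) :
    ∃ f : Γ(X, U), X.basicOpen f ≤ W ∧ E ⊆ X.basicOpen f := by
  classical
  choose g hgW hxg using fun x : E => hU.exists_basicOpen_le (V := W) ⟨x.1, hEW x.2⟩ (hEU x.2)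
  let q : E → PrimeSpectrum Γ(X, U) := fun x => hU.primeIdealOf ⟨x.1, hEU x.2⟩
  have := hE.fintype
  let B : Finset (Ideal Γ(X, U)) := Finset.univ.image fun x => (q x).asIdeal
  obtain ⟨f, hf, hfB⟩ : ∃ f ∈ Ideal.span (Set.range g), ∀ P ∈ B, f ∉ P := by
    obtain ⟨i, hi, h⟩ := exists_add_mem_forall_notMem B (fun P hP => by
      obtain ⟨x, -, rfl⟩ := Finset.mem_image.mp hP
      exact (q x).2) (Ideal.span (Set.range g)) 0 (fun P hP _ hle => by
      obtain ⟨x, -, rfl⟩ := Finset.mem_image.mp hP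
      exact (mem_basicOpen_iff hU (g x) ⟨x.1, hEU x.2⟩).mp (hxg x)
        (hle (Ideal.subset_span ⟨x, rfl⟩)))
    exact ⟨i, hi, fun P hP => by simpa using h P hP⟩
  refine ⟨f, fun x hx => ?_, fun x hx => ?_⟩
  · have hxU := X.basicOpen_le f hx
    by_contra hxW
    refine (mem_basicOpen_iff hU f ⟨x, hxU⟩).mp hx (Ideal.span_le.mpr ?_ hf)
    rintro _ ⟨e, rfl⟩
    by_contra he
    exact hxW (hgW e ((mem_basicOpen_iff hU (g e) ⟨x, hxU⟩).mpr he))
  · have hm : (q ⟨x, hx⟩).asIdeal ∈ B :=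
      Finset.mem_image.mpr ⟨⟨x, hx⟩, Finset.mem_univ _, rfl⟩
    exact (mem_basicOpen_iff hU f ⟨x, hEU hx⟩).mpr (hfB _ hm)

end Groth.Agent.Lib.Ferrand
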