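import Mathlib.AlgebraicGeometry.Restrict
import Mathlib.AlgebraicGeometry.Gluing
import Mathlib.CategoryTheory.Limits.Shapes.Pullback.IsPullback.Basic

/-!
# Squares of schemes which are pushouts locally on the target
-/

universe u

open CategoryTheory Limits AlgebraicGeometry

namespace Groth.Agent.Lib.Ferrand

variable {X Y Z P T : Scheme.{u}}

/-- Gluing morphisms given on opens. -/
theorem exists_glue {J : Type u} (D : J → P.Opens) (O : P.Opens) (hO : ⨆ k, D k = O)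
    (w : ∀ k, (D k).toScheme ⟶ T)
    (hw : ∀ k l, P.homOfLE (inf_le_left : D k ⊓ D l ≤ D k) ≫ w k =
      P.homOfLE (inf_le_right : D k ⊓ D l ≤ D l) ≫ w l) :
    ∃ W : O.toScheme ⟶ T, ∀ k (h : D k ≤ O), P.homOfLE h ≫ W = w k := by
  subst hO
  refine ⟨(Scheme.Opens.iSupOpenCover D).glueMorphisms w fun k l => ?_, fun k h => ?_⟩
  · let g₁ : pullback ((Scheme.Opens.iSupOpenCover D).f k) ((Scheme.Opens.iSupOpenCover D).f l) ⟶
        (D k).toScheme := pullback.fst _ _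
    let g₂ : pullback ((Scheme.Opens.iSupOpenCover D).f k) ((Scheme.Opens.iSupOpenCover D).f l) ⟶
        (D l).toScheme := pullback.snd _ _
    have hι : g₁ ≫ (D k).ι = g₂ ≫ (D l).ι := by
      have h := congrArg (· ≫ (⨆ i, D i).ι)
        (pullback.condition (f := (Scheme.Opens.iSupOpenCover D).f k)
          (g := (Scheme.Opens.iSupOpenCover D).f l))
      simpa [Scheme.Opens.iSupOpenCover, g₁, g₂] using h
    have hr : Set.range (g₁ ≫ (D k).ι) ⊆ Set.range (D k ⊓ D l).ι := by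
      rintro _ ⟨z, rfl⟩
      rw [Scheme.Opens.range_ι]
      refine ⟨?_, ?_⟩
      · rw [Scheme.Hom.comp_apply]; exact (g₁ z).2
      · rw [hι, Scheme.Hom.comp_apply]; exact (g₂ z).2
    let γ := IsOpenImmersion.lift (D k ⊓ D l).ι (g₁ ≫ (D k).ι) hr
    have e₁ : γ ≫ P.homOfLE (inf_le_left : D k ⊓ D l ≤ D k) = g₁ := by
      rw [← cancel_mono (D k).ι, Category.assoc, Scheme.homOfLE_ι, IsOpenImmersion.lift_fac]
    have e₂ : γ ≫ P.homOfLE (inf_le_right : D k ⊓ D l ≤ D l) = g₂ := by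
      rw [← cancel_mono (D l).ι, Category.assoc, Scheme.homOfLE_ι, IsOpenImmersion.lift_fac, hι]
    show g₁ ≫ w k = g₂ ≫ w l
    rw [← e₁, ← e₂, Category.assoc, Category.assoc]
    exact congrArg (γ ≫ ·) (hw k l)
  · exact (Scheme.Opens.iSupOpenCover D).ι_glueMorphisms _ _ k

theorem hom_ext_iSup {J : Type u} (D : J → P.Opens) (O : P.Opens) (hO : ⨆ k, D k = O)
    {W W' : O.toScheme ⟶ T}
    (h : ∀ k (h : D k ≤ O), P.homOfLE h ≫ W = P.homOfLE h ≫ W') : W = W' := by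
  subst hO
  exact (Scheme.Opens.iSupOpenCover D).hom_ext _ _ fun k => h k (le_iSup D k)

/-- Morphisms on the two preimages of `O` which agree on `Z`. -/
def Agree (i : Z ⟶ X) (j : Z ⟶ Y) (U : X.Opens) (V : Y.Opens) (u : U.toScheme ⟶ T)
    (v : V.toScheme ⟶ T) : Prop :=
  ∀ (W : Z.Opens) (h₁ : W ≤ i ⁻¹ᵁ U) (h₂ : W ≤ j ⁻¹ᵁ V),
    i.resLE U W h₁ ≫ u = j.resLE V W h₂ ≫ v

/-- The square is a pushout over every open of the target. -/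
structure IsLocPushout (i : Z ⟶ X) (j : Z ⟶ Y) (a : X ⟶ P) (b : Y ⟶ P) : Prop where
  w : i ≫ a = j ≫ b
  desc : ∀ (O : P.Opens) (T : Scheme.{u}) (u : (a ⁻¹ᵁ O).toScheme ⟶ T)
    (v : (b ⁻¹ᵁ O).toScheme ⟶ T), Agree i j _ _ u v →
    ∃ w : O.toScheme ⟶ T, a.resLE O (a ⁻¹ᵁ O) le_rfl ≫ w = u ∧
      b.resLE O (b ⁻¹ᵁ O) le_rfl ≫ w = v
  ext : ∀ (O : P.Opens) (T : Scheme.{u}) (w w' : O.toScheme ⟶ T),
    a.resLE O (a ⁻¹ᵁ O) le_rfl ≫ w = a.resLE O (a ⁻¹ᵁ O) le_rfl ≫ w' →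
    b.resLE O (b ⁻¹ᵁ O) le_rfl ≫ w = b.resLE O (b ⁻¹ᵁ O) le_rfl ≫ w' → w = w'

variable {i : Z ⟶ X} {j : Z ⟶ Y} {a : X ⟶ P} {b : Y ⟶ P}

theorem Agree.restrict {U U' : X.Opens} {V V' : Y.Opens} {u : U.toScheme ⟶ T}
    {v : V.toScheme ⟶ T} (h : Agree i j U V u v) (hU : U' ≤ U) (hV : V' ≤ V) :
    Agree i j U' V' (X.homOfLE hU ≫ u) (Y.homOfLE hV ≫ v) := by
  intro W h₁ h₂
  rw [Scheme.Hom.resLE_map_assoc, Scheme.Hom.resLE_map_assoc]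
  exact h W _ _

theorem Agree.comp {U : X.Opens} {V : Y.Opens} {T' : Scheme.{u}} {u : U.toScheme ⟶ T}
    {v : V.toScheme ⟶ T} (h : Agree i j U V u v) (t : T ⟶ T') :
    Agree i j U V (u ≫ t) (v ≫ t) := by
  intro W h₁ h₂
  rw [← Category.assoc, h W h₁ h₂, Category.assoc]

theorem IsLocPushout.isPushout (h : IsLocPushout i j a b) : IsPushout i j a b := by
  refine ⟨⟨h.w⟩, ⟨PushoutCocone.IsColimit.mk _ (fun s => ?_) ?_ ?_ ?_⟩⟩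
  · exact (P.topIso).inv ≫ (h.desc ⊤ s.pt ((a ⁻¹ᵁ ⊤).ι ≫ s.inl) ((b ⁻¹ᵁ ⊤).ι ≫ s.inr)
      fun W h₁ h₂ => by
        rw [Scheme.Hom.resLE_comp_ι_assoc, Scheme.Hom.resLE_comp_ι_assoc, s.condition]).choose
  all_goals intro s
  · have hd := (h.desc ⊤ s.pt ((a ⁻¹ᵁ ⊤).ι ≫ s.inl) ((b ⁻¹ᵁ ⊤).ι ≫ s.inr)
      fun W h₁ h₂ => by
        rw [Scheme.Hom.resLE_comp_ι_assoc, Scheme.Hom.resLE_comp_ι_assoc, s.condition]).choose_spec.1
    have e : (a ⁻¹ᵁ ⊤).ι ≫ a ≫ P.topIso.inv = a.resLE ⊤ (a ⁻¹ᵁ ⊤) le_rfl := by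
      rw [← cancel_mono (⊤ : P.Opens).ι, Scheme.Hom.resLE_comp_ι, Category.assoc, Category.assoc,
        ← Scheme.topIso_hom, Iso.inv_hom_id, Category.comp_id]
    have : IsIso (a ⁻¹ᵁ ⊤).ι := inferInstanceAs (IsIso X.topIso.hom)
    rw [← cancel_epi (a ⁻¹ᵁ ⊤).ι]
    simpa only [Category.assoc] using (congrArg (· ≫ _) e).trans hd
  · have hd := (h.desc ⊤ s.pt ((a ⁻¹ᵁ ⊤).ι ≫ s.inl) ((b ⁻¹ᵁ ⊤).ι ≫ s.inr)
      fun W h₁ h₂ => by
        rw [Scheme.Hom.resLE_comp_ι_assoc, Scheme.Hom.resLE_comp_ι_assoc, s.condition]).choose_spec.2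
    have e : (b ⁻¹ᵁ ⊤).ι ≫ b ≫ P.topIso.inv = b.resLE ⊤ (b ⁻¹ᵁ ⊤) le_rfl := by
      rw [← cancel_mono (⊤ : P.Opens).ι, Scheme.Hom.resLE_comp_ι, Category.assoc, Category.assoc,
        ← Scheme.topIso_hom, Iso.inv_hom_id, Category.comp_id]
    have : IsIso (b ⁻¹ᵁ ⊤).ι := inferInstanceAs (IsIso Y.topIso.hom)
    rw [← cancel_epi (b ⁻¹ᵁ ⊤).ι]
    simpa only [Category.assoc] using (congrArg (· ≫ _) e).trans hd
  · intro m hm₁ hm₂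
    have hs := (h.desc ⊤ s.pt ((a ⁻¹ᵁ ⊤).ι ≫ s.inl) ((b ⁻¹ᵁ ⊤).ι ≫ s.inr)
      fun W h₁ h₂ => by
        rw [Scheme.Hom.resLE_comp_ι_assoc, Scheme.Hom.resLE_comp_ι_assoc, s.condition]).choose_spec
    rw [Iso.eq_inv_comp]
    refine h.ext ⊤ _ _ _ (Eq.trans ?_ hs.1.symm) (Eq.trans ?_ hs.2.symm)
    · rw [Scheme.topIso_hom, Scheme.Hom.resLE_comp_ι_assoc, hm₁]
    · rw [Scheme.topIso_hom, Scheme.Hom.resLE_comp_ι_assoc, hm₂]

end Groth.Agent.Lib.Ferrand
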