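import Groth.Agent.Lib.Ferrand.Ring
import Groth.Agent.Lib.Ferrand.Def
import Mathlib.AlgebraicGeometry.AffineScheme

/-!
# Affine Ferrand squares are pushouts locally on the target
-/

universe u

open CategoryTheory Limits AlgebraicGeometry TopologicalSpace

namespace Groth.Agent.Lib.Ferrand

theorem isLocalization_ι_appTop {X : Scheme.{u}} [IsAffine X] (U : X.Opens) (r : Γ(X, ⊤))
    (e : U = X.basicOpen r) :
    @IsLocalization.Away _ _ r Γ(U.toScheme, ⊤) _ U.ι.appTop.hom.toAlgebra := by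
  have h := (isAffineOpen_top X).isLocalization_of_eq_basicOpen r (V := U.ι ''ᵁ ⊤)
    (homOfLE le_top) (by rw [U.ι.image_top_eq_opensRange, Scheme.Opens.opensRange_ι]; exact e)
  have e' : U.ι.appTop = X.presheaf.map (homOfLE le_top).op := by
    simp [Scheme.Hom.appTop, Scheme.Opens.ι_app]
    rfl
  rw [e']
  exact h

theorem exists_hom_appTop {X T : Scheme.{u}} [IsAffine T] (φ : Γ(T, ⊤) ⟶ Γ(X, ⊤)) :
    ∃ w : X ⟶ T, w.appTop = φ :=
  ⟨X.toSpecΓ ≫ Spec.map φ ≫ T.isoSpec.inv, by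
    have e : (X.toSpecΓ ≫ Spec.map φ ≫ T.isoSpec.inv) ≫ T.toSpecΓ = X.toSpecΓ ≫ Spec.map φ := by
      rw [Category.assoc, Category.assoc, Scheme.isoSpec_inv_toSpecΓ, Category.comp_id]
    rw [Scheme.toSpecΓ_naturality] at e
    generalize X.toSpecΓ ≫ Spec.map φ ≫ T.isoSpec.inv = w at e ⊢
    have e' := congrArg Scheme.Hom.appTop e
    rw [Scheme.Hom.comp_appTop, Scheme.Hom.comp_appTop, Scheme.toSpecΓ_appTop,
      Scheme.ΓSpecIso_naturality, Scheme.ΓSpecIso_naturality] at e'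
    exact (cancel_epi (Scheme.ΓSpecIso Γ(T, ⊤)).hom).mp e'⟩

variable {X Y Z P T : Scheme.{u}}

/-- An affine square whose rings of functions form a Ferrand square. -/
structure AffSq (i : Z ⟶ X) (j : Z ⟶ Y) (a : X ⟶ P) (b : Y ⟶ P) : Prop where
  affZ : IsAffine Z
  affX : IsAffine X
  affY : IsAffine Y
  affP : IsAffine P
  w : i ≫ a = j ≫ b
  sq : IsSq b.appTop.hom a.appTop.hom j.appTop.hom i.appTop.hom

namespace AffSq

variable {i : Z ⟶ X} {j : Z ⟶ Y} {a : X ⟶ P} {b : Y ⟶ P}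

theorem isoSpec_apply {X Y : Scheme.{u}} [IsAffine X] [IsAffine Y] (f : X ⟶ Y) (x : X) :
    Y.isoSpec.hom (f x) = PrimeSpectrum.comap f.appTop.hom (X.isoSpec.hom x) := by
  rw [← Scheme.Hom.comp_apply, ← Scheme.isoSpec_hom_naturality, Scheme.Hom.comp_apply]
  rfl

theorem exists_preimage (h : AffSq i j a b) (x : P) : (∃ x', a x' = x) ∨ ∃ y, b y = x := by
  have := h.affX; have := h.affY; have := h.affP
  rcases h.sq.comap_surjective (P.isoSpec.hom x) with ⟨y, hy⟩ | ⟨y, hy⟩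
  · obtain ⟨y, rfl⟩ := Y.isoSpec.hom.homeomorph.surjective y
    exact Or.inr ⟨y, P.isoSpec.hom.isOpenEmbedding.injective ((isoSpec_apply b y).trans hy)⟩
  · obtain ⟨y, rfl⟩ := X.isoSpec.hom.homeomorph.surjective y
    exact Or.inl ⟨y, P.isoSpec.hom.isOpenEmbedding.injective ((isoSpec_apply a y).trans hy)⟩

theorem le_of_preimage_le (h : AffSq i j a b) {O O' : P.Opens} (h₁ : a ⁻¹ᵁ O ≤ a ⁻¹ᵁ O')
    (h₂ : b ⁻¹ᵁ O ≤ b ⁻¹ᵁ O') : O ≤ O' := by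
  intro x hx
  rcases h.exists_preimage x with ⟨y, rfl⟩ | ⟨y, rfl⟩
  · exact h₁ hx
  · exact h₂ hx

set_option backward.isDefEq.respectTransparency.types false in
theorem exists_opens (h : AffSq i j a b) (U : X.Opens) (V : Y.Opens) (hUV : i ⁻¹ᵁ U = j ⁻¹ᵁ V) :
    ∃ O : P.Opens, a ⁻¹ᵁ O = U ∧ b ⁻¹ᵁ O = V := by
  have := h.affX; have := h.affY; have := h.affP; have := h.affZ
  obtain ⟨O, hO, h₁, h₂⟩ := h.sq.exists_opens
    (U := X.isoSpec.inv ⁻¹' (U : Set X)) (V := Y.isoSpec.inv ⁻¹' (V : Set Y))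
    (U.2.preimage X.isoSpec.inv.continuous) (V.2.preimage Y.isoSpec.inv.continuous) (by
      ext z
      obtain ⟨z, rfl⟩ := Z.isoSpec.hom.homeomorph.surjective z
      show X.isoSpec.inv (PrimeSpectrum.comap i.appTop.hom (Z.isoSpec.hom z)) ∈ U ↔
        Y.isoSpec.inv (PrimeSpectrum.comap j.appTop.hom (Z.isoSpec.hom z)) ∈ V
      have hX : ∀ w, X.isoSpec.inv (X.isoSpec.hom w) = w := fun w => by
        rw [← Scheme.Hom.comp_apply, Iso.hom_inv_id]; rfl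
      have hY : ∀ w, Y.isoSpec.inv (Y.isoSpec.hom w) = w := fun w => by
        rw [← Scheme.Hom.comp_apply, Iso.hom_inv_id]; rfl
      rw [← isoSpec_apply i z, ← isoSpec_apply j z, hX, hY]
      exact SetLike.ext_iff.mp hUV z)
  refine ⟨⟨P.isoSpec.hom ⁻¹' O, hO.preimage P.isoSpec.hom.continuous⟩, ?_, ?_⟩
  · ext x
    show P.isoSpec.hom (a x) ∈ O ↔ x ∈ U
    rw [isoSpec_apply a x]
    refine (Set.ext_iff.mp h₁ _).trans ?_
    show X.isoSpec.inv (X.isoSpec.hom x) ∈ U ↔ _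
    rw [← Scheme.Hom.comp_apply, Iso.hom_inv_id]
    rfl
  · ext x
    show P.isoSpec.hom (b x) ∈ O ↔ x ∈ V
    rw [isoSpec_apply b x]
    refine (Set.ext_iff.mp h₂ _).trans ?_
    show Y.isoSpec.inv (Y.isoSpec.hom x) ∈ V ↔ _
    rw [← Scheme.Hom.comp_apply, Iso.hom_inv_id]
    rfl

theorem isSq_basicOpen (h : AffSq i j a b) (f : Γ(P, ⊤)) (D : P.Opens) (hD : D = P.basicOpen f)
    (e : i ⁻¹ᵁ (a ⁻¹ᵁ D) ≤ j ⁻¹ᵁ (b ⁻¹ᵁ D)) :
    IsSq (b.resLE D (b ⁻¹ᵁ D) le_rfl).appTop.hom (a.resLE D (a ⁻¹ᵁ D) le_rfl).appTop.hom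
      (j.resLE (b ⁻¹ᵁ D) (i ⁻¹ᵁ (a ⁻¹ᵁ D)) e).appTop.hom
      (i.resLE (a ⁻¹ᵁ D) (i ⁻¹ᵁ (a ⁻¹ᵁ D)) le_rfl).appTop.hom := by
  have := h.affX; have := h.affY; have := h.affP; have := h.affZ
  subst hD
  letI := (P.basicOpen f).ι.appTop.hom.toAlgebra
  letI := (a ⁻¹ᵁ P.basicOpen f).ι.appTop.hom.toAlgebra
  letI := (b ⁻¹ᵁ P.basicOpen f).ι.appTop.hom.toAlgebra
  letI := (i ⁻¹ᵁ (a ⁻¹ᵁ P.basicOpen f)).ι.appTop.hom.toAlgebra
  have := isLocalization_ι_appTop (P.basicOpen f) f rfl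
  have := isLocalization_ι_appTop (a ⁻¹ᵁ P.basicOpen f) (a.appTop.hom f)
    (Scheme.preimage_basicOpen_top a f)
  have := isLocalization_ι_appTop (b ⁻¹ᵁ P.basicOpen f) (b.appTop.hom f)
    (Scheme.preimage_basicOpen_top b f)
  have := isLocalization_ι_appTop (i ⁻¹ᵁ (a ⁻¹ᵁ P.basicOpen f)) (j.appTop.hom (b.appTop.hom f)) (by
    rw [Scheme.preimage_basicOpen_top, Scheme.preimage_basicOpen_top, h.sq.comm])
  have key : ∀ {A B : Scheme.{u}} (g : A ⟶ B) (U : B.Opens) (V : A.Opens) (e : V ≤ g ⁻¹ᵁ U) x,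
      (g.resLE U V e).appTop.hom (U.ι.appTop.hom x) = V.ι.appTop.hom (g.appTop.hom x) := by
    intro A B g U V e x
    have := congrArg Scheme.Hom.appTop (g.resLE_comp_ι e)
    rw [Scheme.Hom.comp_appTop, Scheme.Hom.comp_appTop] at this
    exact congr($this x)
  exact h.sq.away f _ _ _ _ (fun x => key b _ _ le_rfl x) (fun x => key a _ _ le_rfl x)
    (fun x => key j _ _ e x) (fun x => key i _ _ le_rfl x)

/-- Descent to an affine target over a basic open. -/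
theorem desc_basicOpen (h : AffSq i j a b) (f : Γ(P, ⊤)) (D : P.Opens) (hD : D = P.basicOpen f)
    [IsAffine T] (u : (a ⁻¹ᵁ D).toScheme ⟶ T) (v : (b ⁻¹ᵁ D).toScheme ⟶ T)
    (huv : Agree i j _ _ u v) :
    ∃ w : D.toScheme ⟶ T, a.resLE D (a ⁻¹ᵁ D) le_rfl ≫ w = u ∧
      b.resLE D (b ⁻¹ᵁ D) le_rfl ≫ w = v := by
  have e : i ⁻¹ᵁ (a ⁻¹ᵁ D) ≤ j ⁻¹ᵁ (b ⁻¹ᵁ D) := by
    rw [← Scheme.Hom.comp_preimage, ← Scheme.Hom.comp_preimage, h.w]
  have hs := h.isSq_basicOpen f D hD e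
  have huv' : ∀ t, (j.resLE (b ⁻¹ᵁ D) _ e).appTop.hom (v.appTop.hom t) =
      (i.resLE (a ⁻¹ᵁ D) (i ⁻¹ᵁ (a ⁻¹ᵁ D)) le_rfl).appTop.hom (u.appTop.hom t) := fun t => by
    have := congrArg Scheme.Hom.appTop (huv (i ⁻¹ᵁ (a ⁻¹ᵁ D)) le_rfl e)
    rw [Scheme.Hom.comp_appTop, Scheme.Hom.comp_appTop] at this
    exact congr($this t).symm
  choose χ hχr hχs using fun t => hs.lift _ _ (huv' t)
  let χ' : Γ(T, ⊤) →+* Γ(D.toScheme, ⊤) :=
    { toFun := χ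
      map_one' := hs.ext _ _ (by rw [hχr, map_one, map_one]) (by rw [hχs, map_one, map_one])
      map_mul' := fun s t => hs.ext _ _ (by rw [hχr, map_mul, map_mul, hχr, hχr])
        (by rw [hχs, map_mul, map_mul, hχs, hχs])
      map_zero' := hs.ext _ _ (by rw [hχr, map_zero, map_zero]) (by rw [hχs, map_zero, map_zero])
      map_add' := fun s t => hs.ext _ _ (by rw [hχr, map_add, map_add, hχr, hχr])
        (by rw [hχs, map_add, map_add, hχs, hχs]) }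
  obtain ⟨w, hw⟩ := exists_hom_appTop (X := D.toScheme) (T := T) (CommRingCat.ofHom χ' : Γ(T, ⊤) ⟶ Γ(D.toScheme, ⊤))
  refine ⟨w, ext_of_isAffine ?_, ext_of_isAffine ?_⟩
  · rw [Scheme.Hom.comp_appTop, hw]
    ext t
    exact hχs t
  · rw [Scheme.Hom.comp_appTop, hw]
    ext t
    exact hχr t

theorem ext_basicOpen (h : AffSq i j a b) (f : Γ(P, ⊤)) (D : P.Opens) (hD : D = P.basicOpen f)
    [IsAffine T] (w w' : D.toScheme ⟶ T)
    (h₁ : a.resLE D (a ⁻¹ᵁ D) le_rfl ≫ w = a.resLE D (a ⁻¹ᵁ D) le_rfl ≫ w')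
    (h₂ : b.resLE D (b ⁻¹ᵁ D) le_rfl ≫ w = b.resLE D (b ⁻¹ᵁ D) le_rfl ≫ w') : w = w' := by
  have e : i ⁻¹ᵁ (a ⁻¹ᵁ D) ≤ j ⁻¹ᵁ (b ⁻¹ᵁ D) := by
    rw [← Scheme.Hom.comp_preimage, ← Scheme.Hom.comp_preimage, h.w]
  have hs := h.isSq_basicOpen f D hD e
  refine ext_of_isAffine ?_
  have k₁ := congrArg Scheme.Hom.appTop h₁
  have k₂ := congrArg Scheme.Hom.appTop h₂
  rw [Scheme.Hom.comp_appTop, Scheme.Hom.comp_appTop] at k₁ k₂
  ext t
  exact hs.ext _ _ congr($k₂ t) congr($k₁ t)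

theorem exists_basicOpen (_h : AffSq i j a b) [IsAffine P] (O : P.Opens) (x : P) (hx : x ∈ O) :
    ∃ f : Γ(P, ⊤), x ∈ P.basicOpen f ∧ P.basicOpen f ≤ O :=
  (isAffineOpen_top P).exists_basicOpen_le ⟨x, hx⟩ trivial |>.imp fun _ h => h.symm

set_option backward.isDefEq.respectTransparency.types false in
theorem ext (h : AffSq i j a b) (O : P.Opens) (T : Scheme.{u}) (w w' : O.toScheme ⟶ T)
    (h₁ : a.resLE O (a ⁻¹ᵁ O) le_rfl ≫ w = a.resLE O (a ⁻¹ᵁ O) le_rfl ≫ w')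
    (h₂ : b.resLE O (b ⁻¹ᵁ O) le_rfl ≫ w = b.resLE O (b ⁻¹ᵁ O) le_rfl ≫ w') : w = w' := by
  have := h.affP
  have hpt : ∀ x : O.toScheme, w x = w' x := by
    intro x
    rcases h.exists_preimage x.1 with ⟨y, hy⟩ | ⟨y, hy⟩
    · have hy' : y ∈ a ⁻¹ᵁ O := by show a y ∈ O; rw [hy]; exact x.2
      have : a.resLE O (a ⁻¹ᵁ O) le_rfl ⟨y, hy'⟩ = x :=
        O.ι.isOpenEmbedding.injective (by
          rw [← Scheme.Hom.comp_apply, Scheme.Hom.resLE_comp_ι]; exact hy)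
      rw [← this, ← Scheme.Hom.comp_apply, h₁, Scheme.Hom.comp_apply]
    · have hy' : y ∈ b ⁻¹ᵁ O := by show b y ∈ O; rw [hy]; exact x.2
      have : b.resLE O (b ⁻¹ᵁ O) le_rfl ⟨y, hy'⟩ = x :=
        O.ι.isOpenEmbedding.injective (by
          rw [← Scheme.Hom.comp_apply, Scheme.Hom.resLE_comp_ι]; exact hy)
      rw [← this, ← Scheme.Hom.comp_apply, h₂, Scheme.Hom.comp_apply]
  let J := {f : Γ(P, ⊤) // P.basicOpen f ≤ O ∧
    ∃ W : T.Opens, IsAffineOpen W ∧ ∀ z : O.toScheme, z.1 ∈ P.basicOpen f → w z ∈ W}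
  refine hom_ext_iSup (fun f : J => P.basicOpen f.1) O
    (le_antisymm (iSup_le fun f => f.2.1) fun x hx => ?_) fun f hf => ?_
  · obtain ⟨W, hW, hxW, -⟩ :=
      exists_isAffineOpen_mem_and_subset (x := w ⟨x, hx⟩) (U := ⊤) trivial
    obtain ⟨f, hxf, hf⟩ := h.exists_basicOpen (O.ι ''ᵁ (w ⁻¹ᵁ W)) x ⟨⟨x, hx⟩, hxW, rfl⟩
    have hfO : P.basicOpen f ≤ O := hf.trans (by
      rintro _ ⟨z, -, rfl⟩; exact z.2)
    refine Opens.mem_iSup.mpr ⟨⟨f, hfO, W, hW, fun z hz => ?_⟩, hxf⟩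
    obtain ⟨z', hz', e⟩ := hf hz
    rwa [O.ι.isOpenEmbedding.injective (show O.ι z' = O.ι z from e)] at hz'
  · obtain ⟨-, W, hW, hfW⟩ := f.2
    have : IsAffine W.toScheme := hW
    have hval : ∀ z : (P.basicOpen f.1).toScheme, (P.homOfLE hf z).1 = z.1 := fun z => by
      show O.ι (P.homOfLE hf z) = _
      rw [← Scheme.Hom.comp_apply, Scheme.homOfLE_ι]; rfl
    have hr : ∀ w'' : O.toScheme ⟶ T, (∀ z, w'' z = w z) →
        Set.range (P.homOfLE hf ≫ w'') ⊆ Set.range W.ι := by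
      rintro w'' hw'' _ ⟨z, rfl⟩
      rw [Scheme.Opens.range_ι, Scheme.Hom.comp_apply, hw'']
      exact hfW _ (by rw [hval]; exact z.2)
    rw [← IsOpenImmersion.lift_fac W.ι _ (hr w fun _ => rfl),
      ← IsOpenImmersion.lift_fac W.ι _ (hr w' fun z => (hpt z).symm)]
    congr 1
    refine h.ext_basicOpen f.1 _ rfl _ _ ?_ ?_
    · simp only [← cancel_mono W.ι, Category.assoc, IsOpenImmersion.lift_fac,
        Scheme.Hom.resLE_map_assoc]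
      have := congrArg (X.homOfLE (show a ⁻¹ᵁ P.basicOpen f.1 ≤ a ⁻¹ᵁ O from
        fun z hz => hf hz) ≫ ·) h₁
      simpa only [Scheme.Hom.map_resLE_assoc] using this
    · simp only [← cancel_mono W.ι, Category.assoc, IsOpenImmersion.lift_fac,
        Scheme.Hom.resLE_map_assoc]
      have := congrArg (Y.homOfLE (show b ⁻¹ᵁ P.basicOpen f.1 ≤ b ⁻¹ᵁ O from
        fun z hz => hf hz) ≫ ·) h₂
      simpa only [Scheme.Hom.map_resLE_assoc] using this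

set_option backward.isDefEq.respectTransparency.types false in
theorem desc (h : AffSq i j a b) (O : P.Opens) (T : Scheme.{u}) (u : (a ⁻¹ᵁ O).toScheme ⟶ T)
    (v : (b ⁻¹ᵁ O).toScheme ⟶ T) (huv : Agree i j _ _ u v) :
    ∃ w : O.toScheme ⟶ T, a.resLE O (a ⁻¹ᵁ O) le_rfl ≫ w = u ∧
      b.resLE O (b ⁻¹ᵁ O) le_rfl ≫ w = v := by
  have := h.affP
  let J := {f : Γ(P, ⊤) // P.basicOpen f ≤ O ∧ ∃ W : T.Opens, IsAffineOpen W ∧
    (∀ z : (a ⁻¹ᵁ O).toScheme, a z.1 ∈ P.basicOpen f → u z ∈ W) ∧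
    (∀ z : (b ⁻¹ᵁ O).toScheme, b z.1 ∈ P.basicOpen f → v z ∈ W)}
  let D : J → P.Opens := fun f => P.basicOpen f.1
  have hD : ⨆ f, D f = O := by
    refine le_antisymm (iSup_le fun f => f.2.1) fun x hx => ?_
    -- a basic open around `x` adapted to the affine open `W`
    have key : ∀ W : T.Opens, IsAffineOpen W →
        ((∃ z : (a ⁻¹ᵁ O).toScheme, a z.1 = x ∧ u z ∈ W) ∨
          ∃ z : (b ⁻¹ᵁ O).toScheme, b z.1 = x ∧ v z ∈ W) → x ∈ ⨆ f, D f := by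
      intro W hW hxW
      have agree : ∀ z : Z, ∀ (h₁ : i z ∈ a ⁻¹ᵁ O) (h₂ : j z ∈ b ⁻¹ᵁ O),
          u ⟨i z, h₁⟩ = v ⟨j z, h₂⟩ := by
        intro z h₁ h₂
        let W₀ := i ⁻¹ᵁ (a ⁻¹ᵁ O) ⊓ j ⁻¹ᵁ (b ⁻¹ᵁ O)
        have e := congrArg (fun g : W₀.toScheme ⟶ T => g ⟨z, h₁, h₂⟩)
          (huv W₀ inf_le_left inf_le_right)
        simp only [Scheme.Hom.comp_apply] at e
        convert e using 2
        · exact (a ⁻¹ᵁ O).ι.isOpenEmbedding.injective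
            (by rw [← Scheme.Hom.comp_apply _ (a ⁻¹ᵁ O).ι, Scheme.Hom.resLE_comp_ι]; rfl)
        · exact (b ⁻¹ᵁ O).ι.isOpenEmbedding.injective
            (by rw [← Scheme.Hom.comp_apply _ (b ⁻¹ᵁ O).ι, Scheme.Hom.resLE_comp_ι]; rfl)
      have hw : ∀ z : Z, a (i z) = b (j z) := fun z => by
        rw [← Scheme.Hom.comp_apply, h.w, Scheme.Hom.comp_apply]
      obtain ⟨O', hO'a, hO'b⟩ := h.exists_opens ((a ⁻¹ᵁ O).ι ''ᵁ (u ⁻¹ᵁ W))
        ((b ⁻¹ᵁ O).ι ''ᵁ (v ⁻¹ᵁ W)) (by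
          ext z
          constructor
          · rintro ⟨p, hp, hpz⟩
            have h₁ : i z ∈ a ⁻¹ᵁ O := hpz ▸ p.2
            have h₂ : j z ∈ b ⁻¹ᵁ O := by show b (j z) ∈ O; rw [← hw]; exact h₁
            refine ⟨⟨j z, h₂⟩, ?_, rfl⟩
            show v ⟨j z, h₂⟩ ∈ W
            rw [← agree z h₁ h₂]
            have : p = ⟨i z, h₁⟩ := Subtype.ext hpz
            exact this ▸ hp
          · rintro ⟨p, hp, hpz⟩
            have h₂ : j z ∈ b ⁻¹ᵁ O := hpz ▸ p.2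
            have h₁ : i z ∈ a ⁻¹ᵁ O := by show a (i z) ∈ O; rw [hw]; exact h₂
            refine ⟨⟨i z, h₁⟩, ?_, rfl⟩
            show u ⟨i z, h₁⟩ ∈ W
            rw [agree z h₁ h₂]
            have : p = ⟨j z, h₂⟩ := Subtype.ext hpz
            exact this ▸ hp)
      have hxO' : x ∈ O' := by
        rcases hxW with ⟨z, rfl, hz⟩ | ⟨z, rfl, hz⟩
        · exact hO'a.ge ⟨z, hz, rfl⟩
        · exact hO'b.ge ⟨z, hz, rfl⟩
      obtain ⟨f, hxf, hf⟩ := h.exists_basicOpen (O' ⊓ O) x ⟨hxO', hx⟩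
      refine Opens.mem_iSup.mpr ⟨⟨f, hf.trans inf_le_right, W, hW, fun z hz => ?_, fun z hz => ?_⟩,
        hxf⟩
      · obtain ⟨z', hz', e⟩ := hO'a.le (hf hz).1
        exact (show z' = z from Subtype.ext e) ▸ hz'
      · obtain ⟨z', hz', e⟩ := hO'b.le (hf hz).1
        exact (show z' = z from Subtype.ext e) ▸ hz'
    rcases h.exists_preimage x with ⟨y, hy⟩ | ⟨y, hy⟩
    · obtain ⟨W, hW, hyW, -⟩ := exists_isAffineOpen_mem_and_subset
        (x := u ⟨y, show a y ∈ O by rw [hy]; exact hx⟩) (U := ⊤) trivial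
      exact key W hW (Or.inl ⟨_, hy, hyW⟩)
    · obtain ⟨W, hW, hyW, -⟩ := exists_isAffineOpen_mem_and_subset
        (x := v ⟨y, show b y ∈ O by rw [hy]; exact hx⟩) (U := ⊤) trivial
      exact key W hW (Or.inr ⟨_, hy, hyW⟩)
  have hle : ∀ f : J, D f ≤ O := fun f => f.2.1
  have hex : ∀ f : J, ∃ w : (D f).toScheme ⟶ T,
      a.resLE (D f) (a ⁻¹ᵁ D f) le_rfl ≫ w = X.homOfLE (fun _ hz => hle f hz) ≫ u ∧
        b.resLE (D f) (b ⁻¹ᵁ D f) le_rfl ≫ w = Y.homOfLE (fun _ hz => hle f hz) ≫ v := by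
    intro f
    obtain ⟨-, W, hW, hWu, hWv⟩ := f.2
    have : IsAffine W.toScheme := hW
    let hu : (a ⁻¹ᵁ D f) ≤ a ⁻¹ᵁ O := fun _ hz => hle f hz
    let hv : (b ⁻¹ᵁ D f) ≤ b ⁻¹ᵁ O := fun _ hz => hle f hz
    have ru : Set.range (X.homOfLE hu ≫ u) ⊆ Set.range W.ι := by
      rintro _ ⟨z, rfl⟩
      rw [Scheme.Opens.range_ι, Scheme.Hom.comp_apply]
      refine hWu _ ?_
      have : (X.homOfLE hu z).1 = z.1 := by
        show (a ⁻¹ᵁ O).ι (X.homOfLE hu z) = _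
        rw [← Scheme.Hom.comp_apply, Scheme.homOfLE_ι]; rfl
      rw [this]; exact z.2
    have rv : Set.range (Y.homOfLE hv ≫ v) ⊆ Set.range W.ι := by
      rintro _ ⟨z, rfl⟩
      rw [Scheme.Opens.range_ι, Scheme.Hom.comp_apply]
      refine hWv _ ?_
      have : (Y.homOfLE hv z).1 = z.1 := by
        show (b ⁻¹ᵁ O).ι (Y.homOfLE hv z) = _
        rw [← Scheme.Hom.comp_apply, Scheme.homOfLE_ι]; rfl
      rw [this]; exact z.2
    obtain ⟨w, h₁, h₂⟩ := h.desc_basicOpen f.1 (D f) rfl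
      (IsOpenImmersion.lift W.ι _ ru) (IsOpenImmersion.lift W.ι _ rv) (by
        intro W₀ e₁ e₂
        rw [← cancel_mono W.ι, Category.assoc, Category.assoc, IsOpenImmersion.lift_fac,
          IsOpenImmersion.lift_fac]
        exact huv.restrict hu hv W₀ e₁ e₂)
    refine ⟨w ≫ W.ι, ?_, ?_⟩
    · rw [← Category.assoc, h₁, IsOpenImmersion.lift_fac]
    · rw [← Category.assoc, h₂, IsOpenImmersion.lift_fac]
  choose w hw₁ hw₂ using hex
  obtain ⟨W, hW⟩ := exists_glue D O hD w fun k l => h.ext _ _ _ _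
    (by
      rw [Scheme.Hom.resLE_map_assoc, Scheme.Hom.resLE_map_assoc]
      have e₁ := congrArg (X.homOfLE (show a ⁻¹ᵁ (D k ⊓ D l) ≤ a ⁻¹ᵁ D k from
        fun _ hz => hz.1) ≫ ·) (hw₁ k)
      have e₂ := congrArg (X.homOfLE (show a ⁻¹ᵁ (D k ⊓ D l) ≤ a ⁻¹ᵁ D l from
        fun _ hz => hz.2) ≫ ·) (hw₁ l)
      simp only [Scheme.Hom.map_resLE_assoc, Scheme.homOfLE_homOfLE_assoc] at e₁ e₂
      refine e₁.trans (Eq.trans ?_ e₂.symm)
      rfl)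
    (by
      rw [Scheme.Hom.resLE_map_assoc, Scheme.Hom.resLE_map_assoc]
      have e₁ := congrArg (Y.homOfLE (show b ⁻¹ᵁ (D k ⊓ D l) ≤ b ⁻¹ᵁ D k from
        fun _ hz => hz.1) ≫ ·) (hw₂ k)
      have e₂ := congrArg (Y.homOfLE (show b ⁻¹ᵁ (D k ⊓ D l) ≤ b ⁻¹ᵁ D l from
        fun _ hz => hz.2) ≫ ·) (hw₂ l)
      simp only [Scheme.Hom.map_resLE_assoc, Scheme.homOfLE_homOfLE_assoc] at e₁ e₂
      refine e₁.trans (Eq.trans ?_ e₂.symm)
      rfl)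
  refine ⟨W, hom_ext_iSup (fun f => a ⁻¹ᵁ D f) _ ?_ fun f hf => ?_,
    hom_ext_iSup (fun f => b ⁻¹ᵁ D f) _ ?_ fun f hf => ?_⟩
  · rw [← a.preimage_iSup, hD]
  · rw [← hw₁ f, ← hW f (hle f), Scheme.Hom.map_resLE_assoc, Scheme.Hom.resLE_map_assoc]
  · rw [← b.preimage_iSup, hD]
  · rw [← hw₂ f, ← hW f (hle f), Scheme.Hom.map_resLE_assoc, Scheme.Hom.resLE_map_assoc]

theorem isLocPushout (h : AffSq i j a b) : IsLocPushout i j a b :=
  ⟨h.w, h.desc, h.ext⟩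

end AffSq

end Groth.Agent.Lib.Ferrand
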