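import Groth.Agent.Lib.Ferrand.Pairs
import Mathlib.AlgebraicGeometry.ZariskisMainTheorem

/-!
# Affine opens containing integral fibres
-/

universe u

open CategoryTheory Limits AlgebraicGeometry TopologicalSpace

namespace Groth.Agent.Lib.Ferrand

set_option backward.isDefEq.respectTransparency false in
/-- A fibre of an integral morphism of affine schemes mapping into an open of an affine scheme
maps into a basic open inside it. -/
theorem exists_basicOpen_fibre {W V N : Scheme.{u}} [IsAffine W] [IsAffine V] [IsAffine N]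
    (q : W ⟶ V) [IsIntegralHom q] (μ : W ⟶ N) (O : N.Opens) (y : V)
    (hy : q ⁻¹' {y} ⊆ (μ ⁻¹ᵁ O : Set W)) :
    ∃ g : Γ(N, ⊤), N.basicOpen g ≤ O ∧ q ⁻¹' {y} ⊆ (μ ⁻¹ᵁ N.basicOpen g : Set W) := by
  classical
  have hW := isAffineOpen_top W
  have hN := isAffineOpen_top N
  have hb : ∀ w : q ⁻¹' {y}, ∃ g : Γ(N, ⊤), N.basicOpen g ≤ O ∧ μ w.1 ∈ N.basicOpen g :=
    fun w => hN.exists_basicOpen_le (V := O) ⟨μ w.1, hy w.2⟩ trivial
  choose g hg hwg using hb
  obtain ⟨t, ht⟩ := (q.isCompact_preimage_singleton y).elim_finite_subcover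
    (fun w => (μ ⁻¹ᵁ N.basicOpen (g w) : Set W)) (fun w => (μ ⁻¹ᵁ N.basicOpen (g w)).2)
    (fun w hw => Set.mem_iUnion.mpr ⟨⟨w, hw⟩, hwg ⟨w, hw⟩⟩)
  letI := q.appTop.hom.toAlgebra
  have : Algebra.IsIntegral Γ(V, ⊤) Γ(W, ⊤) :=
    ⟨fun x => ((HasAffineProperty.iff_of_isAffine (P := @IsIntegralHom) (f := q)).mp ‹_›).2 x⟩
  let pt : W → PrimeSpectrum Γ(W, ⊤) := fun w => hW.primeIdealOf ⟨w, trivial⟩
  have hmem : ∀ (w : W) (c : Γ(N, ⊤)), w ∈ μ ⁻¹ᵁ N.basicOpen c ↔ μ.appTop.hom c ∉ (pt w).asIdeal :=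
    fun w c => by
      rw [Scheme.preimage_basicOpen_top]
      exact mem_basicOpen_iff hW _ ⟨w, trivial⟩
  have hfib : ∀ w : W, PrimeSpectrum.comap (algebraMap Γ(V, ⊤) Γ(W, ⊤)) (pt w) =
      (isAffineOpen_top V).primeIdealOf ⟨q w, trivial⟩ := fun w => by
    have := IsAffineOpen.comap_primeIdealOf_appLE (f := q) ⊤ (isAffineOpen_top V) ⊤ hW le_top
      (x := w) trivial
    have e : q.appLE ⊤ ⊤ le_top = q.appTop := by
      rw [Scheme.Hom.appTop, Scheme.Hom.app_eq_appLE]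
      rfl
    rw [e] at this
    exact this
  obtain ⟨g₀, hg₀, hg₀'⟩ := exists_mem_span_forall_notMem μ.appTop.hom
    ((isAffineOpen_top V).primeIdealOf ⟨y, trivial⟩) (t.image g) (by
      intro P hP
      let w : W := hW.fromSpec P
      have hw : pt w = P := hW.fromSpec.isOpenEmbedding.injective (hW.fromSpec_primeIdealOf _)
      have hwy : q w = y := by
        rw [← hw, hfib] at hP
        have := congrArg (fun x => (isAffineOpen_top V).fromSpec x) hP
        simpa only [IsAffineOpen.fromSpec_primeIdealOf] using this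
      obtain ⟨e, het, he⟩ := Set.mem_iUnion₂.mp (ht hwy)
      exact ⟨g e, Finset.mem_image_of_mem g het, hw ▸ (hmem w (g e)).mp he⟩)
  refine ⟨g₀, fun x hx => ?_, fun w hw => (hmem w g₀).mpr (hg₀' _ (by
    rw [hfib]; congr 2))⟩
  by_contra hxO
  refine (mem_basicOpen_iff hN g₀ ⟨x, trivial⟩).mp hx (Ideal.span_le.mpr ?_ hg₀)
  intro c hc
  obtain ⟨e, -, rfl⟩ := Finset.mem_image.mp (Finset.mem_coe.mp hc)
  by_contra hce
  exact hxO (hg e ((mem_basicOpen_iff hN (g e) ⟨x, trivial⟩).mpr hce))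

variable {X' Y' Z' : Scheme.{u}}

set_option backward.isDefEq.respectTransparency false in
/-- Integral fibres inside the preimage of an affine open under a separated locally quasi-finite
morphism lie in affine opens. -/
theorem exists_affineOpen_fibre {X : Scheme.{u}} (i' : Z' ⟶ X') (j' : Z' ⟶ Y') [IsIntegralHom j']
    (f : X' ⟶ X) [IsSeparated f] [LocallyQuasiFinite f] [LocallyOfFiniteType f] (U : X.Opens)
    (hU : IsAffineOpen U) (y : Y') (hy : ∀ z, j' z = y → f (i' z) ∈ U) :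
    ∃ U' : X'.Opens, IsAffineOpen U' ∧ j' ⁻¹' {y} ⊆ (i' ⁻¹ᵁ U' : Set Z') := by
  classical
  -- a quasi-compact open of `f ⁻¹ U` containing the image of the fibre
  choose O hO hzO hOU using fun z : j' ⁻¹' {y} =>
    exists_isAffineOpen_mem_and_subset (x := i' z.1) (U := f ⁻¹ᵁ U) (hy z.1 z.2)
  obtain ⟨t, ht⟩ := (j'.isCompact_preimage_singleton y).elim_finite_subcover
    (fun z => (i' ⁻¹ᵁ O z : Set Z')) (fun z => (i' ⁻¹ᵁ O z).2)
    (fun z hz => Set.mem_iUnion.mpr ⟨⟨z, hz⟩, hzO ⟨z, hz⟩⟩)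
  let V : X'.Opens := t.sup O
  have hVU : V ≤ f ⁻¹ᵁ U := Finset.sup_le fun z _ => hOU z
  have hVc : IsCompact (V : Set X') := by
    rw [show (V : Set X') = ⋃ z ∈ t, (O z : Set X') by
      ext x; simp [V, Finset.sup_eq_iSup]]
    exact t.finite_toSet.isCompact_biUnion fun z _ => (hO z).isCompact
  have hyV : j' ⁻¹' {y} ⊆ (i' ⁻¹ᵁ V : Set Z') := fun z hz => by
    obtain ⟨e, het, he⟩ := Set.mem_iUnion₂.mp (ht hz)
    exact (Finset.le_sup (f := O) het) he
  -- an affine neighbourhood of `y` with preimage in `V`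
  obtain ⟨V₁, hV₁, hyV₁, hV₁sub⟩ := exists_isAffineOpen_mem_and_subset (x := y)
    (U := ⟨_, (j'.isClosedMap _ (i' ⁻¹ᵁ V).2.isClosed_compl).isOpen_compl⟩)
    (by rintro ⟨z, hz, hzy⟩; exact hz (hyV hzy))
  have hWV : j' ⁻¹ᵁ V₁ ≤ i' ⁻¹ᵁ V := fun z hz => by
    by_contra h
    exact hV₁sub hz ⟨z, h, rfl⟩
  have : IsAffine U.toScheme := hU
  have : IsAffine V₁.toScheme := hV₁
  have : IsAffine (j' ⁻¹ᵁ V₁).toScheme := hV₁.preimage j'
  let h : V.toScheme ⟶ U.toScheme := f.resLE U V hVU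
  have : IsSeparated (h ≫ U.ι) := by rw [Scheme.Hom.resLE_comp_ι]; infer_instance
  have : IsSeparated h := IsSeparated.of_comp h U.ι
  have : LocallyOfFiniteType (h ≫ U.ι) := by rw [Scheme.Hom.resLE_comp_ι]; infer_instance
  have : LocallyOfFiniteType h := locallyOfFiniteType_of_comp h U.ι
  have : CompactSpace V.toScheme := isCompact_iff_compactSpace.mp hVc
  have : QuasiCompact h := inferInstance
  have : IsAffine h.normalization := isAffine_of_isAffineHom h.fromNormalization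
  let q : (j' ⁻¹ᵁ V₁).toScheme ⟶ V₁.toScheme := j' ∣_ V₁
  have : IsIntegralHom q := inferInstance
  let μ : (j' ⁻¹ᵁ V₁).toScheme ⟶ h.normalization := i'.resLE V _ hWV ≫ h.toNormalization
  obtain ⟨g, hg, hgy⟩ := exists_basicOpen_fibre q μ h.toNormalization.opensRange ⟨y, hyV₁⟩
    fun w _ => ⟨i'.resLE V _ hWV w, rfl⟩
  have haff : IsAffineOpen (h.toNormalization ⁻¹ᵁ h.normalization.basicOpen g) :=
    ((isAffineOpen_top _).basicOpen g).preimage_of_isOpenImmersion h.toNormalization hg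
  refine ⟨V.ι ''ᵁ (h.toNormalization ⁻¹ᵁ h.normalization.basicOpen g),
    haff.image_of_isOpenImmersion V.ι, fun z hz => ?_⟩
  have hz₁ : z ∈ j' ⁻¹ᵁ V₁ := by show j' z ∈ V₁; rw [show j' z = y from hz]; exact hyV₁
  have hw : q ⟨z, hz₁⟩ = ⟨y, hyV₁⟩ := Subtype.ext (by
    show (q ≫ V₁.ι) ⟨z, hz₁⟩ = y
    rw [morphismRestrict_ι]
    exact hz)
  refine ⟨i'.resLE V _ hWV ⟨z, hz₁⟩, hgy hw, ?_⟩
  show (i'.resLE V _ hWV ≫ V.ι) ⟨z, hz₁⟩ = i' z
  rw [Scheme.Hom.resLE_comp_ι]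
  rfl

end Groth.Agent.Lib.Ferrand

namespace Groth.Agent.Lib.Ferrand

theorem exists_open_inter {α : Type*} [TopologicalSpace α] {s : Set α} (hs : IsDiscrete s) {t : α}
    (ht : t ∈ s) : ∃ U : Set α, IsOpen U ∧ U ∩ s = {t} := by
  have := isDiscrete_iff_discreteTopology.mp hs
  obtain ⟨U, hU, hUeq⟩ := isOpen_induced_iff.mp (isOpen_discrete ({⟨t, ht⟩} : Set s))
  refine ⟨U, hU, Set.ext fun x => ⟨fun ⟨hxU, hxs⟩ => ?_, fun hx => ?_⟩⟩
  · have : (⟨x, hxs⟩ : s) ∈ ({⟨t, ht⟩} : Set s) := hUeq.le hxU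
    exact congrArg Subtype.val this
  · obtain rfl : x = t := hx
    exact ⟨hUeq.ge (rfl : (⟨x, ht⟩ : s) ∈ ({⟨x, ht⟩} : Set s)), ht⟩

set_option backward.isDefEq.respectTransparency false in
/-- There are no specializations in the fibres of an integral morphism. -/
theorem eq_of_specializes_of_integral {X Y : Scheme.{u}} (f : X ⟶ Y) [IsIntegralHom f] {x y : X}
    (h : x ⤳ y) (hf : f x = f y) : x = y := by
  obtain ⟨V, hV, hyV, -⟩ := exists_isAffineOpen_mem_and_subset (x := f y) (U := ⊤) trivial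
  have hxV : x ∈ f ⁻¹ᵁ V := h.mem_open (f ⁻¹ᵁ V).2 hyV
  have hW := hV.preimage f
  letI := (f.app V).hom.toAlgebra
  have : Algebra.IsIntegral Γ(Y, V) Γ(X, f ⁻¹ᵁ V) :=
    ⟨fun z => IsIntegralHom.isIntegral_app f V hV z⟩
  let px := hW.primeIdealOf ⟨x, hxV⟩
  let py := hW.primeIdealOf ⟨y, hyV⟩
  have hle : px.asIdeal ≤ py.asIdeal := by
    intro c hc
    by_contra hcy
    exact (mem_basicOpen_iff hW c ⟨x, hxV⟩).mp
      (h.mem_open (X.basicOpen c).2 ((mem_basicOpen_iff hW c ⟨y, hyV⟩).mpr hcy)) hc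
  have hfib : ∀ (z : X) (hz : z ∈ f ⁻¹ᵁ V),
      PrimeSpectrum.comap (f.app V).hom (hW.primeIdealOf ⟨z, hz⟩) = hV.primeIdealOf ⟨f z, hz⟩ :=
    fun z hz => by
      have := IsAffineOpen.comap_primeIdealOf_appLE (f := f) V hV _ hW le_rfl hz
      rw [Scheme.Hom.appLE_eq_app] at this
      exact this
  have heq : PrimeSpectrum.comap (algebraMap Γ(Y, V) Γ(X, f ⁻¹ᵁ V)) px =
      PrimeSpectrum.comap (algebraMap Γ(Y, V) Γ(X, f ⁻¹ᵁ V)) py := by
    refine (hfib x hxV).trans (Eq.trans ?_ (hfib y hyV).symm)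
    exact congrArg _ (Subtype.ext hf)
  have hpxy : px = py := by
    ext1
    by_contra hne
    obtain ⟨c, hcy, hcx⟩ := SetLike.exists_of_lt (lt_of_le_of_ne hle hne)
    obtain ⟨P, hP, hPc⟩ := Algebra.IsIntegral.isIntegral (R := Γ(Y, V)) c
    have := Ideal.comap_lt_comap_of_integral_mem_sdiff (R := Γ(Y, V)) hle
      ⟨hcy, hcx⟩ ⟨P, hP, hPc⟩
    exact this.ne congr($(heq).asIdeal)
  have := congrArg (fun p => hW.fromSpec p) hpxy
  simpa only [px, py, IsAffineOpen.fromSpec_primeIdealOf] using this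

end Groth.Agent.Lib.Ferrand
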