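import Groth.Agent.Lib.Ferrand.Props
import Mathlib.RingTheory.Artinian.Module
import Mathlib.RingTheory.Ideal.Over
import Mathlib.RingTheory.IntegralClosure.IsIntegralClosure.Basic
import Mathlib.RingTheory.LocalRing.ResidueField.Fiber
import Mathlib.Algebra.MvPolynomial.CommRing
import Mathlib.RingTheory.Adjoin.Polynomial.Basic

/-!
# Affine pairs for a closed immersion and an integral morphism
-/

universe u

open CategoryTheory Limits AlgebraicGeometry TopologicalSpace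

namespace Groth.Agent.Lib.Ferrand

open TensorProduct in
/-- In an integral fibre, an element of an ideal avoiding all primes of the fibre. -/
theorem exists_mem_span_forall_notMem {C E D : Type u} [CommRing C] [CommRing E] [CommRing D]
    [Algebra E D] [Algebra.IsIntegral E D] (φ : C →+* D) (q : PrimeSpectrum E) (s : Finset C)
    (hs : ∀ P : PrimeSpectrum D, PrimeSpectrum.comap (algebraMap E D) P = q →
      ∃ g ∈ s, φ g ∉ P.asIdeal) :
    ∃ g ∈ Ideal.span (s : Set C), ∀ P : PrimeSpectrum D,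
      PrimeSpectrum.comap (algebraMap E D) P = q → φ g ∉ P.asIdeal := by
  classical
  let κ := q.asIdeal.ResidueField
  let Q := κ ⊗[E] D
  let ι₂ : D →+* Q := (Algebra.TensorProduct.includeRight (R := E) (A := κ) (B := D)).toRingHom
  let S : Set Q := (fun g => ι₂ (φ g)) '' (s : Set C)
  let R₁ := Algebra.adjoin κ S
  have hint : ∀ x ∈ S, IsIntegral κ x := fun x _ => Algebra.IsIntegral.isIntegral x
  have : Module.Finite κ R₁ :=
    Module.Finite.iff_fg.mpr (fg_adjoin_of_finite (s.finite_toSet.image _) hint)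
  have : IsArtinianRing R₁ := isArtinian_of_tower κ inferInstance
  let v : {x // x ∈ s} → R₁ := fun g => ⟨ι₂ (φ g.1), Algebra.subset_adjoin ⟨g.1, g.2, rfl⟩⟩
  let ev : MvPolynomial {x // x ∈ s} ℤ →+* R₁ := MvPolynomial.eval₂Hom (Int.castRingHom _) v
  let evC : MvPolynomial {x // x ∈ s} ℤ →+* C :=
    MvPolynomial.eval₂Hom (Int.castRingHom _) fun g => g.1
  have hev : (R₁.subtype : R₁ →+* Q).comp ev = (ι₂.comp φ).comp evC := by
    refine MvPolynomial.ringHom_ext (fun n => ?_) fun g => ?_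
    · simp
    · simp [ev, evC, v]
      rfl
  let PP : Set (Ideal (MvPolynomial {x // x ∈ s} ℤ)) :=
    Set.range fun p : PrimeSpectrum R₁ => p.asIdeal.comap ev
  let e := PrimeSpectrum.preimageEquivFiber E D q
  let J : Ideal (MvPolynomial {x // x ∈ s} ℤ) := Ideal.span (Set.range MvPolynomial.X)
  have hP : ∀ P : PrimeSpectrum D, PrimeSpectrum.comap (algebraMap E D) P = q →
      ∃ p ∈ PP, ¬ J ≤ p ∧ (φ.comp evC) ⁻¹' (P.asIdeal : Set D) = (p : Set _) := by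
    intro P hPq
    let P' : PrimeSpectrum Q := e ⟨P, hPq⟩
    have hP' : P = PrimeSpectrum.comap ι₂ P' := by
      exact (congrArg Subtype.val (e.symm_apply_apply ⟨P, hPq⟩)).symm
    refine ⟨_, ⟨PrimeSpectrum.comap (R₁.subtype : R₁ →+* Q) P', rfl⟩, ?_, ?_⟩
    · intro hJ
      obtain ⟨g, hg, hgP⟩ := hs P hPq
      have hmem := hJ (Ideal.subset_span ⟨⟨g, hg⟩, rfl⟩)
      rw [Ideal.mem_comap, PrimeSpectrum.comap_asIdeal, Ideal.mem_comap, ← RingHom.comp_apply,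
        hev] at hmem
      rw [hP'] at hgP
      exact hgP (by simpa [evC] using hmem)
    · ext x
      show φ (evC x) ∈ P.asIdeal ↔ (R₁.subtype : R₁ →+* Q).comp ev x ∈ P'.asIdeal
      rw [hev, hP']
      rfl
  have hfin : {p ∈ PP | ¬ J ≤ p}.Finite :=
    (Set.finite_range _).subset fun p hp => hp.1
  obtain ⟨t, htJ, ht⟩ : ∃ t ∈ J, ∀ p ∈ PP, ¬ J ≤ p → t ∉ p := by
    by_contra hcon
    push Not at hcon
    have hsub : (J : Set (MvPolynomial {x // x ∈ s} ℤ)) ⊆ ⋃ p ∈ (hfin.toFinset : Set (Ideal (MvPolynomial {x // x ∈ s} ℤ))), (p : Set (MvPolynomial {x // x ∈ s} ℤ)) := fun x hx => by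
      obtain ⟨p, hp, hJp, hxp⟩ := hcon x hx
      exact Set.mem_biUnion (hfin.mem_toFinset.mpr ⟨hp, hJp⟩) hxp
    obtain ⟨p, hp, hle⟩ := (Ideal.subset_union_prime (f := fun p => p) ⊥ ⊥ (fun p hp _ _ => by
      obtain ⟨⟨P, rfl⟩, -⟩ := hfin.mem_toFinset.mp hp
      infer_instance)).mp hsub
    exact (hfin.mem_toFinset.mp hp).2 hle
  refine ⟨evC t, ?_, fun P hPq hmem => ?_⟩
  · have : J.map evC ≤ Ideal.span (s : Set C) := by
      rw [Ideal.map_span, Ideal.span_le]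
      rintro _ ⟨_, ⟨g, rfl⟩, rfl⟩
      simp only [evC, MvPolynomial.eval₂Hom_X']
      exact Ideal.subset_span g.2
    exact this (Ideal.mem_map_of_mem _ htJ)
  · obtain ⟨p, hp, hJp, hpP⟩ := hP P hPq
    exact ht p hp hJp (hpP.le hmem)

variable {X Y Z : Scheme.{u}}

theorem mem_basicOpen_iff {U : X.Opens} (hU : IsAffineOpen U) (f : Γ(X, U)) (x : U) :
    x.1 ∈ X.basicOpen f ↔ f ∉ (hU.primeIdealOf x).asIdeal := by
  refine Iff.trans ?_ (SetLike.ext_iff.mp (hU.fromSpec_preimage_basicOpen f) (hU.primeIdealOf x))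
  show x.1 ∈ _ ↔ hU.fromSpec (hU.primeIdealOf x) ∈ X.basicOpen f
  rw [hU.fromSpec_primeIdealOf]

/-- An affine open of `X` and a fibre of an integral morphism inside it give a pair. -/
theorem exists_pair (i : Z ⟶ X) [IsClosedImmersion i] (j : Z ⟶ Y) [IsIntegralHom j] (y : Y)
    (U : X.Opens) (hU : IsAffineOpen U) (hy : j ⁻¹' {y} ⊆ (i ⁻¹ᵁ U : Set Z)) :
    ∃ k : AffPair i j, y ∈ k.V := by
  classical
  -- an affine neighbourhood of `y` with preimage inside `i ⁻¹ U`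
  have hcl : IsClosed (j '' (i ⁻¹ᵁ U : Set Z)ᶜ) := j.isClosedMap _ (i ⁻¹ᵁ U).2.isClosed_compl
  obtain ⟨V₁, hV₁, hyV₁, hV₁sub⟩ := exists_isAffineOpen_mem_and_subset (x := y)
    (U := ⟨_, hcl.isOpen_compl⟩) (by rintro ⟨z, hz, hzy⟩; exact hz (hy hzy))
  have hWU : j ⁻¹ᵁ V₁ ≤ i ⁻¹ᵁ U := fun z hz => by
    by_contra h
    exact hV₁sub hz ⟨z, h, rfl⟩
  have hZU : IsAffineOpen (i ⁻¹ᵁ U) := hU.preimage i
  have hW : IsAffineOpen (j ⁻¹ᵁ V₁) := hV₁.preimage j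
  -- basic opens covering `j ⁻¹ V₁`
  have hbas : ∀ z : (j ⁻¹ᵁ V₁ : Z.Opens), ∃ g : Γ(Z, i ⁻¹ᵁ U),
      Z.basicOpen g ≤ j ⁻¹ᵁ V₁ ∧ z.1 ∈ Z.basicOpen g := fun z =>
    hZU.exists_basicOpen_le z (hWU z.2)
  choose g hg hzg using hbas
  obtain ⟨t, ht⟩ := hW.isCompact.elim_finite_subcover
    (fun z => (Z.basicOpen (g z) : Set Z)) (fun z => (Z.basicOpen (g z)).2)
    (fun z hz => Set.mem_iUnion.mpr ⟨⟨z, hz⟩, hzg _⟩)
  -- the ring-theoretic setting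
  let ψ : Γ(Y, V₁) →+* Γ(Z, j ⁻¹ᵁ V₁) := (j.appLE V₁ (j ⁻¹ᵁ V₁) le_rfl).hom
  let ρ : Γ(Z, i ⁻¹ᵁ U) →+* Γ(Z, j ⁻¹ᵁ V₁) := (Z.presheaf.map (homOfLE hWU).op).hom
  letI := ψ.toAlgebra
  have : Algebra.IsIntegral Γ(Y, V₁) Γ(Z, j ⁻¹ᵁ V₁) := by
    refine ⟨fun x => ?_⟩
    have h : ψ.IsIntegral := by
      simp only [ψ, Scheme.Hom.appLE_eq_app]
      exact IsIntegralHom.isIntegral_app j V₁ hV₁
    exact h x
  have hfib : ∀ z : (j ⁻¹ᵁ V₁ : Z.Opens),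
      PrimeSpectrum.comap (algebraMap Γ(Y, V₁) Γ(Z, j ⁻¹ᵁ V₁)) (hW.primeIdealOf z) =
        hV₁.primeIdealOf ⟨j z.1, z.2⟩ :=
    fun z => IsAffineOpen.comap_primeIdealOf_appLE V₁ hV₁ _ hW le_rfl z.2
  have hmem : ∀ (z : (j ⁻¹ᵁ V₁ : Z.Opens)) (c : Γ(Z, i ⁻¹ᵁ U)),
      z.1 ∈ Z.basicOpen c ↔ ρ c ∉ (hW.primeIdealOf z).asIdeal := fun z c => by
    rw [← mem_basicOpen_iff hW, Scheme.basicOpen_res]
    exact ⟨fun h => ⟨z.2, h⟩, fun h => h.2⟩
  obtain ⟨g₀, hg₀, hg₀'⟩ := exists_mem_span_forall_notMem ρ (hV₁.primeIdealOf ⟨y, hyV₁⟩)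
    (t.image g) (by
      intro P hP
      let z : (j ⁻¹ᵁ V₁ : Z.Opens) := ⟨hW.fromSpec P, hW.range_fromSpec.le ⟨P, rfl⟩⟩
      have hzP : hW.primeIdealOf z = P :=
        hW.fromSpec.isOpenEmbedding.injective (hW.fromSpec_primeIdealOf z)
      obtain ⟨w, hwt, hw⟩ := Set.mem_iUnion₂.mp (ht z.2)
      exact ⟨g w, Finset.mem_image_of_mem g hwt, hzP ▸ (hmem z (g w)).mp hw⟩)
  have hg₀W : Z.basicOpen g₀ ≤ j ⁻¹ᵁ V₁ := by
    intro z hz
    have hzU : z ∈ i ⁻¹ᵁ U := Z.basicOpen_le g₀ hz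
    by_contra hzW
    refine (mem_basicOpen_iff hZU g₀ ⟨z, hzU⟩).mp hz (Ideal.span_le.mpr ?_ hg₀)
    intro c hc
    obtain ⟨w, -, rfl⟩ := Finset.mem_image.mp (Finset.mem_coe.mp hc)
    by_contra hcw
    exact hzW (hg w ((mem_basicOpen_iff hZU (g w) ⟨z, hzU⟩).mpr hcw))
  have hfibre : j ⁻¹' {y} ⊆ (Z.basicOpen g₀ : Set Z) := by
    rintro z (rfl : j z = y)
    exact (hmem ⟨z, hyV₁⟩ g₀).mpr (hg₀' _ (hfib ⟨z, hyV₁⟩))
  -- lift to `X` and shrink `V₁`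
  obtain ⟨f, rfl⟩ := i.app_surjective U hU g₀
  obtain ⟨h, hle, hyh⟩ := hV₁.exists_basicOpen_le
    (V := ⟨_, (j.isClosedMap _ (Z.basicOpen (i.app U f)).2.isClosed_compl).isOpen_compl⟩)
    ⟨y, by rintro ⟨z, hz, hzy⟩; exact hz (hfibre hzy)⟩ hyV₁
  have hV : j ⁻¹ᵁ Y.basicOpen h ≤ i ⁻¹ᵁ X.basicOpen f := fun z hz => by
    rw [Scheme.preimage_basicOpen]
    by_contra hc
    exact hle hz ⟨z, hc, rfl⟩
  have hU₁ : IsAffineOpen (X.basicOpen f) := hU.basicOpen f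
  have hle' : i ⁻¹ᵁ X.basicOpen f ≤ j ⁻¹ᵁ V₁ := by
    rw [Scheme.preimage_basicOpen]; exact hg₀W
  let g₁ : Γ(Z, i ⁻¹ᵁ X.basicOpen f) := j.appLE V₁ _ hle' h
  obtain ⟨f', hf'⟩ := i.app_surjective (X.basicOpen f) hU₁ g₁
  refine ⟨⟨X.basicOpen f', Y.basicOpen h, hU₁.basicOpen f', hV₁.basicOpen h, ?_⟩, hyh⟩
  rw [Scheme.preimage_basicOpen, hf']
  show Z.basicOpen (j.appLE V₁ _ hle' h) = _
  rw [Scheme.basicOpen_appLE]
  exact inf_eq_right.mpr hV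

/-- The condition that every fibre of `j` lies in an affine open of `X` gives enough pairs. -/
theorem cover_of_integral (i : Z ⟶ X) [IsClosedImmersion i] (j : Z ⟶ Y) [IsIntegralHom j]
    (h : ∀ y : Y, ∃ U : X.Opens, IsAffineOpen U ∧ j ⁻¹' {y} ⊆ (i ⁻¹ᵁ U : Set Z)) (y : Y) :
    ∃ k : AffPair i j, y ∈ k.V :=
  let ⟨U, hU, hy⟩ := h y
  exists_pair i j y U hU hy

theorem cover_of_isClosedImmersion (i : Z ⟶ X) [IsClosedImmersion i] (j : Z ⟶ Y)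
    [IsClosedImmersion j] (y : Y) : ∃ k : AffPair i j, y ∈ k.V := by
  by_cases hy : y ∈ Set.range j
  · obtain ⟨z, rfl⟩ := hy
    obtain ⟨U, hU, hzU, -⟩ := exists_isAffineOpen_mem_and_subset (x := i z) (U := ⊤) trivial
    exact exists_pair i j _ U hU fun z' hz' => (j.isClosedEmbedding.injective hz') ▸ hzU
  · exact exists_pair i j y ⊥ (isAffineOpen_bot X) fun z' hz' => absurd ⟨z', hz'⟩ hy

end Groth.Agent.Lib.Ferrand
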