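import Groth.Agent.Lib.Ferrand.TwoClosedRing
import Groth.Agent.Lib.Ferrand.Cartesian
import Mathlib.AlgebraicGeometry.Morphisms.SmoothFiber
import Mathlib.AlgebraicGeometry.Morphisms.Etale
import Mathlib.AlgebraicGeometry.Morphisms.FormallyUnramified

/-!
# Pushouts of two closed immersions: gluing of properties of morphisms
-/

universe u

open CategoryTheory Limits AlgebraicGeometry TopologicalSpace TensorProduct

namespace Groth.Agent.Lib.Ferrand.TwoClosed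

section Ring

variable {R B C D DB DC : CommRingCat.{u}} {r : R ⟶ B} {s : R ⟶ C} {κ : R ⟶ D} {δ : B ⟶ DB}
  {γ : C ⟶ DC} {r₁ : D ⟶ DB} {s₁ : D ⟶ DC}

theorem exists_algEquiv (h : IsPushout r κ δ r₁) :
    letI := r.hom.toAlgebra
    letI := κ.hom.toAlgebra
    letI := δ.hom.toAlgebra
    Nonempty (B ⊗[R] D ≃ₐ[B] DB) := by
  letI := r.hom.toAlgebra
  letI := κ.hom.toAlgebra
  letI := δ.hom.toAlgebra
  obtain ⟨e, he⟩ := exists_equiv h
  exact ⟨AlgEquiv.ofRingEquiv (f := e) fun b => by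
    rw [Algebra.TensorProduct.algebraMap_apply, he, map_one, mul_one]
    rfl⟩

variable (hr : Function.Surjective r.hom) (hs : Function.Surjective s.hom)
  (hk : RingHom.ker r.hom ⊓ RingHom.ker s.hom = ⊥)
  (hB : IsPushout r κ δ r₁) (hC : IsPushout s κ γ s₁)

include hr hs hk hB hC

theorem flat_hom (h₁ : δ.hom.Flat) (h₂ : γ.hom.Flat) : κ.hom.Flat := by
  letI := r.hom.toAlgebra
  letI := s.hom.toAlgebra
  letI := κ.hom.toAlgebra
  letI := δ.hom.toAlgebra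
  letI := γ.hom.toAlgebra
  have : Module.Flat B DB := h₁
  have : Module.Flat C DC := h₂
  obtain ⟨e₁⟩ := exists_algEquiv hB
  obtain ⟨e₂⟩ := exists_algEquiv hC
  have : Module.Flat B (B ⊗[R] D) := Module.Flat.of_linearEquiv e₁.toLinearEquiv
  have : Module.Flat C (C ⊗[R] D) := Module.Flat.of_linearEquiv e₂.toLinearEquiv
  exact (flat (B := B) (C := C) hr hs hk : Module.Flat R D)

theorem formallyUnramified_hom (h₁ : δ.hom.FormallyUnramified) (h₂ : γ.hom.FormallyUnramified) :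
    κ.hom.FormallyUnramified := by
  letI := r.hom.toAlgebra
  letI := s.hom.toAlgebra
  letI := κ.hom.toAlgebra
  letI := δ.hom.toAlgebra
  letI := γ.hom.toAlgebra
  have : Algebra.FormallyUnramified B DB := h₁
  have : Algebra.FormallyUnramified C DC := h₂
  obtain ⟨e₁⟩ := exists_algEquiv hB
  obtain ⟨e₂⟩ := exists_algEquiv hC
  have : Algebra.FormallyUnramified B (B ⊗[R] D) := .of_equiv e₁.symm
  have : Algebra.FormallyUnramified C (C ⊗[R] D) := .of_equiv e₂.symm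
  exact (formallyUnramified (B := B) (C := C) hr hs hk : Algebra.FormallyUnramified R D)

theorem finitePresentation_hom (hfl : κ.hom.Flat) (hft : κ.hom.FiniteType)
    (h₁ : δ.hom.FinitePresentation) (h₂ : γ.hom.FinitePresentation) :
    κ.hom.FinitePresentation := by
  letI := r.hom.toAlgebra
  letI := s.hom.toAlgebra
  letI := κ.hom.toAlgebra
  letI := δ.hom.toAlgebra
  letI := γ.hom.toAlgebra
  have : Module.Flat R D := hfl
  have : Algebra.FiniteType R D := hft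
  have : Algebra.FinitePresentation B DB := h₁
  have : Algebra.FinitePresentation C DC := h₂
  obtain ⟨e₁⟩ := exists_algEquiv hB
  obtain ⟨e₂⟩ := exists_algEquiv hC
  have : Algebra.FinitePresentation B (B ⊗[R] D) := Algebra.FinitePresentation.equiv e₁.symm
  have : Algebra.FinitePresentation C (C ⊗[R] D) := Algebra.FinitePresentation.equiv e₂.symm
  exact (finitePresentation (B := B) (C := C) hr hs hk : Algebra.FinitePresentation R D)

end Ring

variable {X Y Z P X' Y' P' : Scheme.{u}}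

/-- Local charts for a morphism to a pushout of two closed immersions. -/
theorem exists_local {i : Z ⟶ X} {j : Z ⟶ Y} [IsClosedImmersion i] [IsClosedImmersion j]
    {a : X ⟶ P} {b : Y ⟶ P} (hP : IsPushout i j a b) {f : X' ⟶ X} {g : Y' ⟶ Y} {a' : X' ⟶ P'}
    {b' : Y' ⟶ P'} {h : P' ⟶ P} (pa : IsPullback f a' a h) (pb : IsPullback g b' b h) (p : P') :
    ∃ (O : P.Opens) (O' : P'.Opens) (e : O' ≤ h ⁻¹ᵁ O) (ea : a' ⁻¹ᵁ O' ≤ f ⁻¹ᵁ (a ⁻¹ᵁ O))
      (eb : b' ⁻¹ᵁ O' ≤ g ⁻¹ᵁ (b ⁻¹ᵁ O)),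
      p ∈ O' ∧ IsAffineOpen O ∧ IsAffineOpen O' ∧
      IsAffine (a ⁻¹ᵁ O).toScheme ∧ IsAffine (b ⁻¹ᵁ O).toScheme ∧
      Function.Surjective (b.resLE O (b ⁻¹ᵁ O) le_rfl).appTop.hom ∧
      Function.Surjective (a.resLE O (a ⁻¹ᵁ O) le_rfl).appTop.hom ∧
      RingHom.ker (b.resLE O (b ⁻¹ᵁ O) le_rfl).appTop.hom ⊓
        RingHom.ker (a.resLE O (a ⁻¹ᵁ O) le_rfl).appTop.hom = ⊥ ∧
      IsPullback (f.resLE (a ⁻¹ᵁ O) (a' ⁻¹ᵁ O') ea) (a'.resLE O' (a' ⁻¹ᵁ O') le_rfl)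
        (a.resLE O (a ⁻¹ᵁ O) le_rfl) (h.resLE O O' e) ∧
      IsPullback (g.resLE (b ⁻¹ᵁ O) (b' ⁻¹ᵁ O') eb) (b'.resLE O' (b' ⁻¹ᵁ O') le_rfl)
        (b.resLE O (b ⁻¹ᵁ O) le_rfl) (h.resLE O O' e) := by
  have hg := GluedBy.of_isPushout (cover_of_isClosedImmersion i j) hP
  have hg' := GluedBy.of_isPushout (cover_of_isClosedImmersion j i) hP.flip
  obtain ⟨O, hO, hpO, -⟩ := exists_isAffineOpen_mem_and_subset (x := h p) (U := ⊤) trivial
  obtain ⟨O', hO', hpO', hle'⟩ := exists_isAffineOpen_mem_and_subset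
    (x := p) (U := h ⁻¹ᵁ O) hpO
  have e : O' ≤ h ⁻¹ᵁ O := hle'
  have ea : a' ⁻¹ᵁ O' ≤ f ⁻¹ᵁ (a ⁻¹ᵁ O) := by
    rw [← Scheme.Hom.comp_preimage f a, pa.w]
    exact fun x hx => e hx
  have eb : b' ⁻¹ᵁ O' ≤ g ⁻¹ᵁ (b ⁻¹ᵁ O) := by
    rw [← Scheme.Hom.comp_preimage g b, pb.w]
    exact fun x hx => e hx
  have e₁ : i ⁻¹ᵁ (a ⁻¹ᵁ O) = j ⁻¹ᵁ (b ⁻¹ᵁ O) := by
    rw [← Scheme.Hom.comp_preimage, ← Scheme.Hom.comp_preimage, hP.w]
  have h₁ := hg.affSq_restrict O hO e₁.le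
  have h₂ := hg'.affSq_restrict O hO e₁.ge
  refine ⟨O, O', e, ea, eb, hpO', hO, hO', h₁.affX, h₁.affY, h₁.sq.surjective_left,
    h₂.sq.surjective_left, ?_,
    Scheme.Hom.isPullback_resLE pa (US := O) (UT := O') (UX := a ⁻¹ᵁ O) e le_rfl
      (inf_eq_right.mpr ea).symm,
    Scheme.Hom.isPullback_resLE pb (US := O) (UT := O') (UX := b ⁻¹ᵁ O) e le_rfl
      (inf_eq_right.mpr eb).symm⟩
  refine eq_bot_iff.mpr fun x hx => ?_
  exact h₁.sq.ext x 0 (by rw [map_zero]; exact hx.1) (by rw [map_zero]; exact hx.2)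

end Groth.Agent.Lib.Ferrand.TwoClosed
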