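import Groth.Agent.Lib.Ferrand.Spec
import Mathlib.RingTheory.Flat.Equalizer
import Mathlib.RingTheory.TensorProduct.Maps
import Mathlib.LinearAlgebra.TensorProduct.Prod
import Mathlib.LinearAlgebra.TensorProduct.RightExactness
import Mathlib.RingTheory.RingHom.Flat

/-!
# Ferrand squares and base change
-/

universe u

open CategoryTheory Limits TensorProduct

namespace Groth.Agent.Lib.Ferrand

variable {K R B A' A : Type u} [CommRing K] [CommRing R] [CommRing B] [CommRing A'] [CommRing A]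
  [Algebra K R] [Algebra K B] [Algebra K A'] [Algebra K A]

/-- A Ferrand square stays one after a flat base change, or if the corner is flat over the base. -/
theorem IsSq.tensor {r : R →ₐ[K] B} {s : R →ₐ[K] A'} {q : B →ₐ[K] A} {p : A' →ₐ[K] A}
    (h : IsSq r.toRingHom s.toRingHom q.toRingHom p.toRingHom) (K' : Type u) [CommRing K']
    [Algebra K K'] (hfl : Module.Flat K K' ∨ Module.Flat K A) :
    IsSq (Algebra.TensorProduct.map (AlgHom.id K K') r).toRingHom
      (Algebra.TensorProduct.map (AlgHom.id K K') s).toRingHom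
      (Algebra.TensorProduct.map (AlgHom.id K K') q).toRingHom
      (Algebra.TensorProduct.map (AlgHom.id K K') p).toRingHom := by
  let φ : R →ₗ[K] B × A' := r.toLinearMap.prod s.toLinearMap
  let ψ : B × A' →ₗ[K] A :=
    q.toLinearMap ∘ₗ LinearMap.fst K B A' - p.toLinearMap ∘ₗ LinearMap.snd K B A'
  have hφ : Function.Injective φ := fun x y hxy => h.ext x y congr($hxy.1) congr($hxy.2)
  have hψ : Function.Surjective ψ := fun a => by
    obtain ⟨a', rfl⟩ := h.surj a
    exact ⟨(0, -a'), by simp [ψ]⟩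
  have hex : Function.Exact φ ψ := by
    rintro ⟨b, a⟩
    constructor
    · intro hba
      obtain ⟨x, hx₁, hx₂⟩ := h.lift b a (sub_eq_zero.mp hba)
      exact ⟨x, Prod.ext hx₁ hx₂⟩
    · rintro ⟨x, hx⟩
      rw [← hx]
      exact sub_eq_zero.mpr (h.comm x)
  have hinj : Function.Injective (φ.lTensor K') := by
    rcases hfl with hK | hA
    · exact Module.Flat.lTensor_preserves_injective_linearMap φ hφ
    · exact LinearMap.lTensor_injective_of_exact_of_flat ψ hψ φ hφ hex K'
  have hex' := lTensor_exact K' hex hψ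
  have hfst : ∀ t, Algebra.TensorProduct.map (AlgHom.id K K') r t =
      (TensorProduct.prodRight K K K' B A' (φ.lTensor K' t)).1 := by
    intro t
    induction t using TensorProduct.induction_on with
    | zero => simp
    | tmul k x => simp [φ]
    | add a b ha hb => simp only [map_add, ha, hb, Prod.fst_add]
  have hsnd : ∀ t, Algebra.TensorProduct.map (AlgHom.id K K') s t =
      (TensorProduct.prodRight K K K' B A' (φ.lTensor K' t)).2 := by
    intro t
    induction t using TensorProduct.induction_on with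
    | zero => simp
    | tmul k x => simp [φ]
    | add a b ha hb => simp only [map_add, ha, hb, Prod.snd_add]
  have hpsi : ∀ u, ψ.lTensor K' u =
      Algebra.TensorProduct.map (AlgHom.id K K') q (TensorProduct.prodRight K K K' B A' u).1 -
        Algebra.TensorProduct.map (AlgHom.id K K') p (TensorProduct.prodRight K K K' B A' u).2 := by
    intro u
    induction u using TensorProduct.induction_on with
    | zero => simp
    | tmul k x => simp [ψ, TensorProduct.tmul_sub]
    | add a b ha hb => simp only [map_add, ha, hb, Prod.fst_add, Prod.snd_add]; abel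
  refine ⟨fun x => ?_, fun z => ?_, fun x y hx hy => ?_, fun b a hba => ?_⟩
  · have := hex'.apply_apply_eq_zero x
    rw [hpsi, ← hfst, ← hsnd, sub_eq_zero] at this
    exact this
  · induction z using TensorProduct.induction_on with
    | zero => exact ⟨0, map_zero _⟩
    | tmul k x =>
      obtain ⟨x', rfl⟩ := h.surj x
      exact ⟨k ⊗ₜ x', by simp⟩
    | add a b ha hb =>
      obtain ⟨a', rfl⟩ := ha
      obtain ⟨b', rfl⟩ := hb
      exact ⟨a' + b', map_add _ _ _⟩
  · refine hinj ((TensorProduct.prodRight K K K' B A').injective (Prod.ext ?_ ?_))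
    · rw [← hfst, ← hfst]; exact hx
    · rw [← hsnd, ← hsnd]; exact hy
  · obtain ⟨x, hx⟩ := (hex' ((TensorProduct.prodRight K K K' B A').symm (b, a))).mp (by
      rw [hpsi, LinearEquiv.apply_symm_apply, sub_eq_zero]
      exact hba)
    refine ⟨x, ?_, ?_⟩
    · show Algebra.TensorProduct.map (AlgHom.id K K') r x = b
      rw [hfst, hx, LinearEquiv.apply_symm_apply]
    · show Algebra.TensorProduct.map (AlgHom.id K K') s x = a
      rw [hsnd, hx, LinearEquiv.apply_symm_apply]

theorem exists_equiv {K K' M M₁ : CommRingCat.{u}} {η : K ⟶ K'} {κ : K ⟶ M} {l : K' ⟶ M₁}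
    {u : M ⟶ M₁} (h : IsPushout η κ l u) :
    letI := η.hom.toAlgebra
    letI := κ.hom.toAlgebra
    ∃ e : K' ⊗[K] M ≃+* M₁, ∀ k m, e (k ⊗ₜ m) = l.hom k * u.hom m := by
  letI := η.hom.toAlgebra
  letI := κ.hom.toAlgebra
  letI := l.hom.toAlgebra
  letI := u.hom.toAlgebra
  letI := (η ≫ l).hom.toAlgebra
  have : IsScalarTower K K' M₁ := .of_algebraMap_eq fun _ => rfl
  have : IsScalarTower K M M₁ := .of_algebraMap_eq fun x => congr($h.w x)
  have : Algebra.IsPushout K K' M M₁ := CommRingCat.isPushout_iff_isPushout.mp h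
  exact ⟨(Algebra.IsPushout.equiv K K' M M₁).toRingEquiv, Algebra.IsPushout.equiv_tmul K K' M M₁⟩

/-- Ferrand squares are stable under suitable pushouts of rings. -/
theorem IsSq.baseChange {K K' R B A' A R₁ B₁ A₁' A₁ : CommRingCat.{u}}
    {r : R ⟶ B} {s : R ⟶ A'} {q : B ⟶ A} {p : A' ⟶ A}
    (h : IsSq r.hom s.hom q.hom p.hom) (η : K ⟶ K') (κ : K ⟶ R)
    {lR : K' ⟶ R₁} {uR : R ⟶ R₁} (hR : IsPushout η κ lR uR)
    {lB : K' ⟶ B₁} {uB : B ⟶ B₁} (hB : IsPushout η (κ ≫ r) lB uB)
    {lA' : K' ⟶ A₁'} {uA' : A' ⟶ A₁'} (hA' : IsPushout η (κ ≫ s) lA' uA')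
    {lA : K' ⟶ A₁} {uA : A ⟶ A₁} (hA : IsPushout η (κ ≫ r ≫ q) lA uA)
    {r₁ : R₁ ⟶ B₁} {s₁ : R₁ ⟶ A₁'} {q₁ : B₁ ⟶ A₁} {p₁ : A₁' ⟶ A₁}
    (er : uR ≫ r₁ = r ≫ uB) (er' : lR ≫ r₁ = lB)
    (es : uR ≫ s₁ = s ≫ uA') (es' : lR ≫ s₁ = lA')
    (eq : uB ≫ q₁ = q ≫ uA) (eq' : lB ≫ q₁ = lA)
    (ep : uA' ≫ p₁ = p ≫ uA) (ep' : lA' ≫ p₁ = lA)
    (hfl : η.hom.Flat ∨ (κ ≫ r ≫ q).hom.Flat) :
    IsSq r₁.hom s₁.hom q₁.hom p₁.hom := by
  letI := η.hom.toAlgebra
  letI := κ.hom.toAlgebra
  letI := (κ ≫ r).hom.toAlgebra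
  letI := (κ ≫ s).hom.toAlgebra
  letI := (κ ≫ r ≫ q).hom.toAlgebra
  let rr : R →ₐ[K] B := ⟨r.hom, fun _ => rfl⟩
  let ss : R →ₐ[K] A' := ⟨s.hom, fun _ => rfl⟩
  let qq : B →ₐ[K] A := ⟨q.hom, fun _ => rfl⟩
  let pp : A' →ₐ[K] A := ⟨p.hom, fun k => (h.comm _).symm⟩
  obtain ⟨eR, heR⟩ := exists_equiv hR
  obtain ⟨eB, heB⟩ := exists_equiv hB
  obtain ⟨eA', heA'⟩ := exists_equiv hA'
  obtain ⟨eA, heA⟩ := exists_equiv hA
  refine (IsSq.tensor (r := rr) (s := ss) (q := qq) (p := pp) h K' hfl).congr_iso eR eB eA' eA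
    _ _ _ _ ?_ ?_ ?_ ?_
  all_goals
    intro t
    induction t using TensorProduct.induction_on with
    | zero => simp
    | tmul k x => ?_
    | add a b ha hb => simp only [map_add, ha, hb]
  · refine (congrArg r₁.hom (heR k x)).trans ?_
    refine Eq.trans ?_ ((congrArg eB (Algebra.TensorProduct.map_tmul _ _ k x)).trans (heB _ _)).symm
    rw [map_mul]
    exact congr($(congr($er' k)) * $(congr($er x)))
  · refine (congrArg s₁.hom (heR k x)).trans ?_
    refine Eq.trans ?_ ((congrArg eA' (Algebra.TensorProduct.map_tmul _ _ k x)).trans (heA' _ _)).symm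
    rw [map_mul]
    exact congr($(congr($es' k)) * $(congr($es x)))
  · refine (congrArg q₁.hom (heB k x)).trans ?_
    refine Eq.trans ?_ ((congrArg eA (Algebra.TensorProduct.map_tmul _ _ k x)).trans (heA _ _)).symm
    rw [map_mul]
    exact congr($(congr($eq' k)) * $(congr($eq x)))
  · refine (congrArg p₁.hom (heA' k x)).trans ?_
    refine Eq.trans ?_ ((congrArg eA (Algebra.TensorProduct.map_tmul _ _ k x)).trans (heA _ _)).symm
    rw [map_mul]
    exact congr($(congr($ep' k)) * $(congr($ep x)))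

end Groth.Agent.Lib.Ferrand
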