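import Groth.Agent.Lib.Ferrand.BaseChange

/-!
# Arbitrary base change of Ferrand squares with universally injective left edge
-/

universe u

open CategoryTheory Limits AlgebraicGeometry TopologicalSpace TensorProduct

namespace Groth.Agent.Lib.Ferrand

/-- `q : B → A` is injective with cokernel a flat `K`-module. -/
def CokFlat {K B A : Type u} [CommRing K] [CommRing B] [CommRing A] (κ : K →+* B) (q : B →+* A) :
    Prop :=
  Function.Injective q ∧ ∃ (C : Type u) (_ : AddCommGroup C) (_ : Module K C) (π : A →+ C),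
    Module.Flat K C ∧ Function.Surjective π ∧ (∀ k a, π (q (κ k) * a) = k • π a) ∧
      ∀ a, π a = 0 ↔ ∃ b, q b = a

theorem CokFlat.comp_ringEquiv {K K' B B' A A' : Type u} [CommRing K] [CommRing K'] [CommRing B]
    [CommRing B'] [CommRing A] [CommRing A'] {κ : K →+* B} {q : B →+* A} (h : CokFlat κ q)
    (eK : K' ≃+* K) (eB : B ≃+* B') (eA : A ≃+* A') (κ' : K' →+* B') (q' : B' →+* A')
    (hκ : ∀ k, κ' k = eB (κ (eK k))) (hq : ∀ b, q' (eB b) = eA (q b)) : CokFlat κ' q' := by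
  obtain ⟨hinj, C, hC, hM, π, hfl, hsurj, hlin, hker⟩ := h
  letI := eK.toRingHom.toAlgebra
  letI : Module K' C := Module.compHom C eK.toRingHom
  have : IsScalarTower K' K C := IsScalarTower.of_algebraMap_smul fun k c => rfl
  have : Module.Flat K' K := Module.Flat.of_linearEquiv
    ({ eK.symm with
       map_smul' := fun k x => by
        show eK.symm (eK k * x) = k * eK.symm x
        rw [map_mul, RingEquiv.symm_apply_apply] } : K ≃ₗ[K'] K')
  refine ⟨?_, C, hC, inferInstance, π.comp eA.symm.toAddMonoidHom, Module.Flat.trans K' K C,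
    hsurj.comp eA.symm.surjective, fun k a => ?_, fun a => ?_⟩
  · intro x y hxy
    obtain ⟨x, rfl⟩ := eB.surjective x
    obtain ⟨y, rfl⟩ := eB.surjective y
    rw [hq, hq] at hxy
    rw [hinj (eA.injective hxy)]
  · show π (eA.symm (q' (κ' k) * a)) = eK k • π (eA.symm a)
    rw [hκ, hq, map_mul, RingEquiv.symm_apply_apply, hlin]
  · show π (eA.symm a) = 0 ↔ _
    rw [hker]
    constructor
    · rintro ⟨b, hb⟩
      exact ⟨eB b, by rw [hq, hb, RingEquiv.apply_symm_apply]⟩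
    · rintro ⟨b, rfl⟩
      obtain ⟨b, rfl⟩ := eB.surjective b
      exact ⟨b, by rw [hq, RingEquiv.symm_apply_apply]⟩

variable {K R B A' A : Type u} [CommRing K] [CommRing R] [CommRing B] [CommRing A'] [CommRing A]
  [Algebra K R] [Algebra K B] [Algebra K A'] [Algebra K A]

theorem CokFlat.lTensor_injective {r : R →ₐ[K] B} {s : R →ₐ[K] A'} {q : B →ₐ[K] A}
    {p : A' →ₐ[K] A} (hq : CokFlat (algebraMap K B) q.toRingHom)
    (h : IsSq r.toRingHom s.toRingHom q.toRingHom p.toRingHom) (K' : Type u) [CommRing K']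
    [Algebra K K'] : Function.Injective (s.toLinearMap.lTensor K') := by
  obtain ⟨hinj, C, _, _, π, _, hsurj, hlin, hker⟩ := hq
  let ψ : A' →ₗ[K] C :=
    { toFun := fun x => π (p x)
      map_add' := fun x y => by simp
      map_smul' := fun k x => by
        show π (p (k • x)) = k • π (p x)
        rw [map_smul, ← hlin, Algebra.smul_def, ← q.commutes]
        rfl }
  refine LinearMap.lTensor_injective_of_exact_of_flat ψ (hsurj.comp h.surj) s.toLinearMap ?_ ?_ K'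
  · intro x y hxy
    refine h.ext x y (hinj ?_) hxy
    rw [h.comm, h.comm]
    exact congrArg p hxy
  · intro a
    constructor
    · intro ha
      obtain ⟨b, hb⟩ := (hker _).mp ha
      obtain ⟨x, -, hx⟩ := h.lift b a hb
      exact ⟨x, hx⟩
    · rintro ⟨x, rfl⟩
      exact (hker _).mpr ⟨r x, h.comm x⟩

/-- A Ferrand square stays one after a flat base change, or if the corner is flat over the base. -/
theorem IsSq.tensorOfCok {r : R →ₐ[K] B} {s : R →ₐ[K] A'} {q : B →ₐ[K] A} {p : A' →ₐ[K] A}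
    (h : IsSq r.toRingHom s.toRingHom q.toRingHom p.toRingHom) (K' : Type u) [CommRing K']
    [Algebra K K'] (hfl : CokFlat (algebraMap K B) q.toRingHom) :
    IsSq (Algebra.TensorProduct.map (AlgHom.id K K') r).toRingHom
      (Algebra.TensorProduct.map (AlgHom.id K K') s).toRingHom
      (Algebra.TensorProduct.map (AlgHom.id K K') q).toRingHom
      (Algebra.TensorProduct.map (AlgHom.id K K') p).toRingHom := by
  let φ : R →ₗ[K] B × A' := r.toLinearMap.prod s.toLinearMap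
  let ψ : B × A' →ₗ[K] A :=
    q.toLinearMap ∘ₗ LinearMap.fst K B A' - p.toLinearMap ∘ₗ LinearMap.snd K B A'
  have hφ : Function.Injective φ := fun x y hxy => h.ext x y congr($hxy.1) congr($hxy.2)
  have hψ : Function.Surjective ψ := fun a => by
    obtain ⟨a', rfl⟩ := h.surj a
    exact ⟨(0, -a'), by simp [ψ]⟩
  have hex : Function.Exact φ ψ := by
    rintro ⟨b, a⟩
    constructor
    · intro hba
      obtain ⟨x, hx₁, hx₂⟩ := h.lift b a (sub_eq_zero.mp hba)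
      exact ⟨x, Prod.ext hx₁ hx₂⟩
    · rintro ⟨x, hx⟩
      rw [← hx]
      exact sub_eq_zero.mpr (h.comm x)
  have hinj : Function.Injective (φ.lTensor K') := by
    intro x y hxy
    refine hfl.lTensor_injective h K' ?_
    rw [show s.toLinearMap = LinearMap.snd K B A' ∘ₗ φ from rfl, LinearMap.lTensor_comp,
      LinearMap.comp_apply, LinearMap.comp_apply, hxy]
  have hex' := lTensor_exact K' hex hψ
  have hfst : ∀ t, Algebra.TensorProduct.map (AlgHom.id K K') r t =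
      (TensorProduct.prodRight K K K' B A' (φ.lTensor K' t)).1 := by
    intro t
    induction t using TensorProduct.induction_on with
    | zero => simp
    | tmul k x => simp [φ]
    | add a b ha hb => simp only [map_add, ha, hb, Prod.fst_add]
  have hsnd : ∀ t, Algebra.TensorProduct.map (AlgHom.id K K') s t =
      (TensorProduct.prodRight K K K' B A' (φ.lTensor K' t)).2 := by
    intro t
    induction t using TensorProduct.induction_on with
    | zero => simp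
    | tmul k x => simp [φ]
    | add a b ha hb => simp only [map_add, ha, hb, Prod.snd_add]
  have hpsi : ∀ u, ψ.lTensor K' u =
      Algebra.TensorProduct.map (AlgHom.id K K') q (TensorProduct.prodRight K K K' B A' u).1 -
        Algebra.TensorProduct.map (AlgHom.id K K') p (TensorProduct.prodRight K K K' B A' u).2 := by
    intro u
    induction u using TensorProduct.induction_on with
    | zero => simp
    | tmul k x => simp [ψ, TensorProduct.tmul_sub]
    | add a b ha hb => simp only [map_add, ha, hb, Prod.fst_add, Prod.snd_add]; abel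
  refine ⟨fun x => ?_, fun z => ?_, fun x y hx hy => ?_, fun b a hba => ?_⟩
  · have := hex'.apply_apply_eq_zero x
    rw [hpsi, ← hfst, ← hsnd, sub_eq_zero] at this
    exact this
  · induction z using TensorProduct.induction_on with
    | zero => exact ⟨0, map_zero _⟩
    | tmul k x =>
      obtain ⟨x', rfl⟩ := h.surj x
      exact ⟨k ⊗ₜ x', by simp⟩
    | add a b ha hb =>
      obtain ⟨a', rfl⟩ := ha
      obtain ⟨b', rfl⟩ := hb
      exact ⟨a' + b', map_add _ _ _⟩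
  · refine hinj ((TensorProduct.prodRight K K K' B A').injective (Prod.ext ?_ ?_))
    · rw [← hfst, ← hfst]; exact hx
    · rw [← hsnd, ← hsnd]; exact hy
  · obtain ⟨x, hx⟩ := (hex' ((TensorProduct.prodRight K K K' B A').symm (b, a))).mp (by
      rw [hpsi, LinearEquiv.apply_symm_apply, sub_eq_zero]
      exact hba)
    refine ⟨x, ?_, ?_⟩
    · show Algebra.TensorProduct.map (AlgHom.id K K') r x = b
      rw [hfst, hx, LinearEquiv.apply_symm_apply]
    · show Algebra.TensorProduct.map (AlgHom.id K K') s x = a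
      rw [hsnd, hx, LinearEquiv.apply_symm_apply]

/-- Ferrand squares are stable under suitable pushouts of rings. -/
theorem IsSq.baseChangeOfCok {K K' R B A' A R₁ B₁ A₁' A₁ : CommRingCat.{u}}
    {r : R ⟶ B} {s : R ⟶ A'} {q : B ⟶ A} {p : A' ⟶ A}
    (h : IsSq r.hom s.hom q.hom p.hom) (η : K ⟶ K') (κ : K ⟶ R)
    {lR : K' ⟶ R₁} {uR : R ⟶ R₁} (hR : IsPushout η κ lR uR)
    {lB : K' ⟶ B₁} {uB : B ⟶ B₁} (hB : IsPushout η (κ ≫ r) lB uB)
    {lA' : K' ⟶ A₁'} {uA' : A' ⟶ A₁'} (hA' : IsPushout η (κ ≫ s) lA' uA')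
    {lA : K' ⟶ A₁} {uA : A ⟶ A₁} (hA : IsPushout η (κ ≫ r ≫ q) lA uA)
    {r₁ : R₁ ⟶ B₁} {s₁ : R₁ ⟶ A₁'} {q₁ : B₁ ⟶ A₁} {p₁ : A₁' ⟶ A₁}
    (er : uR ≫ r₁ = r ≫ uB) (er' : lR ≫ r₁ = lB)
    (es : uR ≫ s₁ = s ≫ uA') (es' : lR ≫ s₁ = lA')
    (eq : uB ≫ q₁ = q ≫ uA) (eq' : lB ≫ q₁ = lA)
    (ep : uA' ≫ p₁ = p ≫ uA) (ep' : lA' ≫ p₁ = lA)
    (hfl : CokFlat (κ ≫ r).hom q.hom) :
    IsSq r₁.hom s₁.hom q₁.hom p₁.hom := by
  letI := η.hom.toAlgebra
  letI := κ.hom.toAlgebra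
  letI := (κ ≫ r).hom.toAlgebra
  letI := (κ ≫ s).hom.toAlgebra
  letI := (κ ≫ r ≫ q).hom.toAlgebra
  let rr : R →ₐ[K] B := ⟨r.hom, fun _ => rfl⟩
  let ss : R →ₐ[K] A' := ⟨s.hom, fun _ => rfl⟩
  let qq : B →ₐ[K] A := ⟨q.hom, fun _ => rfl⟩
  let pp : A' →ₐ[K] A := ⟨p.hom, fun k => (h.comm _).symm⟩
  obtain ⟨eR, heR⟩ := exists_equiv hR
  obtain ⟨eB, heB⟩ := exists_equiv hB
  obtain ⟨eA', heA'⟩ := exists_equiv hA'
  obtain ⟨eA, heA⟩ := exists_equiv hA
  refine (IsSq.tensorOfCok (r := rr) (s := ss) (q := qq) (p := pp) h K' hfl).congr_iso eR eB eA' eA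
    _ _ _ _ ?_ ?_ ?_ ?_
  all_goals
    intro t
    induction t using TensorProduct.induction_on with
    | zero => simp
    | tmul k x => ?_
    | add a b ha hb => simp only [map_add, ha, hb]
  · refine (congrArg r₁.hom (heR k x)).trans ?_
    refine Eq.trans ?_ ((congrArg eB (Algebra.TensorProduct.map_tmul _ _ k x)).trans (heB _ _)).symm
    rw [map_mul]
    exact congr($(congr($er' k)) * $(congr($er x)))
  · refine (congrArg s₁.hom (heR k x)).trans ?_
    refine Eq.trans ?_ ((congrArg eA' (Algebra.TensorProduct.map_tmul _ _ k x)).trans (heA' _ _)).symm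
    rw [map_mul]
    exact congr($(congr($es' k)) * $(congr($es x)))
  · refine (congrArg q₁.hom (heB k x)).trans ?_
    refine Eq.trans ?_ ((congrArg eA (Algebra.TensorProduct.map_tmul _ _ k x)).trans (heA _ _)).symm
    rw [map_mul]
    exact congr($(congr($eq' k)) * $(congr($eq x)))
  · refine (congrArg p₁.hom (heA' k x)).trans ?_
    refine Eq.trans ?_ ((congrArg eA (Algebra.TensorProduct.map_tmul _ _ k x)).trans (heA _ _)).symm
    rw [map_mul]
    exact congr($(congr($ep' k)) * $(congr($ep x)))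

variable {X Y Z P S S' X' Y' Z' P' : Scheme.{u}} {i : Z ⟶ X} {j : Z ⟶ Y} {a : X ⟶ P} {b : Y ⟶ P}

/-- Ferrand squares of affine schemes are stable under flat base change, and under any base change
if the corner is flat. -/
theorem AffSq.baseChangeOfCok [IsAffine S] [IsAffine S'] (h : AffSq i j a b) (g : P ⟶ S) (t : S' ⟶ S)
    {pP : P' ⟶ P} {gP : P' ⟶ S'} (hP : IsPullback pP gP g t)
    {pX : X' ⟶ X} {a' : X' ⟶ P'} (hX : IsPullback pX a' a pP)
    {pY : Y' ⟶ Y} {b' : Y' ⟶ P'} (hY : IsPullback pY b' b pP)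
    {pZ : Z' ⟶ Z} {i' : Z' ⟶ X'} (hZ : IsPullback pZ i' i pX)
    {j' : Z' ⟶ Y'} (hj : j' ≫ pY = pZ ≫ j) (hw : i' ≫ a' = j' ≫ b')
    (hfl : CokFlat (g.appTop ≫ b.appTop).hom j.appTop.hom) : AffSq i' j' a' b' := by
  have := h.affX; have := h.affY; have := h.affZ; have := h.affP
  have hX' := hX.paste_vert hP
  have hY' := hY.paste_vert hP
  have hZ' : IsPullback pZ (i' ≫ a' ≫ gP) (i ≫ a ≫ g) t := hZ.paste_vert hX'
  have : IsAffine P' := .of_isPullback hP
  have : IsAffine X' := .of_isPullback hX'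
  have : IsAffine Y' := .of_isPullback hY'
  have : IsAffine Z' := .of_isPullback hZ'
  refine ⟨‹_›, ‹_›, ‹_›, ‹_›, hw, ?_⟩
  have kR := (isPushout_appTop_of_isPullback hP).flip
  have kB : IsPushout t.appTop (g.appTop ≫ b.appTop) (b' ≫ gP).appTop pY.appTop := by
    rw [← Scheme.Hom.comp_appTop]; exact (isPushout_appTop_of_isPullback hY').flip
  have kA' : IsPushout t.appTop (g.appTop ≫ a.appTop) (a' ≫ gP).appTop pX.appTop := by
    rw [← Scheme.Hom.comp_appTop]; exact (isPushout_appTop_of_isPullback hX').flip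
  have hq : g.appTop ≫ b.appTop ≫ j.appTop = (i ≫ a ≫ g).appTop := by
    rw [← Scheme.Hom.comp_appTop, ← Scheme.Hom.comp_appTop, Category.assoc, reassoc_of% h.w]
  have kA : IsPushout t.appTop (g.appTop ≫ b.appTop ≫ j.appTop) (i' ≫ a' ≫ gP).appTop pZ.appTop := by
    rw [hq]; exact (isPushout_appTop_of_isPullback hZ').flip
  refine h.sq.baseChangeOfCok t.appTop g.appTop kR kB kA' kA ?_ ?_ ?_ ?_ ?_ ?_ ?_ ?_ ?_
  · rw [← Scheme.Hom.comp_appTop, ← Scheme.Hom.comp_appTop, hY.w]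
  · rw [← Scheme.Hom.comp_appTop]
  · rw [← Scheme.Hom.comp_appTop, ← Scheme.Hom.comp_appTop, hX.w]
  · rw [← Scheme.Hom.comp_appTop]
  · rw [← Scheme.Hom.comp_appTop, ← Scheme.Hom.comp_appTop, hj]
  · rw [← Scheme.Hom.comp_appTop, reassoc_of% hw]
  · rw [← Scheme.Hom.comp_appTop, ← Scheme.Hom.comp_appTop, hZ.w]
  · rw [← Scheme.Hom.comp_appTop]
  · exact hfl

/-- Pushouts along closed immersions commute with flat base change, and with any base change if
the glued subscheme is flat over the base. -/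
theorem GluedBy.baseChangeOfCok [IsClosedImmersion i] (h : GluedBy i j a b) (g : P ⟶ S) (t : S' ⟶ S)
    {pP : P' ⟶ P} {gP : P' ⟶ S'} (hP : IsPullback pP gP g t)
    {pX : X' ⟶ X} {a' : X' ⟶ P'} (hX : IsPullback pX a' a pP)
    {pY : Y' ⟶ Y} {b' : Y' ⟶ P'} (hY : IsPullback pY b' b pP)
    {pZ : Z' ⟶ Z} {i' : Z' ⟶ X'} (hZ : IsPullback pZ i' i pX)
    {j' : Z' ⟶ Y'} (hj : j' ≫ pY = pZ ≫ j) (hw : i' ≫ a' = j' ≫ b')
    (hfl : ∀ p : P, ∃ (U : S.Opens) (O : P.Opens) (hOle : O ≤ g ⁻¹ᵁ U)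
      (e : i ⁻¹ᵁ (a ⁻¹ᵁ O) ≤ j ⁻¹ᵁ (b ⁻¹ᵁ O)),
      IsAffineOpen U ∧ IsAffineOpen O ∧ p ∈ O ∧ (Flat (i.resLE (a ⁻¹ᵁ O) (i ⁻¹ᵁ (a ⁻¹ᵁ O)) le_rfl ≫
          a.resLE O (a ⁻¹ᵁ O) le_rfl ≫ g.resLE U O hOle) ∨
        CokFlat ((g.resLE U O hOle).appTop ≫ (b.resLE O (b ⁻¹ᵁ O) le_rfl).appTop).hom
          (j.resLE (b ⁻¹ᵁ O) (i ⁻¹ᵁ (a ⁻¹ᵁ O)) e).appTop.hom)) : IsPushout i' j' a' b' := by
  have := h.isAffineHom_left
  have := h.isClosedImmersion_right
  have : IsClosedImmersion i' := MorphismProperty.of_isPullback hZ inferInstance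
  have : IsClosedImmersion b' := MorphismProperty.of_isPullback hY inferInstance
  have : IsAffineHom a' := MorphismProperty.of_isPullback hX inferInstance
  have local' : ∀ p : P', ∃ (O : P'.Opens) (k : AffPair i' j') (a₀ : k.U.toScheme ⟶ O.toScheme)
      (b₀ : k.V.toScheme ⟶ O.toScheme), p ∈ O ∧ a' ⁻¹ᵁ O = k.U ∧ b' ⁻¹ᵁ O = k.V ∧
        a₀ ≫ O.ι = k.U.ι ≫ a' ∧ b₀ ≫ O.ι = k.V.ι ≫ b' ∧
        AffSq (i'.resLE k.U (i' ⁻¹ᵁ k.U) le_rfl) (j'.resLE k.V (i' ⁻¹ᵁ k.U) k.eq.le) a₀ b₀ := by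
    intro p
    obtain ⟨U, O, hOle, e₁', hU, hO, hpO, hcond⟩ := hfl (pP p)
    have hpU : g (pP p) ∈ U := hOle hpO
    obtain ⟨U', hU', hpU', hU'le⟩ := exists_isAffineOpen_mem_and_subset
      (x := gP p) (U := t ⁻¹ᵁ U) (show t (gP p) ∈ U by
        rw [← Scheme.Hom.comp_apply, ← hP.w, Scheme.Hom.comp_apply]; exact hpU)
    obtain ⟨O', hO'⟩ : ∃ O' : P'.Opens, O' = pP ⁻¹ᵁ O ⊓ gP ⁻¹ᵁ U' := ⟨_, rfl⟩
    have : IsAffine U.toScheme := hU
    have : IsAffine U'.toScheme := hU'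
    have : IsAffine O.toScheme := hO
    have rP := Scheme.Hom.isPullback_resLE hP (US := U) (UT := U') (UX := O) hU'le hOle hO'
    have hO'aff : IsAffineOpen O' := IsAffine.of_isPullback rP
    have hO'le : O' ≤ pP ⁻¹ᵁ O := hO'.le.trans inf_le_left
    have eX : a' ⁻¹ᵁ O' = pX ⁻¹ᵁ (a ⁻¹ᵁ O) ⊓ a' ⁻¹ᵁ O' := by
      refine (inf_eq_right.mpr fun x hx => ?_).symm
      show a (pX x) ∈ O
      rw [← Scheme.Hom.comp_apply, hX.w, Scheme.Hom.comp_apply]
      exact hO'le hx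
    have eY : b' ⁻¹ᵁ O' = pY ⁻¹ᵁ (b ⁻¹ᵁ O) ⊓ b' ⁻¹ᵁ O' := by
      refine (inf_eq_right.mpr fun x hx => ?_).symm
      show b (pY x) ∈ O
      rw [← Scheme.Hom.comp_apply, hY.w, Scheme.Hom.comp_apply]
      exact hO'le hx
    have eZ : i' ⁻¹ᵁ (a' ⁻¹ᵁ O') =
        pZ ⁻¹ᵁ (i ⁻¹ᵁ (a ⁻¹ᵁ O)) ⊓ i' ⁻¹ᵁ (a' ⁻¹ᵁ O') := by
      refine (inf_eq_right.mpr fun x hx => ?_).symm
      show i (pZ x) ∈ a ⁻¹ᵁ O
      rw [← Scheme.Hom.comp_apply, hZ.w, Scheme.Hom.comp_apply]
      exact (eX.le hx).1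
    have rX := Scheme.Hom.isPullback_resLE hX (US := O) (UT := O') (UX := a ⁻¹ᵁ O) hO'le le_rfl eX
    have rY := Scheme.Hom.isPullback_resLE hY (US := O) (UT := O') (UX := b ⁻¹ᵁ O) hO'le le_rfl eY
    have rZ := Scheme.Hom.isPullback_resLE hZ (US := a ⁻¹ᵁ O) (UT := a' ⁻¹ᵁ O')
      (UX := i ⁻¹ᵁ (a ⁻¹ᵁ O)) (fun x hx => (eX.le hx).1) le_rfl eZ
    have e₁ : i ⁻¹ᵁ (a ⁻¹ᵁ O) = j ⁻¹ᵁ (b ⁻¹ᵁ O) := by
      rw [← Scheme.Hom.comp_preimage, ← Scheme.Hom.comp_preimage, h.isPushout.w]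
    have e₂ : i' ⁻¹ᵁ (a' ⁻¹ᵁ O') = j' ⁻¹ᵁ (b' ⁻¹ᵁ O') := by
      rw [← Scheme.Hom.comp_preimage, ← Scheme.Hom.comp_preimage, hw]
    refine ⟨O', ⟨_, _, hO'aff.preimage a', hO'aff.preimage b', e₂⟩, a'.resLE O' _ le_rfl,
      b'.resLE O' _ le_rfl, hO'.ge ⟨hpO, hpU'⟩, rfl, rfl, Scheme.Hom.resLE_comp_ι _ _,
      Scheme.Hom.resLE_comp_ι _ _, ?_⟩
    rcases hcond with hc | hc
    · refine (h.affSq_restrict O hO e₁.le).baseChange _ _ rP rX rY rZ ?_ ?_ (Or.inr hc)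
      · rw [← cancel_mono (b ⁻¹ᵁ O).ι]
        simp [hj]
      · rw [← cancel_mono O'.ι]
        simp [hw]
    · refine (h.affSq_restrict O hO e₁.le).baseChangeOfCok _ _ rP rX rY rZ ?_ ?_ hc
      · rw [← cancel_mono (b ⁻¹ᵁ O).ι]
        simp [hj]
      · rw [← cancel_mono O'.ι]
        simp [hw]
  refine isPushout_of_affine_cover (fun y => ?_) hw local'
  obtain ⟨O, k, -, -, hy, -, hk, -⟩ := local' (b' y)
  exact ⟨k, hk.le hy⟩

end Groth.Agent.Lib.Ferrand
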