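import Groth.Agent.Lib.Ferrand.BaseChangeRing
import Mathlib.RingTheory.FiniteType
import Mathlib.LinearAlgebra.TensorProduct.RightExactness

/-!
# Cartesian maps of Ferrand squares of rings
-/

universe u

open CategoryTheory Limits TensorProduct

namespace Groth.Agent.Lib.Ferrand

variable {R B A' A R₁ B₁ A₁' A₁ : CommRingCat.{u}}
  {r : R ⟶ B} {s : R ⟶ A'} {q : B ⟶ A} {p : A' ⟶ A}
  {r₁ : R₁ ⟶ B₁} {s₁ : R₁ ⟶ A₁'} {q₁ : B₁ ⟶ A₁} {p₁ : A₁' ⟶ A₁}
  {κ : R ⟶ R₁} {δ : B ⟶ B₁} {γ : A' ⟶ A₁'} {ε : A ⟶ A₁}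

/-- A morphism of Ferrand squares with cartesian right and bottom faces. -/
structure IsCartMap (r : R ⟶ B) (s : R ⟶ A') (q : B ⟶ A) (p : A' ⟶ A) (r₁ : R₁ ⟶ B₁)
    (s₁ : R₁ ⟶ A₁') (q₁ : B₁ ⟶ A₁) (p₁ : A₁' ⟶ A₁) (κ : R ⟶ R₁) (δ : B ⟶ B₁) (γ : A' ⟶ A₁')
    (ε : A ⟶ A₁) : Prop where
  sq : IsSq r.hom s.hom q.hom p.hom
  sq₁ : IsSq r₁.hom s₁.hom q₁.hom p₁.hom
  wr : κ ≫ r₁ = r ≫ δ
  ws : κ ≫ s₁ = s ≫ γ
  right : IsPushout q δ ε q₁
  bot : IsPushout p γ ε p₁

namespace IsCartMap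

variable (h : IsCartMap r s q p r₁ s₁ q₁ p₁ κ δ γ ε)
include h

theorem mem_span (c : A₁') :
    letI := γ.hom.toAlgebra
    c ∈ Submodule.span A' (Set.range s₁.hom) := by
  letI := γ.hom.toAlgebra
  obtain ⟨e, he⟩ := exists_equiv h.right
  have key : ∀ t, ∃ c' ∈ Submodule.span A' (Set.range s₁.hom), p₁.hom c' = e t := by
    intro t
    induction t using TensorProduct.induction_on with
    | zero => exact ⟨0, Submodule.zero_mem _, by simp⟩
    | tmul a d =>
      obtain ⟨a', rfl⟩ := h.sq.surj a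
      obtain ⟨d', rfl⟩ := h.sq₁.surjective_left d
      refine ⟨a' • s₁.hom d', Submodule.smul_mem _ _ (Submodule.subset_span ⟨d', rfl⟩), ?_⟩
      rw [he, Algebra.smul_def, map_mul]
      exact congr($(congr($(h.bot.w) a').symm) * $((h.sq₁.comm d').symm))
    | add a b ha hb =>
      obtain ⟨x, hx, hx'⟩ := ha
      obtain ⟨y, hy, hy'⟩ := hb
      exact ⟨x + y, Submodule.add_mem _ hx hy, by rw [map_add, map_add, hx', hy']⟩
  obtain ⟨c', hc', hpc'⟩ := key (e.symm (p₁.hom c))
  rw [RingEquiv.apply_symm_apply] at hpc'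
  obtain ⟨x, -, hx⟩ := h.sq₁.exists_of_mem_ker (a := c - c') (by rw [map_sub, hpc', sub_self])
  rw [show c = c' + s₁.hom x by rw [hx]; ring]
  exact Submodule.add_mem _ hc' (Submodule.subset_span ⟨x, rfl⟩)

theorem ker_bot : RingHom.ker p₁.hom ≤ (RingHom.ker p.hom).map γ.hom := by
  let J := (RingHom.ker p.hom).map γ.hom
  let π : A₁' ⟶ CommRingCat.of (A₁' ⧸ J) := CommRingCat.ofHom (Ideal.Quotient.mk J)
  have hk : RingHom.ker p.hom ≤ RingHom.ker ((γ ≫ π).hom) := fun i hi =>
    Ideal.Quotient.eq_zero_iff_mem.mpr (Ideal.mem_map_of_mem _ hi)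
  let u : A ⟶ CommRingCat.of (A₁' ⧸ J) := CommRingCat.ofHom
    (RingHom.liftOfRightInverse p.hom _ (Function.rightInverse_surjInv h.sq.surj)
      ⟨(γ ≫ π).hom, hk⟩)
  have hu : p ≫ u = γ ≫ π := by
    ext i
    exact RingHom.liftOfRightInverse_comp_apply p.hom _
      (Function.rightInverse_surjInv h.sq.surj) ⟨(γ ≫ π).hom, hk⟩ i
  intro c hc
  have := congr($(h.bot.inr_desc u π hu) c)
  refine Ideal.Quotient.eq_zero_iff_mem.mp (this.symm.trans ?_)
  show (h.bot.desc u π hu).hom (p₁.hom c) = 0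
  rw [RingHom.mem_ker.mp hc, map_zero]

theorem ker_left_aux (T : Subring R₁) (hκ : ∀ x, κ.hom x ∈ T)
    (hT : letI := γ.hom.toAlgebra
      ∀ c, c ∈ Submodule.span A' (s₁.hom '' (T : Set R₁)))
    (x : R₁) (hx : r₁.hom x = 0) : x ∈ T ∧ x ∈ (RingHom.ker r.hom).map κ.hom := by
  letI := γ.hom.toAlgebra
  let M : Set A₁' :=
    {c | ∃ y ∈ T, y ∈ (RingHom.ker r.hom).map κ.hom ∧ s₁.hom y = c}
  have hM0 : (0 : A₁') ∈ M := ⟨0, T.zero_mem, Ideal.zero_mem _, map_zero _⟩
  have hMadd : ∀ {a b}, a ∈ M → b ∈ M → a + b ∈ M := by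
    rintro _ _ ⟨y, hy, hy', rfl⟩ ⟨z, hz, hz', rfl⟩
    exact ⟨y + z, T.add_mem hy hz, Ideal.add_mem _ hy' hz', map_add _ _ _⟩
  have hgen : ∀ c, ∀ i ∈ RingHom.ker p.hom, γ.hom i * c ∈ M := by
    intro c
    induction hT c using Submodule.span_induction with
    | mem c hc =>
      obtain ⟨t, ht, rfl⟩ := hc
      intro i hi
      obtain ⟨z, hz, rfl⟩ := h.sq.exists_of_mem_ker hi
      refine ⟨κ.hom z * t, T.mul_mem (hκ z) ht,
        Ideal.mul_mem_right _ _ (Ideal.mem_map_of_mem _ hz), ?_⟩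
      rw [map_mul]
      exact congrArg (· * _) congr($(h.ws) z)
    | zero => intro i _; rw [mul_zero]; exact hM0
    | add a b _ _ ha hb => intro i hi; rw [mul_add]; exact hMadd (ha i hi) (hb i hi)
    | smul a c _ hc =>
      intro i hi
      rw [Algebra.smul_def, ← mul_assoc]
      have := hc (i * a) (Ideal.mul_mem_right _ _ hi)
      rw [map_mul] at this
      exact this
  have hall : ∀ c ∈ (RingHom.ker p.hom).map γ.hom, ∀ a, a * c ∈ M := by
    intro c hc
    rw [Ideal.map, Ideal.span] at hc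
    induction hc using Submodule.span_induction with
    | mem c hc =>
      obtain ⟨i, hi, rfl⟩ := hc
      intro a
      rw [mul_comm]
      exact hgen a i hi
    | zero => intro a; rw [mul_zero]; exact hM0
    | add c d _ _ hc hd => intro a; rw [mul_add]; exact hMadd (hc a) (hd a)
    | smul b c _ hc => intro a; rw [smul_eq_mul, ← mul_assoc]; exact hc (a * b)
  obtain ⟨y, hy, hy', hys⟩ := hall (s₁.hom x) (h.ker_bot (RingHom.mem_ker.mpr (by
    rw [← h.sq₁.comm, hx, map_zero]))) 1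
  have hry : r₁.hom y = 0 := by
    have : (RingHom.ker r.hom).map κ.hom ≤ RingHom.ker r₁.hom := Ideal.map_le_iff_le_comap.mpr
      fun z hz => by
        show r₁.hom (κ.hom z) = 0
        exact (congr($(h.wr) z)).trans ((congrArg δ.hom hz).trans (map_zero _))
    exact this hy'
  rw [one_mul] at hys
  rw [show x = y from h.sq₁.ext x y (by rw [hx, hry]) hys.symm]
  exact ⟨hy, hy'⟩

theorem ker_left {x : R₁} (hx : r₁.hom x = 0) : x ∈ (RingHom.ker r.hom).map κ.hom := by
  refine (h.ker_left_aux ⊤ (fun _ => trivial) (fun c => ?_) x hx).2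
  letI := γ.hom.toAlgebra
  rw [Subring.coe_top, Set.image_univ]
  exact h.mem_span c

theorem isPushout_left : IsPushout r κ δ r₁ := by
  have key : ∀ (T : CommRingCat.{u}) (u : B ⟶ T) (v : R₁ ⟶ T), r ≫ u = κ ≫ v →
      ∃ w : B₁ ⟶ T, δ ≫ w = u ∧ r₁ ≫ w = v := by
    intro T u v huv
    have hk : RingHom.ker r₁.hom ≤ RingHom.ker v.hom := fun x hx => by
      refine (Ideal.map_le_iff_le_comap.mpr fun z hz => ?_) (h.ker_left hx)
      show v.hom (κ.hom z) = 0
      exact (congr($huv z)).symm.trans ((congrArg u.hom hz).trans (map_zero _))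
    have hv := RingHom.liftOfRightInverse_comp_apply r₁.hom _
      (Function.rightInverse_surjInv h.sq₁.surjective_left) ⟨v.hom, hk⟩
    refine ⟨CommRingCat.ofHom (RingHom.liftOfRightInverse r₁.hom _
      (Function.rightInverse_surjInv h.sq₁.surjective_left) ⟨v.hom, hk⟩), ?_, ?_⟩
    · ext b
      obtain ⟨x, rfl⟩ := h.sq.surjective_left b
      have e : r₁.hom (κ.hom x) = δ.hom (r.hom x) := congr($(h.wr) x)
      show _ = u.hom (r.hom x)
      refine Eq.trans ?_ ((hv (κ.hom x)).trans congr($huv x).symm)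
      rw [e]
      rfl
    · ext x
      exact hv x
  refine ⟨⟨h.wr.symm⟩, ⟨PushoutCocone.IsColimit.mk _
    (fun c => (key c.pt c.inl c.inr c.condition).choose)
    (fun c => (key c.pt c.inl c.inr c.condition).choose_spec.1)
    (fun c => (key c.pt c.inl c.inr c.condition).choose_spec.2) fun c m _ hm₂ => ?_⟩⟩
  have : Epi r₁ := ConcreteCategory.epi_of_surjective _ h.sq₁.surjective_left
  exact (cancel_epi r₁).mp (hm₂.trans (key c.pt c.inl c.inr c.condition).choose_spec.2.symm)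

attribute [local instance] Algebra.TensorProduct.rightAlgebra in
theorem isPushout_top : IsPushout s κ γ s₁ := by
  have hcr : IsPushout (r ≫ q) κ ε (r₁ ≫ q₁) := h.isPushout_left.paste_horiz h.right
  letI := κ.hom.toAlgebra
  letI := s.hom.toAlgebra
  letI := (r ≫ q).hom.toAlgebra
  letI := γ.hom.toAlgebra
  letI := s₁.hom.toAlgebra
  letI := (s ≫ γ).hom.toAlgebra
  have : IsScalarTower R A' A₁' := .of_algebraMap_eq fun _ => rfl
  have : IsScalarTower R R₁ A₁' := .of_algebraMap_eq fun x => congr($(h.ws) x).symm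
  refine CommRingCat.isPushout_iff_isPushout.mpr ?_
  let θ : A' ⊗[R] R₁ →ₐ[A'] A₁' := Algebra.TensorProduct.lift (Algebra.ofId A' A₁')
    (IsScalarTower.toAlgHom R R₁ A₁') fun _ _ => Commute.all _ _
  have hθ : ∀ a d, θ (a ⊗ₜ d) = γ.hom a * s₁.hom d := fun a d =>
    Algebra.TensorProduct.lift_tmul _ _ _ a d
  suffices hbij : Function.Bijective θ from
    Algebra.IsPushout.of_equiv (AlgEquiv.ofBijective θ hbij) (RingHom.ext fun d => by
      show θ (1 ⊗ₜ d) = s₁.hom d
      rw [hθ, map_one, one_mul])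
  refine ⟨(injective_iff_map_eq_zero θ).mpr fun t ht => ?_, fun c => ?_⟩
  · obtain ⟨e, he⟩ := exists_equiv hcr
    let pl : A' →ₗ[R] A :=
      { toFun := p.hom
        map_add' := map_add _
        map_smul' := fun x a => by
          rw [Algebra.smul_def, Algebra.smul_def, map_mul]
          exact congrArg (· * _) (h.sq.comm x).symm }
    have hp' : ∀ t, e (pl.rTensor R₁ t) = p₁.hom (θ t) := by
      intro t
      induction t using TensorProduct.induction_on with
      | zero => simp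
      | tmul a d =>
        rw [LinearMap.rTensor_tmul, he, hθ, map_mul]
        exact congr($(congr($(h.bot.w) a)) * $(h.sq₁.comm d))
      | add a b ha hb => simp only [map_add, ha, hb]
    have h0 : pl.rTensor R₁ t = 0 := e.injective (by rw [hp', ht, map_zero, map_zero])
    obtain ⟨u, rfl⟩ := (rTensor_exact R₁ pl.exact_subtype_ker_map h.sq.surj t).mp h0
    have : ∃ m, r₁.hom m = 0 ∧
        (LinearMap.ker pl).subtype.rTensor R₁ u = (1 : A') ⊗ₜ m := by
      clear ht h0
      induction u using TensorProduct.induction_on with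
      | zero => exact ⟨0, map_zero _, by simp⟩
      | tmul i d =>
        obtain ⟨x, hx, hxi⟩ := h.sq.exists_of_mem_ker (show p.hom i.1 = 0 from i.2)
        refine ⟨x • d, ?_, ?_⟩
        · rw [Algebra.smul_def, map_mul]
          refine mul_eq_zero_of_left ((congr($(h.wr) x)).trans ?_) _
          exact (congrArg δ.hom hx).trans (map_zero _)
        · rw [LinearMap.rTensor_tmul, ← TensorProduct.smul_tmul, Algebra.smul_def, mul_one]
          exact congrArg (· ⊗ₜ d) hxi.symm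
      | add a b ha hb =>
        obtain ⟨m, hm, hm'⟩ := ha
        obtain ⟨n, hn, hn'⟩ := hb
        exact ⟨m + n, by rw [map_add, hm, hn, add_zero],
          by rw [map_add, hm', hn', TensorProduct.tmul_add]⟩
    obtain ⟨m, hm, hum⟩ := this
    rw [hum, hθ, map_one, one_mul] at ht
    rw [hum, show m = 0 from h.sq₁.ext m 0 (by rw [hm, map_zero]) (by rw [ht, map_zero]),
      TensorProduct.tmul_zero]
  · induction h.mem_span c using Submodule.span_induction with
    | mem c hc =>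
      obtain ⟨d, rfl⟩ := hc
      exact ⟨1 ⊗ₜ d, by rw [hθ, map_one, one_mul]⟩
    | zero => exact ⟨0, map_zero _⟩
    | add a b _ _ ha hb =>
      obtain ⟨x, rfl⟩ := ha
      obtain ⟨y, rfl⟩ := hb
      exact ⟨x + y, map_add _ _ _⟩
    | smul a c _ hc =>
      obtain ⟨x, rfl⟩ := hc
      exact ⟨a • x, map_smul _ _ _⟩

theorem finiteType (hδ : δ.hom.FiniteType) (hγ : γ.hom.FiniteType) : κ.hom.FiniteType := by
  classical
  letI := κ.hom.toAlgebra
  letI := δ.hom.toAlgebra
  letI := γ.hom.toAlgebra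
  obtain ⟨Sd, hSd⟩ := (hδ : Algebra.FiniteType B B₁).out
  obtain ⟨Sc, hSc⟩ := (hγ : Algebra.FiniteType A' A₁').out
  choose ld hld using h.sq₁.surjective_left
  have hsp : ∀ c : A₁', ∃ L : Finset R₁,
      c ∈ Submodule.span A' (s₁.hom '' (L : Set R₁)) := by
    intro c
    obtain ⟨L, hL, hcL⟩ := Submodule.mem_span_finite_of_mem_span (h.mem_span c)
    choose lc hlc using fun x : {x // x ∈ L} => hL x.2
    refine ⟨L.attach.image lc, Submodule.span_mono (fun x hx => ?_) hcL⟩
    exact ⟨lc ⟨x, hx⟩, Finset.mem_image_of_mem _ (Finset.mem_attach _ _), hlc _⟩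
  choose L hL using hsp
  let T : Finset R₁ := Sd.image ld ∪ Sc.biUnion L
  let R' : Subalgebra R R₁ := Algebra.adjoin R (T : Set R₁)
  have hκ : ∀ x, κ.hom x ∈ R'.toSubring := fun x => R'.algebraMap_mem x
  have hspan : ∀ c, c ∈ Submodule.span A' (s₁.hom '' (R'.toSubring : Set R₁)) := by
    let N : Submonoid A₁' := R'.toSubring.toSubmonoid.map s₁.hom
    have hle : Algebra.adjoin A' (Sc : Set A₁') ≤ Algebra.adjoin A' (N : Set A₁') := by
      refine Algebra.adjoin_le fun c hc => ?_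
      have := hL c
      refine Algebra.span_le_adjoin A' _ (Submodule.span_mono (Set.image_mono fun x hx => ?_) this)
      exact Algebra.subset_adjoin (Finset.mem_union_right _ (Finset.mem_biUnion.mpr ⟨c, hc, hx⟩))
    intro c
    have hc : c ∈ Subalgebra.toSubmodule (Algebra.adjoin A' (N : Set A₁')) := hle (hSc ▸ trivial)
    rw [Algebra.adjoin_eq_span, Submonoid.closure_eq] at hc
    exact hc
  refine ⟨⟨T, eq_top_iff.mpr fun x _ => ?_⟩⟩
  obtain ⟨y, hy, hxy⟩ : ∃ y ∈ R', r₁.hom y = r₁.hom x := by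
    have : r₁.hom x ∈ Algebra.adjoin B (Sd : Set B₁) := hSd ▸ trivial
    generalize r₁.hom x = w at this ⊢
    induction this using Algebra.adjoin_induction with
    | mem d hd =>
      exact ⟨ld d, Algebra.subset_adjoin (Finset.mem_union_left _ (Finset.mem_image_of_mem ld hd)),
        hld d⟩
    | algebraMap b =>
      obtain ⟨z, rfl⟩ := h.sq.surjective_left b
      exact ⟨κ.hom z, R'.algebraMap_mem z, congr($(h.wr) z)⟩
    | add a b _ _ ha hb =>
      obtain ⟨a', ha', rfl⟩ := ha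
      obtain ⟨b', hb', rfl⟩ := hb
      exact ⟨a' + b', R'.add_mem ha' hb', map_add _ _ _⟩
    | mul a b _ _ ha hb =>
      obtain ⟨a', ha', rfl⟩ := ha
      obtain ⟨b', hb', rfl⟩ := hb
      exact ⟨a' * b', R'.mul_mem ha' hb', map_mul _ _ _⟩
  have := (h.ker_left_aux R'.toSubring hκ hspan (x - y) (by rw [map_sub, hxy, sub_self])).1
  exact sub_add_cancel x y ▸ R'.add_mem this hy

end IsCartMap

end Groth.Agent.Lib.Ferrand
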