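import Groth.Agent.Lib.Ferrand.Spec

/-!
# Open subsquares of affine Ferrand squares
-/

universe u

open CategoryTheory Limits AlgebraicGeometry TopologicalSpace

namespace Groth.Agent.Lib.Ferrand

theorem isSq_pullback {B A' A : CommRingCat.{u}} (q : B ⟶ A) (p : A' ⟶ A)
    (hp : Function.Surjective p.hom) :
    IsSq (pullback.fst q p).hom (pullback.snd q p).hom q.hom p.hom :=
  isSq_of_isPullback (IsPullback.of_hasPullback q p) hp

/-- The Ferrand square of affine schemes. -/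
theorem exists_affSq {X Y Z : Scheme.{u}} [IsAffine Z] [IsAffine X] [IsAffine Y] (i : Z ⟶ X)
    [IsClosedImmersion i] (j : Z ⟶ Y) :
    ∃ (P : Scheme.{u}) (a : X ⟶ P) (b : Y ⟶ P), AffSq i j a b := by
  let q := j.appTop
  let p := i.appTop
  have hp : Function.Surjective p.hom := i.app_surjective ⊤ (isAffineOpen_top X)
  let R := pullback q p
  let a := X.toSpecΓ ≫ Spec.map (pullback.snd q p)
  let b := Y.toSpecΓ ≫ Spec.map (pullback.fst q p)
  have ha : a.appTop = (Scheme.ΓSpecIso R).hom ≫ pullback.snd q p := by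
    simp only [a, Scheme.Hom.comp_appTop, Scheme.toSpecΓ_appTop, Scheme.ΓSpecIso_naturality]
    rfl
  have hb : b.appTop = (Scheme.ΓSpecIso R).hom ≫ pullback.fst q p := by
    simp only [b, Scheme.Hom.comp_appTop, Scheme.toSpecΓ_appTop, Scheme.ΓSpecIso_naturality]
    rfl
  refine ⟨Spec R, a, b, inferInstance, inferInstance, inferInstance, inferInstance, ?_, ?_⟩
  · refine ext_of_isAffine ?_
    rw [Scheme.Hom.comp_appTop i a, Scheme.Hom.comp_appTop j b, ha, hb, Category.assoc, Category.assoc,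
      ← pullback.condition]
  · refine (isSq_pullback q p hp).congr_iso (Scheme.ΓSpecIso R).symm.commRingCatIsoToRingEquiv
      (RingEquiv.refl _) (RingEquiv.refl _) (RingEquiv.refl _) _ _ _ _
      (fun x => ?_) (fun x => ?_) (fun x => rfl) (fun x => rfl)
    · show b.appTop.hom ((Scheme.ΓSpecIso R).inv.hom x) = _
      rw [hb, ← CommRingCat.comp_apply, Iso.inv_hom_id_assoc]
      rfl
    · show a.appTop.hom ((Scheme.ΓSpecIso R).inv.hom x) = _
      rw [ha, ← CommRingCat.comp_apply, Iso.inv_hom_id_assoc]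
      rfl

variable {X Y Z P X' Y' Z' P' : Scheme.{u}} {i : Z ⟶ X} {j : Z ⟶ Y} {a : X ⟶ P} {b : Y ⟶ P}
  {i' : Z' ⟶ X'} {j' : Z' ⟶ Y'} {a' : X' ⟶ P'} {b' : Y' ⟶ P'}

/-- A compatible open subsquare of an affine Ferrand square is an open immersion on the pushouts. -/
theorem AffSq.isOpenImmersion_of_map (h : AffSq i j a b) (h' : AffSq i' j' a' b')
    (α : X' ⟶ X) (β : Y' ⟶ Y) (γ : Z' ⟶ Z) [IsOpenImmersion α] [IsOpenImmersion β]
    [IsOpenImmersion γ] (hi : i' ≫ α = γ ≫ i) (hj : j' ≫ β = γ ≫ j)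
    (hγ₁ : i ⁻¹ᵁ α.opensRange = γ.opensRange) (hγ₂ : j ⁻¹ᵁ β.opensRange = γ.opensRange)
    (F : P' ⟶ P) (haF : a' ≫ F = α ≫ a) (hbF : b' ≫ F = β ≫ b) :
    IsOpenImmersion F ∧ a ⁻¹' Set.range F = Set.range α ∧ b ⁻¹' Set.range F = Set.range β := by
  obtain ⟨O, hOa, hOb⟩ := h.exists_opens α.opensRange β.opensRange (hγ₁.trans hγ₂.symm)
  -- the inverse on `O`
  let lα : (a ⁻¹ᵁ O).toScheme ⟶ X' := IsOpenImmersion.lift α (a ⁻¹ᵁ O).ι
    (by rw [Scheme.Opens.range_ι, hOa]; rfl)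
  let lβ : (b ⁻¹ᵁ O).toScheme ⟶ Y' := IsOpenImmersion.lift β (b ⁻¹ᵁ O).ι
    (by rw [Scheme.Opens.range_ι, hOb]; rfl)
  have hlα : lα ≫ α = (a ⁻¹ᵁ O).ι := IsOpenImmersion.lift_fac _ _ _
  have hlβ : lβ ≫ β = (b ⁻¹ᵁ O).ι := IsOpenImmersion.lift_fac _ _ _
  have hagree : Agree i j (a ⁻¹ᵁ O) (b ⁻¹ᵁ O) (lα ≫ a') (lβ ≫ b') := by
    intro W h₁ h₂
    let lγ : W.toScheme ⟶ Z' := IsOpenImmersion.lift γ W.ι (by
      rw [Scheme.Opens.range_ι, ← Scheme.Hom.coe_opensRange, ← hγ₁, ← hOa]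
      exact h₁)
    have hlγ : lγ ≫ γ = W.ι := IsOpenImmersion.lift_fac _ _ _
    have e₁ : i.resLE _ W h₁ ≫ lα = lγ ≫ i' := by
      rw [← cancel_mono α, Category.assoc, hlα, Scheme.Hom.resLE_comp_ι, Category.assoc, hi,
        ← Category.assoc, hlγ]
    have e₂ : j.resLE _ W h₂ ≫ lβ = lγ ≫ j' := by
      rw [← cancel_mono β, Category.assoc, hlβ, Scheme.Hom.resLE_comp_ι, Category.assoc, hj,
        ← Category.assoc, hlγ]
    rw [← Category.assoc, e₁, ← Category.assoc, e₂, Category.assoc, Category.assoc, h'.w]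
  obtain ⟨G, hG₁, hG₂⟩ := h.desc O P' _ _ hagree
  have hrange : Set.range F ⊆ Set.range O.ι := by
    rintro _ ⟨x, rfl⟩
    rw [Scheme.Opens.range_ι]
    rcases h'.exists_preimage x with ⟨y, rfl⟩ | ⟨y, rfl⟩
    · rw [← Scheme.Hom.comp_apply, haF, Scheme.Hom.comp_apply]
      exact hOa.ge ⟨y, rfl⟩
    · rw [← Scheme.Hom.comp_apply, hbF, Scheme.Hom.comp_apply]
      exact hOb.ge ⟨y, rfl⟩
  let F' := IsOpenImmersion.lift O.ι F hrange
  have hF' : F' ≫ O.ι = F := IsOpenImmersion.lift_fac _ _ _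
  let lα' : X' ⟶ (a ⁻¹ᵁ O).toScheme := IsOpenImmersion.lift (a ⁻¹ᵁ O).ι α
    (by rw [Scheme.Opens.range_ι, hOa]; rfl)
  let lβ' : Y' ⟶ (b ⁻¹ᵁ O).toScheme := IsOpenImmersion.lift (b ⁻¹ᵁ O).ι β
    (by rw [Scheme.Opens.range_ι, hOb]; rfl)
  have hlα' : lα' ≫ (a ⁻¹ᵁ O).ι = α := IsOpenImmersion.lift_fac _ _ _
  have hlβ' : lβ' ≫ (b ⁻¹ᵁ O).ι = β := IsOpenImmersion.lift_fac _ _ _
  have h₁ : G ≫ F' = 𝟙 _ := by
    refine h.ext O _ _ _ ?_ ?_
    · rw [← Category.assoc, hG₁, Category.comp_id, ← cancel_mono O.ι, Category.assoc, hF',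
        Category.assoc, haF, ← Category.assoc, hlα, Scheme.Hom.resLE_comp_ι]
    · rw [← Category.assoc, hG₂, Category.comp_id, ← cancel_mono O.ι, Category.assoc, hF',
        Category.assoc, hbF, ← Category.assoc, hlβ, Scheme.Hom.resLE_comp_ι]
  have h₂ : F' ≫ G = 𝟙 _ := by
    refine h'.isLocPushout.isPushout.hom_ext ?_ ?_
    · have : a' ≫ F' = lα' ≫ a.resLE O (a ⁻¹ᵁ O) le_rfl := by
        rw [← cancel_mono O.ι, Category.assoc, hF', haF, Category.assoc,
          Scheme.Hom.resLE_comp_ι, ← Category.assoc, hlα']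
      rw [reassoc_of% this, hG₁, Category.comp_id, ← Category.assoc]
      conv_rhs => rw [← Category.id_comp a']
      congr 1
      rw [← cancel_mono α, Category.assoc, hlα, hlα', Category.id_comp]
    · have : b' ≫ F' = lβ' ≫ b.resLE O (b ⁻¹ᵁ O) le_rfl := by
        rw [← cancel_mono O.ι, Category.assoc, hF', hbF, Category.assoc,
          Scheme.Hom.resLE_comp_ι, ← Category.assoc, hlβ']
      rw [reassoc_of% this, hG₂, Category.comp_id, ← Category.assoc]
      conv_rhs => rw [← Category.id_comp b']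
      congr 1
      rw [← cancel_mono β, Category.assoc, hlβ, hlβ', Category.id_comp]
  have : IsIso F' := ⟨G, h₂, h₁⟩
  refine ⟨hF' ▸ inferInstance, ?_, ?_⟩
  · have hr : Set.range F = (O : Set P) := by
      rw [← hF', Scheme.Hom.comp_base, TopCat.coe_comp,
        (show Function.Surjective F' from F'.homeomorph.surjective).range_comp,
        Scheme.Opens.range_ι]
    rw [hr]
    exact congrArg (fun U : X.Opens => (U : Set X)) hOa
  · have hr : Set.range F = (O : Set P) := by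
      rw [← hF', Scheme.Hom.comp_base, TopCat.coe_comp,
        (show Function.Surjective F' from F'.homeomorph.surjective).range_comp,
        Scheme.Opens.range_ι]
    rw [hr]
    exact congrArg (fun U : Y.Opens => (U : Set Y)) hOb

end Groth.Agent.Lib.Ferrand
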