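import Groth.Agent.Lib.Ferrand.Props
import Mathlib.RingTheory.Adjoin.Tower
import Mathlib.RingTheory.FiniteType
import Mathlib.AlgebraicGeometry.Morphisms.FiniteType

/-!
# Finiteness of Ferrand squares over a noetherian base
-/

universe u

open CategoryTheory Limits AlgebraicGeometry

namespace Groth.Agent.Lib.Ferrand

theorem IsSq.finiteType {K R B A' A : Type u} [CommRing K] [IsNoetherianRing K] [CommRing R]
    [CommRing B] [CommRing A'] [CommRing A] {r : R →+* B} {s : R →+* A'} {q : B →+* A}
    {p : A' →+* A} (h : IsSq r s q p) (φ : K →+* R) (hr : (r.comp φ).FiniteType)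
    (hs : (s.comp φ).FiniteType) (hq : q.IsIntegral) : φ.FiniteType := by
  have hsfin : s.Finite :=
    RingHom.finite_iff_isIntegral_and_finiteType.mpr
      ⟨h.isIntegral_left hq, hs.of_comp_finiteType⟩
  have hrfin : r.Finite := RingHom.Finite.of_surjective r h.surjective_left
  letI := φ.toAlgebra
  letI := r.toAlgebra
  letI := s.toAlgebra
  letI := (r.comp φ).toAlgebra
  letI := (s.comp φ).toAlgebra
  have : IsScalarTower K R B := .of_algebraMap_eq fun _ => rfl
  have : IsScalarTower K R A' := .of_algebraMap_eq fun _ => rfl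
  have : Algebra.FiniteType K B := hr
  have : Algebra.FiniteType K A' := hs
  have : Module.Finite R B := hrfin
  have : Module.Finite R A' := hsfin
  have hC : (⊤ : Subalgebra K (B × A')).FG := Algebra.FiniteType.out
  have hRC : (⊤ : Submodule R (B × A')).FG := Module.Finite.fg_top
  refine ⟨fg_of_fg_of_fg K R (B × A') hC hRC fun x y hxy => ?_⟩
  exact h.ext x y congr($hxy.1) congr($hxy.2)

set_option backward.isDefEq.respectTransparency false in
theorem AffSq.locallyOfFiniteType {X Y Z P K : Scheme.{u}} {i : Z ⟶ X} {j : Z ⟶ Y} {a : X ⟶ P}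
    {b : Y ⟶ P} (h : AffSq i j a b) [IsIntegralHom j] [IsAffine K] [IsNoetherianRing Γ(K, ⊤)]
    (g : P ⟶ K) [LocallyOfFiniteType (a ≫ g)] [LocallyOfFiniteType (b ≫ g)] :
    LocallyOfFiniteType g := by
  have := h.affX; have := h.affY; have := h.affZ; have := h.affP
  rw [HasRingHomProperty.iff_of_isAffine (P := @LocallyOfFiniteType)]
  have ha := (HasRingHomProperty.iff_of_isAffine (P := @LocallyOfFiniteType) (f := a ≫ g)).mp ‹_›
  have hb := (HasRingHomProperty.iff_of_isAffine (P := @LocallyOfFiniteType) (f := b ≫ g)).mp ‹_›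
  have hj := (HasAffineProperty.iff_of_isAffine (P := @IsIntegralHom) (f := j)).mp ‹_›
  rw [Scheme.Hom.comp_appTop, CommRingCat.hom_comp] at ha hb
  exact h.sq.finiteType _ hb ha hj.2

end Groth.Agent.Lib.Ferrand
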