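import Groth.Agent.Lib.Ferrand.BaseChange

/-!
# Flatness of pushouts along closed immersions
-/

universe u

open CategoryTheory Limits AlgebraicGeometry TopologicalSpace TensorProduct

namespace Groth.Agent.Lib.Ferrand

theorem flat_of_exact {K M N Q : Type u} [CommRing K] [AddCommGroup M] [AddCommGroup N]
    [AddCommGroup Q] [Module K M] [Module K N] [Module K Q] [Module.Flat K N] [Module.Flat K Q]
    (f : M →ₗ[K] N) (hf : Function.Injective f) (g : N →ₗ[K] Q) (hg : Function.Surjective g)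
    (hex : Function.Exact f g) : Module.Flat K M := by
  refine Module.Flat.iff_rTensor_preserves_injective_linearMap.mpr ?_
  intro A B _ _ _ _ φ hφ
  have h₁ := LinearMap.lTensor_injective_of_exact_of_flat g hg f hf hex A
  have h₂ := Module.Flat.rTensor_preserves_injective_linearMap (M := N) φ hφ
  refine Function.Injective.of_comp (f := f.lTensor B) ?_
  have : ⇑(f.lTensor B) ∘ ⇑(φ.rTensor M) = ⇑(φ.rTensor N) ∘ ⇑(f.lTensor A) := by
    ext t
    show (f.lTensor B ∘ₗ φ.rTensor M) t = (φ.rTensor N ∘ₗ f.lTensor A) t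
    rw [LinearMap.lTensor_comp_rTensor, LinearMap.rTensor_comp_lTensor]
  rw [this]
  exact h₂.comp h₁

theorem flat_prod {K N N' : Type u} [CommRing K] [AddCommGroup N] [AddCommGroup N'] [Module K N]
    [Module K N'] [Module.Flat K N] [Module.Flat K N'] : Module.Flat K (N × N') := by
  refine Module.Flat.iff_lTensor_preserves_injective_linearMap.mpr ?_
  intro A B _ _ _ _ φ hφ
  have h₁ := Module.Flat.lTensor_preserves_injective_linearMap (M := N) φ hφ
  have h₂ := Module.Flat.lTensor_preserves_injective_linearMap (M := N') φ hφ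
  have key : ∀ t, TensorProduct.prodLeft K K N N' B (φ.lTensor (N × N') t) =
      ((φ.lTensor N) (TensorProduct.prodLeft K K N N' A t).1,
        (φ.lTensor N') (TensorProduct.prodLeft K K N N' A t).2) := by
    intro t
    induction t using TensorProduct.induction_on with
    | zero => simp [Prod.zero_eq_mk]
    | tmul k x =>
      obtain ⟨n, n'⟩ := k
      simp
    | add a b ha hb => simp only [map_add, ha, hb, Prod.fst_add, Prod.snd_add, Prod.mk_add_mk]
  intro x y hxy
  have := congrArg (TensorProduct.prodLeft K K N N' B) hxy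
  rw [key, key, Prod.mk.injEq] at this
  exact (TensorProduct.prodLeft K K N N' A).injective (Prod.ext (h₁ this.1) (h₂ this.2))

theorem IsSq.flat {K R B A' A : Type u} [CommRing K] [CommRing R] [CommRing B] [CommRing A']
    [CommRing A] {r : R →+* B} {s : R →+* A'} {q : B →+* A} {p : A' →+* A} (h : IsSq r s q p)
    (κ : K →+* R) (hB : (r.comp κ).Flat) (hA' : (s.comp κ).Flat)
    (hA : (q.comp (r.comp κ)).Flat) : κ.Flat := by
  letI := κ.toAlgebra
  letI := (r.comp κ).toAlgebra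
  letI := (s.comp κ).toAlgebra
  letI := (q.comp (r.comp κ)).toAlgebra
  have : Module.Flat K B := hB
  have : Module.Flat K A' := hA'
  have : Module.Flat K A := hA
  let rr : R →ₐ[K] B := ⟨r, fun _ => rfl⟩
  let ss : R →ₐ[K] A' := ⟨s, fun _ => rfl⟩
  let qq : B →ₐ[K] A := ⟨q, fun _ => rfl⟩
  let pp : A' →ₐ[K] A := ⟨p, fun k => (h.comm _).symm⟩
  have : Module.Flat K (B × A') := flat_prod
  refine flat_of_exact (rr.toLinearMap.prod ss.toLinearMap)
    (fun x y hxy => h.ext x y congr($hxy.1) congr($hxy.2))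
    (qq.toLinearMap ∘ₗ LinearMap.fst K B A' - pp.toLinearMap ∘ₗ LinearMap.snd K B A')
    (fun a => ?_) ?_
  · obtain ⟨a', rfl⟩ := h.surj a
    exact ⟨(0, -a'), by simp [qq, pp]⟩
  · rintro ⟨b, a⟩
    constructor
    · intro hba
      obtain ⟨x, hx₁, hx₂⟩ := h.lift b a (sub_eq_zero.mp hba)
      exact ⟨x, Prod.ext hx₁ hx₂⟩
    · rintro ⟨x, hx⟩
      rw [← hx]
      exact sub_eq_zero.mpr (h.comm x)

variable {X Y Z P S : Scheme.{u}} {i : Z ⟶ X} {j : Z ⟶ Y} {a : X ⟶ P} {b : Y ⟶ P}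

theorem AffSq.flat [IsAffine S] (h : AffSq i j a b) (g : P ⟶ S) [Flat (a ≫ g)] [Flat (b ≫ g)]
    (hZ : Flat (j ≫ b ≫ g)) : Flat g := by
  have := h.affX; have := h.affY; have := h.affZ; have := h.affP
  have hA' := (HasRingHomProperty.iff_of_isAffine (P := @Flat) (f := a ≫ g)).mp ‹_›
  have hB := (HasRingHomProperty.iff_of_isAffine (P := @Flat) (f := b ≫ g)).mp ‹_›
  have hA := (HasRingHomProperty.iff_of_isAffine (P := @Flat) (f := j ≫ b ≫ g)).mp hZ
  rw [Scheme.Hom.comp_appTop, CommRingCat.hom_comp] at hA' hB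
  rw [Scheme.Hom.comp_appTop, Scheme.Hom.comp_appTop, CommRingCat.hom_comp,
    CommRingCat.hom_comp] at hA
  exact (HasRingHomProperty.iff_of_isAffine (P := @Flat)).mpr (h.sq.flat _ hB hA' hA)

set_option backward.isDefEq.respectTransparency false in
theorem GluedBy.flat [IsClosedImmersion i] (h : GluedBy i j a b) (g : P ⟶ S) [Flat (a ≫ g)]
    [Flat (b ≫ g)] (hZ : Flat (j ≫ b ≫ g)) : Flat g := by
  have key : ∀ p : P, ∃ O : P.Opens, p ∈ O ∧ Flat (O.ι ≫ g) := by
    intro p
    obtain ⟨U, hU, hpU, -⟩ := exists_isAffineOpen_mem_and_subset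
      (x := g p) (U := ⊤) trivial
    obtain ⟨O, hO, hpO, hle'⟩ := exists_isAffineOpen_mem_and_subset
      (x := p) (U := g ⁻¹ᵁ U) hpU
    have hle : O ≤ g ⁻¹ᵁ U := hle'
    have : IsAffine U.toScheme := hU
    have e : i ⁻¹ᵁ (a ⁻¹ᵁ O) ≤ j ⁻¹ᵁ (b ⁻¹ᵁ O) := by
      rw [← Scheme.Hom.comp_preimage, ← Scheme.Hom.comp_preimage, h.isPushout.w]
    have hsq := h.affSq_restrict O hO e
    have : Flat (a.resLE O (a ⁻¹ᵁ O) le_rfl ≫ g.resLE U O hle) := by
      rw [Scheme.Hom.resLE_comp_resLE]; exact flat_resLE _ _ _ _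
    have : Flat (b.resLE O (b ⁻¹ᵁ O) le_rfl ≫ g.resLE U O hle) := by
      rw [Scheme.Hom.resLE_comp_resLE]; exact flat_resLE _ _ _ _
    have := hsq.flat (g.resLE U O hle) (by
      rw [Scheme.Hom.resLE_comp_resLE, Scheme.Hom.resLE_comp_resLE]; exact flat_resLE _ _ _ _)
    refine ⟨O, hpO, ?_⟩
    rw [← Scheme.Hom.resLE_comp_ι g hle]
    infer_instance
  choose O hpO hO using key
  exact (IsZariskiLocalAtSource.iff_of_iSup_eq_top (P := @Flat) O
    (eq_top_iff.mpr fun p _ => Opens.mem_iSup.mpr ⟨p, hpO p⟩)).mpr hO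

end Groth.Agent.Lib.Ferrand
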