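import Groth.Agent.Lib.Ferrand.Compare
import Mathlib.AlgebraicGeometry.Gluing
import Mathlib.CategoryTheory.LocallyDirected

/-!
# Existence of pushouts along closed immersions

`i : Z ⟶ X` a closed immersion and `j : Z ⟶ Y` a morphism such that every point of `Y` lies in an
affine open `V` with an affine open `U` of `X` with `i ⁻¹ U = j ⁻¹ V`.
-/

universe u

open CategoryTheory Limits AlgebraicGeometry TopologicalSpace

namespace Groth.Agent.Lib.Ferrand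

variable {X Y Z : Scheme.{u}} (i : Z ⟶ X) (j : Z ⟶ Y)

/-- Affine opens of `X` and `Y` with the same preimage in `Z`. -/
structure AffPair where
  U : X.Opens
  V : Y.Opens
  hU : IsAffineOpen U
  hV : IsAffineOpen V
  eq : i ⁻¹ᵁ U = j ⁻¹ᵁ V

instance : Preorder (AffPair i j) := Preorder.lift fun k => (k.U, k.V)

variable {i j}

theorem AffPair.isAffineOpen [IsClosedImmersion i] (k : AffPair i j) : IsAffineOpen (i ⁻¹ᵁ k.U) :=
  k.hU.preimage i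

variable [IsClosedImmersion i]

theorem AffPair.exists_affSq (k : AffPair i j) :
    ∃ (P : Scheme.{u}) (a : k.U.toScheme ⟶ P) (b : k.V.toScheme ⟶ P),
      AffSq (i.resLE k.U (i ⁻¹ᵁ k.U) le_rfl) (j.resLE k.V (i ⁻¹ᵁ k.U) k.eq.le) a b := by
  have : IsAffine k.U.toScheme := k.hU
  have : IsAffine k.V.toScheme := k.hV
  have : IsAffine (i ⁻¹ᵁ k.U).toScheme := k.isAffineOpen
  have : IsClosedImmersion (i.resLE k.U (i ⁻¹ᵁ k.U) le_rfl) := by
    rw [Scheme.Hom.resLE_eq_morphismRestrict]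
    exact MorphismProperty.of_isPullback (isPullback_morphismRestrict i k.U).flip ‹_›
  exact Ferrand.exists_affSq _ _

/-- The affine piece of the pushout. -/
noncomputable def AffPair.obj (k : AffPair i j) : Scheme.{u} := k.exists_affSq.choose

noncomputable def AffPair.a (k : AffPair i j) : k.U.toScheme ⟶ k.obj :=
  k.exists_affSq.choose_spec.choose

noncomputable def AffPair.b (k : AffPair i j) : k.V.toScheme ⟶ k.obj :=
  k.exists_affSq.choose_spec.choose_spec.choose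

theorem AffPair.affSq (k : AffPair i j) :
    AffSq (i.resLE k.U (i ⁻¹ᵁ k.U) le_rfl) (j.resLE k.V (i ⁻¹ᵁ k.U) k.eq.le) k.a k.b :=
  k.exists_affSq.choose_spec.choose_spec.choose_spec

theorem AffPair.hom_ext (k : AffPair i j) {T : Scheme.{u}} {f g : k.obj ⟶ T}
    (ha : k.a ≫ f = k.a ≫ g) (hb : k.b ≫ f = k.b ≫ g) : f = g :=
  k.affSq.isLocPushout.isPushout.hom_ext ha hb

theorem AffPair.map_w {k l : AffPair i j} (h : k ≤ l) :
    i.resLE k.U (i ⁻¹ᵁ k.U) le_rfl ≫ X.homOfLE h.1 ≫ l.a =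
      j.resLE k.V (i ⁻¹ᵁ k.U) k.eq.le ≫ Y.homOfLE h.2 ≫ l.b := by
  have hZ : i ⁻¹ᵁ k.U ≤ i ⁻¹ᵁ l.U := fun z hz => h.1 hz
  have := congrArg (Z.homOfLE hZ ≫ ·) l.affSq.w
  simp only [Scheme.Hom.map_resLE_assoc] at this
  rw [Scheme.Hom.resLE_map_assoc, Scheme.Hom.resLE_map_assoc]
  exact this

noncomputable def AffPair.map {k l : AffPair i j} (h : k ≤ l) : k.obj ⟶ l.obj :=
  k.affSq.isLocPushout.isPushout.desc (X.homOfLE h.1 ≫ l.a) (Y.homOfLE h.2 ≫ l.b) (map_w h)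

@[reassoc (attr := simp)]
theorem AffPair.a_map {k l : AffPair i j} (h : k ≤ l) :
    k.a ≫ AffPair.map h = X.homOfLE h.1 ≫ l.a :=
  k.affSq.isLocPushout.isPushout.inl_desc _ _ _

@[reassoc (attr := simp)]
theorem AffPair.b_map {k l : AffPair i j} (h : k ≤ l) :
    k.b ≫ AffPair.map h = Y.homOfLE h.2 ≫ l.b :=
  k.affSq.isLocPushout.isPushout.inr_desc _ _ _

variable (i j) in
/-- The diagram of affine pieces. -/
noncomputable def diagram : AffPair i j ⥤ Scheme.{u} where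
  obj k := k.obj
  map h := AffPair.map h.le
  map_id k := k.hom_ext (by simp) (by simp)
  map_comp f g := AffPair.hom_ext _ (by simp) (by simp)

theorem AffPair.map_prop {k l : AffPair i j} (h : k ≤ l) :
    IsOpenImmersion (AffPair.map h) ∧
      l.a ⁻¹' Set.range (AffPair.map h) = l.U.ι ⁻¹' (k.U : Set X) ∧
      l.b ⁻¹' Set.range (AffPair.map h) = l.V.ι ⁻¹' (k.V : Set Y) := by
  have hZ : i ⁻¹ᵁ k.U ≤ i ⁻¹ᵁ l.U := fun z hz => h.1 hz
  have e₁ := l.affSq.isOpenImmersion_of_map k.affSq (X.homOfLE h.1) (Y.homOfLE h.2) (Z.homOfLE hZ)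
    (by rw [Scheme.Hom.resLE_map, Scheme.Hom.map_resLE])
    (by rw [Scheme.Hom.resLE_map, Scheme.Hom.map_resLE]) ?_ ?_
    (AffPair.map h) (AffPair.a_map h) (AffPair.b_map h)
  · refine ⟨e₁.1, e₁.2.1.trans ?_, e₁.2.2.trans ?_⟩
    · rw [← Scheme.Hom.coe_opensRange, Scheme.opensRange_homOfLE]; rfl
    · rw [← Scheme.Hom.coe_opensRange, Scheme.opensRange_homOfLE]; rfl
  · rw [Scheme.opensRange_homOfLE, Scheme.opensRange_homOfLE, ← Scheme.Hom.comp_preimage,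
      Scheme.Hom.resLE_comp_ι, Scheme.Hom.comp_preimage]
  · rw [Scheme.opensRange_homOfLE, Scheme.opensRange_homOfLE, ← Scheme.Hom.comp_preimage,
      Scheme.Hom.resLE_comp_ι, Scheme.Hom.comp_preimage, ← k.eq]

instance {k l : AffPair i j} (f : k ⟶ l) : IsOpenImmersion ((diagram i j).map f) :=
  (AffPair.map_prop f.le).1

set_option backward.isDefEq.respectTransparency.types false in
/-- A smaller pair inside an open of a piece. -/
theorem AffPair.exists_le (m : AffPair i j) (O : m.obj.Opens) (q : m.obj) (hq : q ∈ O) :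
    ∃ (n : AffPair i j) (h : n ≤ m), q ∈ Set.range (AffPair.map h) ∧
      Set.range (AffPair.map h) ⊆ O ∧
      (∀ x : m.U.toScheme, x.1 ∈ n.U ↔ m.a x ∈ Set.range (AffPair.map h)) := by
  have := m.affSq.affP
  obtain ⟨f, hqf, hf⟩ := m.affSq.exists_basicOpen O q hq
  have hUaff : IsAffineOpen (m.U.ι ''ᵁ (m.a ⁻¹ᵁ m.obj.basicOpen f)) := by
    have : IsAffine m.U.toScheme := m.hU
    rw [Scheme.preimage_basicOpen_top]
    exact ((isAffineOpen_top _).basicOpen _).image_of_isOpenImmersion _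
  have hVaff : IsAffineOpen (m.V.ι ''ᵁ (m.b ⁻¹ᵁ m.obj.basicOpen f)) := by
    have : IsAffine m.V.toScheme := m.hV
    rw [Scheme.preimage_basicOpen_top]
    exact ((isAffineOpen_top _).basicOpen _).image_of_isOpenImmersion _
  have hw : ∀ z : (i ⁻¹ᵁ m.U).toScheme, m.a (i.resLE m.U (i ⁻¹ᵁ m.U) le_rfl z) =
      m.b (j.resLE m.V (i ⁻¹ᵁ m.U) m.eq.le z) := fun z => by
    rw [← Scheme.Hom.comp_apply, m.affSq.w, Scheme.Hom.comp_apply]
  have hres₁ : ∀ z (hz : z ∈ i ⁻¹ᵁ m.U),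
      i.resLE m.U (i ⁻¹ᵁ m.U) le_rfl ⟨z, hz⟩ = ⟨i z, hz⟩ := fun z hz =>
    m.U.ι.isOpenEmbedding.injective
      (by rw [← Scheme.Hom.comp_apply, Scheme.Hom.resLE_comp_ι]; rfl)
  have hres₂ : ∀ z (hz : z ∈ i ⁻¹ᵁ m.U),
      j.resLE m.V (i ⁻¹ᵁ m.U) m.eq.le ⟨z, hz⟩ = ⟨j z, m.eq.le hz⟩ := fun z hz =>
    m.V.ι.isOpenEmbedding.injective
      (by rw [← Scheme.Hom.comp_apply, Scheme.Hom.resLE_comp_ι]; rfl)
  let n : AffPair i j := ⟨_, _, hUaff, hVaff, by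
    ext z
    constructor
    · rintro ⟨p, hp, hpz⟩
      have hz : z ∈ i ⁻¹ᵁ m.U := show i z ∈ m.U from hpz ▸ p.2
      refine ⟨⟨j z, m.eq.le hz⟩, ?_, rfl⟩
      show m.b ⟨j z, m.eq.le hz⟩ ∈ m.obj.basicOpen f
      rw [← hres₂ z hz, ← hw, hres₁ z hz]
      exact (show p = ⟨i z, hz⟩ from Subtype.ext hpz) ▸ hp
    · rintro ⟨p, hp, hpz⟩
      have hz' : z ∈ j ⁻¹ᵁ m.V := show j z ∈ m.V from hpz ▸ p.2
      have hz : z ∈ i ⁻¹ᵁ m.U := m.eq.ge hz'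
      refine ⟨⟨i z, hz⟩, ?_, rfl⟩
      show m.a ⟨i z, hz⟩ ∈ m.obj.basicOpen f
      rw [← hres₁ z hz, hw, hres₂ z hz]
      exact (show p = ⟨j z, hz'⟩ from Subtype.ext hpz) ▸ hp⟩
  have hnm : n ≤ m := ⟨by rintro _ ⟨p, -, rfl⟩; exact p.2, by rintro _ ⟨p, -, rfl⟩; exact p.2⟩
  obtain ⟨-, h₁, h₂⟩ := AffPair.map_prop hnm
  have hU : ∀ x : m.U.toScheme, x.1 ∈ n.U ↔ m.a x ∈ m.obj.basicOpen f := fun x =>
    ⟨fun ⟨p, hp, hpx⟩ => (show p = x from Subtype.ext hpx) ▸ hp, fun hx => ⟨x, hx, rfl⟩⟩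
  have hV : ∀ x : m.V.toScheme, x.1 ∈ n.V ↔ m.b x ∈ m.obj.basicOpen f := fun x =>
    ⟨fun ⟨p, hp, hpx⟩ => (show p = x from Subtype.ext hpx) ▸ hp, fun hx => ⟨x, hx, rfl⟩⟩
  have hrange : Set.range (AffPair.map hnm) = (m.obj.basicOpen f : Set m.obj) := by
    ext x
    rcases m.affSq.exists_preimage x with ⟨y, rfl⟩ | ⟨y, rfl⟩
    · exact (Set.ext_iff.mp h₁ y).trans (hU y)
    · exact (Set.ext_iff.mp h₂ y).trans (hV y)
  exact ⟨n, hnm, hrange.ge hqf, hrange.le.trans hf, fun x => by rw [hrange]; exact hU x⟩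

instance : (diagram i j ⋙ Scheme.forget).IsLocallyDirected := ⟨by
  intro k l m fk fl xk xl e
  have e' : AffPair.map fk.le xk = AffPair.map fl.le xl := e
  have := (AffPair.map_prop fk.le).1
  have := (AffPair.map_prop fl.le).1
  let O := (AffPair.map fk.le).opensRange ⊓ (AffPair.map fl.le).opensRange
  obtain ⟨n, hn, ⟨x, hx⟩, hsub, hU⟩ := AffPair.exists_le m O (AffPair.map fk.le xk)
    ⟨⟨xk, rfl⟩, ⟨xl, e'.symm⟩⟩
  obtain ⟨-, k₁, k₂⟩ := AffPair.map_prop hn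
  obtain ⟨-, a₁, a₂⟩ := AffPair.map_prop fk.le
  obtain ⟨-, b₁, b₂⟩ := AffPair.map_prop fl.le
  have hnk : n ≤ k := by
    constructor
    · intro z hz
      exact (Set.ext_iff.mp a₁ ⟨z, hn.1 hz⟩).mp ((hsub ((Set.ext_iff.mp k₁ ⟨z, hn.1 hz⟩).mpr hz)).1)
    · intro z hz
      exact (Set.ext_iff.mp a₂ ⟨z, hn.2 hz⟩).mp ((hsub ((Set.ext_iff.mp k₂ ⟨z, hn.2 hz⟩).mpr hz)).1)
  have hnl : n ≤ l := by
    constructor
    · intro z hz
      exact (Set.ext_iff.mp b₁ ⟨z, hn.1 hz⟩).mp ((hsub ((Set.ext_iff.mp k₁ ⟨z, hn.1 hz⟩).mpr hz)).2)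
    · intro z hz
      exact (Set.ext_iff.mp b₂ ⟨z, hn.2 hz⟩).mp ((hsub ((Set.ext_iff.mp k₂ ⟨z, hn.2 hz⟩).mpr hz)).2)
  refine ⟨n, homOfLE hnk, homOfLE hnl, x, ?_, ?_⟩
  · refine (AffPair.map fk.le).isOpenEmbedding.injective ?_
    show AffPair.map fk.le (AffPair.map hnk x) = _
    rw [← Scheme.Hom.comp_apply, show AffPair.map hnk ≫ AffPair.map fk.le = AffPair.map hn from
      ((diagram i j).map_comp (homOfLE hnk) fk).symm]
    exact hx
  · refine (AffPair.map fl.le).isOpenEmbedding.injective ?_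
    show AffPair.map fl.le (AffPair.map hnl x) = _
    rw [← Scheme.Hom.comp_apply, show AffPair.map hnl ≫ AffPair.map fl.le = AffPair.map hn from
      ((diagram i j).map_comp (homOfLE hnl) fl).symm, ← e']
    exact hx⟩

variable (i j) in
/-- The glued pushout. -/
noncomputable def glued : Scheme.{u} := colimit (diagram i j)

noncomputable def AffPair.ι (k : AffPair i j) : k.obj ⟶ glued i j := colimit.ι (diagram i j) k

@[reassoc (attr := simp)]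
theorem AffPair.map_ι {k l : AffPair i j} (h : k ≤ l) : AffPair.map h ≫ l.ι = k.ι :=
  colimit.w (diagram i j) (homOfLE h)

instance (k : AffPair i j) : IsOpenImmersion k.ι :=
  inferInstanceAs (IsOpenImmersion (colimit.ι (diagram i j) k))

/-- Every point of `X` lies in some pair. -/
theorem exists_mem_U (hcov : ∀ y : Y, ∃ k : AffPair i j, y ∈ k.V) (x : X) :
    ∃ k : AffPair i j, x ∈ k.U := by
  by_cases hx : x ∈ Set.range i
  · obtain ⟨z, rfl⟩ := hx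
    obtain ⟨k, hk⟩ := hcov (j z)
    exact ⟨k, k.eq.ge hk⟩
  · obtain ⟨U, hU, hxU, hUi⟩ := exists_isAffineOpen_mem_and_subset (x := x)
      (U := ⟨(Set.range i)ᶜ, i.isClosedEmbedding.isClosed_range.isOpen_compl⟩) hx
    refine ⟨⟨U, ⊥, hU, isAffineOpen_bot Y, ?_⟩, hxU⟩
    ext z
    exact ⟨fun hz => absurd ⟨z, rfl⟩ (hUi hz), fun hz => hz.elim⟩

theorem AffPair.exists_le_le (k l : AffPair i j) {x : X} (hk : x ∈ k.U) (hl : x ∈ l.U) :
    ∃ (n : AffPair i j), n ≤ k ∧ n ≤ l ∧ x ∈ n.U := by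
  obtain ⟨O, hOa, hOb⟩ := k.affSq.exists_opens (k.U.ι ⁻¹ᵁ l.U) (k.V.ι ⁻¹ᵁ l.V) (by
    rw [← Scheme.Hom.comp_preimage, ← Scheme.Hom.comp_preimage, Scheme.Hom.resLE_comp_ι,
      Scheme.Hom.resLE_comp_ι, Scheme.Hom.comp_preimage, Scheme.Hom.comp_preimage, l.eq])
  obtain ⟨n, hn, hq, hsub, hU⟩ := AffPair.exists_le k O (k.a ⟨x, hk⟩) (hOa.ge hl)
  obtain ⟨-, k₁, k₂⟩ := AffPair.map_prop hn
  refine ⟨n, hn, ⟨fun z hz => ?_, fun z hz => ?_⟩, (hU ⟨x, hk⟩).mpr hq⟩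
  · exact hOa.le (x := ⟨z, hn.1 hz⟩) (hsub ((Set.ext_iff.mp k₁ ⟨z, hn.1 hz⟩).mpr hz))
  · exact hOb.le (x := ⟨z, hn.2 hz⟩) (hsub ((Set.ext_iff.mp k₂ ⟨z, hn.2 hz⟩).mpr hz))

theorem AffPair.exists_le_le_right (k l : AffPair i j) {y : Y} (hk : y ∈ k.V) (hl : y ∈ l.V) :
    ∃ (n : AffPair i j), n ≤ k ∧ n ≤ l ∧ y ∈ n.V := by
  obtain ⟨O, hOa, hOb⟩ := k.affSq.exists_opens (k.U.ι ⁻¹ᵁ l.U) (k.V.ι ⁻¹ᵁ l.V) (by
    rw [← Scheme.Hom.comp_preimage, ← Scheme.Hom.comp_preimage, Scheme.Hom.resLE_comp_ι,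
      Scheme.Hom.resLE_comp_ι, Scheme.Hom.comp_preimage, Scheme.Hom.comp_preimage, l.eq])
  obtain ⟨n, hn, hq, hsub, -⟩ := AffPair.exists_le k O (k.b ⟨y, hk⟩) (hOb.ge hl)
  obtain ⟨-, k₁, k₂⟩ := AffPair.map_prop hn
  refine ⟨n, hn, ⟨fun z hz => ?_, fun z hz => ?_⟩, (Set.ext_iff.mp k₂ ⟨y, hk⟩).mp hq⟩
  · exact hOa.le (x := ⟨z, hn.1 hz⟩) (hsub ((Set.ext_iff.mp k₁ ⟨z, hn.1 hz⟩).mpr hz))
  · exact hOb.le (x := ⟨z, hn.2 hz⟩) (hsub ((Set.ext_iff.mp k₂ ⟨z, hn.2 hz⟩).mpr hz))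

theorem exists_legs (hcov : ∀ y : Y, ∃ k : AffPair i j, y ∈ k.V) :
    ∃ (a : X ⟶ glued i j) (b : Y ⟶ glued i j),
      (∀ k : AffPair i j, k.U.ι ≫ a = k.a ≫ k.ι) ∧ ∀ k : AffPair i j, k.V.ι ≫ b = k.b ≫ k.ι := by
  have hX : ⨆ k : AffPair i j, k.U = ⊤ := eq_top_iff.mpr fun x _ => by
    obtain ⟨k, hk⟩ := exists_mem_U hcov x
    exact Opens.mem_iSup.mpr ⟨k, hk⟩
  have hY : ⨆ k : AffPair i j, k.V = ⊤ := eq_top_iff.mpr fun y _ => by
    obtain ⟨k, hk⟩ := hcov y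
    exact Opens.mem_iSup.mpr ⟨k, hk⟩
  obtain ⟨a, ha⟩ := exists_glue (fun k : AffPair i j => k.U) ⊤ hX (fun k => k.a ≫ k.ι) fun k l => by
    refine hom_ext_iSup (fun n : {n : AffPair i j // n ≤ k ∧ n ≤ l} => n.1.U) _
      (le_antisymm (iSup_le fun n => le_inf n.2.1.1 n.2.2.1) fun x hx => ?_) fun n hn => ?_
    · obtain ⟨n, h₁, h₂, hx'⟩ := AffPair.exists_le_le k l hx.1 hx.2
      exact Opens.mem_iSup.mpr ⟨⟨n, h₁, h₂⟩, hx'⟩
    · rw [← Category.assoc, ← Category.assoc (X.homOfLE hn), Scheme.homOfLE_homOfLE,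
        Scheme.homOfLE_homOfLE]
      show X.homOfLE n.2.1.1 ≫ k.a ≫ k.ι = X.homOfLE n.2.2.1 ≫ l.a ≫ l.ι
      rw [← AffPair.a_map_assoc n.2.1, ← AffPair.a_map_assoc n.2.2, AffPair.map_ι, AffPair.map_ι]
  obtain ⟨b, hb⟩ := exists_glue (fun k : AffPair i j => k.V) ⊤ hY (fun k => k.b ≫ k.ι) fun k l => by
    refine hom_ext_iSup (fun n : {n : AffPair i j // n ≤ k ∧ n ≤ l} => n.1.V) _
      (le_antisymm (iSup_le fun n => le_inf n.2.1.2 n.2.2.2) fun y hy => ?_) fun n hn => ?_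
    · obtain ⟨n, h₁, h₂, hy'⟩ := AffPair.exists_le_le_right k l hy.1 hy.2
      exact Opens.mem_iSup.mpr ⟨⟨n, h₁, h₂⟩, hy'⟩
    · rw [← Category.assoc, ← Category.assoc (Y.homOfLE hn), Scheme.homOfLE_homOfLE,
        Scheme.homOfLE_homOfLE]
      show Y.homOfLE n.2.1.2 ≫ k.b ≫ k.ι = Y.homOfLE n.2.2.2 ≫ l.b ≫ l.ι
      rw [← AffPair.b_map_assoc n.2.1, ← AffPair.b_map_assoc n.2.2, AffPair.map_ι, AffPair.map_ι]
  refine ⟨X.topIso.inv ≫ a, Y.topIso.inv ≫ b, fun k => ?_, fun k => ?_⟩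
  · rw [← ha k le_top, ← Category.assoc]
    congr 1
    rw [Iso.comp_inv_eq, Scheme.topIso_hom, Scheme.homOfLE_ι]
  · rw [← hb k le_top, ← Category.assoc]
    congr 1
    rw [Iso.comp_inv_eq, Scheme.topIso_hom, Scheme.homOfLE_ι]

set_option backward.isDefEq.respectTransparency.types false in
/-- The pushout exists, and its affine pieces are the Ferrand squares of the pairs. -/
theorem exists_pushout (hcov : ∀ y : Y, ∃ k : AffPair i j, y ∈ k.V) :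
    ∃ (a : X ⟶ glued i j) (b : Y ⟶ glued i j), IsPushout i j a b ∧
      (∀ k : AffPair i j, k.U.ι ≫ a = k.a ≫ k.ι ∧ k.V.ι ≫ b = k.b ≫ k.ι) ∧
      (∀ k : AffPair i j, a ⁻¹ᵁ k.ι.opensRange = k.U ∧ b ⁻¹ᵁ k.ι.opensRange = k.V) ∧
      ∀ p : glued i j, ∃ k : AffPair i j, p ∈ Set.range k.ι := by
  obtain ⟨a, b, ha, hb⟩ := exists_legs hcov
  have hw : i ≫ a = j ≫ b := by
    refine (Scheme.openCoverOfIsOpenCover Z (fun k : AffPair i j => i ⁻¹ᵁ k.U) ?_).hom_ext _ _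
      fun k => ?_
    · refine eq_top_iff.mpr fun z _ => ?_
      obtain ⟨k, hk⟩ := exists_mem_U hcov (i z)
      exact Opens.mem_iSup.mpr ⟨k, hk⟩
    · show (i ⁻¹ᵁ k.U).ι ≫ i ≫ a = (i ⁻¹ᵁ k.U).ι ≫ j ≫ b
      rw [← Scheme.Hom.resLE_comp_ι_assoc i (le_refl (i ⁻¹ᵁ k.U)), ha,
        ← Scheme.Hom.resLE_comp_ι_assoc j k.eq.le, hb, reassoc_of% k.affSq.w]
  have hagree : ∀ (T : PushoutCocone i j) (k : AffPair i j),
      i.resLE k.U (i ⁻¹ᵁ k.U) le_rfl ≫ k.U.ι ≫ T.inl =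
        j.resLE k.V (i ⁻¹ᵁ k.U) k.eq.le ≫ k.V.ι ≫ T.inr := fun T k => by
    rw [Scheme.Hom.resLE_comp_ι_assoc, Scheme.Hom.resLE_comp_ι_assoc, T.condition]
  let d : ∀ (T : PushoutCocone i j) (k : AffPair i j), k.obj ⟶ T.pt := fun T k =>
    k.affSq.isLocPushout.isPushout.desc (k.U.ι ≫ T.inl) (k.V.ι ≫ T.inr) (hagree T k)
  let D : ∀ T : PushoutCocone i j, glued i j ⟶ T.pt := fun T =>
    colimit.desc (diagram i j) ⟨T.pt, fun k => d T k, fun k l h => by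
      show AffPair.map h.le ≫ d T l = d T k ≫ 𝟙 _
      rw [Category.comp_id]
      refine k.hom_ext ?_ ?_
      · rw [AffPair.a_map_assoc]
        simp [d]
      · rw [AffPair.b_map_assoc]
        simp [d]⟩
  have hD : ∀ T k, AffPair.ι k ≫ D T = d T k := fun T k => colimit.ι_desc _ _
  have hXcov : ∀ {T : Scheme.{u}} (f g : X ⟶ T),
      (∀ k : AffPair i j, k.U.ι ≫ f = k.U.ι ≫ g) → f = g := fun f g h =>
    (Scheme.openCoverOfIsOpenCover X (fun k : AffPair i j => k.U) (eq_top_iff.mpr fun x _ => by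
      obtain ⟨k, hk⟩ := exists_mem_U hcov x
      exact Opens.mem_iSup.mpr ⟨k, hk⟩)).hom_ext _ _ h
  have hYcov : ∀ {T : Scheme.{u}} (f g : Y ⟶ T),
      (∀ k : AffPair i j, k.V.ι ≫ f = k.V.ι ≫ g) → f = g := fun f g h =>
    (Scheme.openCoverOfIsOpenCover Y (fun k : AffPair i j => k.V) (eq_top_iff.mpr fun x _ => by
      obtain ⟨k, hk⟩ := hcov x
      exact Opens.mem_iSup.mpr ⟨k, hk⟩)).hom_ext _ _ h
  have hpo : IsPushout i j a b := by
    refine ⟨⟨hw⟩, ⟨PushoutCocone.IsColimit.mk _ D (fun T => hXcov _ _ fun k => ?_)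
      (fun T => hYcov _ _ fun k => ?_) fun T m hm₁ hm₂ => ?_⟩⟩
    · rw [← Category.assoc, ha, Category.assoc, hD]
      simp [d]
    · rw [← Category.assoc, hb, Category.assoc, hD]
      simp [d]
    · refine colimit.hom_ext fun k => ?_
      show AffPair.ι k ≫ m = AffPair.ι k ≫ D T
      refine k.hom_ext ?_ ?_
      · rw [hD, ← Category.assoc, ← ha, Category.assoc, hm₁]
        simp [d]
      · rw [hD, ← Category.assoc, ← hb, Category.assoc, hm₂]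
        simp [d]
  refine ⟨a, b, hpo, fun k => ⟨ha k, hb k⟩, fun k => ⟨?_, ?_⟩, fun p => ?_⟩
  · ext x
    constructor
    · rintro ⟨q, hq⟩
      obtain ⟨l, hl⟩ := exists_mem_U hcov x
      have e : l.ι (l.a ⟨x, hl⟩) = k.ι q := by
        rw [hq, ← Scheme.Hom.comp_apply, ← ha]; rfl
      obtain ⟨n, fl, fk, p, hp₁, -⟩ :=
        (Scheme.IsLocallyDirected.ι_eq_ι_iff (F := diagram i j)).mp e
      exact fk.le.1 ((Set.ext_iff.mp (AffPair.map_prop fl.le).2.1 ⟨x, hl⟩).mp ⟨p, hp₁⟩)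
    · intro hx
      refine ⟨k.a ⟨x, hx⟩, ?_⟩
      rw [← Scheme.Hom.comp_apply, ← ha]; rfl
  · ext y
    constructor
    · rintro ⟨q, hq⟩
      obtain ⟨l, hl⟩ := hcov y
      have e : l.ι (l.b ⟨y, hl⟩) = k.ι q := by
        rw [hq, ← Scheme.Hom.comp_apply, ← hb]; rfl
      obtain ⟨n, fl, fk, p, hp₁, -⟩ :=
        (Scheme.IsLocallyDirected.ι_eq_ι_iff (F := diagram i j)).mp e
      exact fk.le.2 ((Set.ext_iff.mp (AffPair.map_prop fl.le).2.2 ⟨y, hl⟩).mp ⟨p, hp₁⟩)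
    · intro hy
      refine ⟨k.b ⟨y, hy⟩, ?_⟩
      rw [← Scheme.Hom.comp_apply, ← hb]; rfl
  · obtain ⟨k, q, hq⟩ := Scheme.IsLocallyDirected.ι_jointly_surjective (diagram i j) p
    exact ⟨k, q, hq⟩

end Groth.Agent.Lib.Ferrand
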