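import Mathlib.RingTheory.Spectrum.Prime.Topology
import Mathlib.RingTheory.Localization.Away.Basic
import Mathlib.RingTheory.IntegralClosure.IsIntegralClosure.Basic
import Mathlib.RingTheory.Finiteness.Basic

/-!
# Fibre products of rings along a surjection (Ferrand squares): algebra and topology

A square of rings
```
R --r--> B
|        |
s        q
v        v
A' --p-> A
```
with `p` surjective and `R = B ×_A A'`.
-/

universe u

namespace Groth.Agent.Lib.Ferrand

variable {R B A' A : Type u} [CommRing R] [CommRing B] [CommRing A'] [CommRing A]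

/-- A cartesian square of rings with `p` surjective. -/
structure IsSq (r : R →+* B) (s : R →+* A') (q : B →+* A) (p : A' →+* A) : Prop where
  comm : ∀ x, q (r x) = p (s x)
  surj : Function.Surjective p
  ext : ∀ x y, r x = r y → s x = s y → x = y
  lift : ∀ b a, q b = p a → ∃ x, r x = b ∧ s x = a

namespace IsSq

variable {r : R →+* B} {s : R →+* A'} {q : B →+* A} {p : A' →+* A}

theorem surjective_left (h : IsSq r s q p) : Function.Surjective r := fun b => by
  obtain ⟨a, ha⟩ := h.surj (q b)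
  obtain ⟨x, hx, -⟩ := h.lift b a ha.symm
  exact ⟨x, hx⟩

theorem exists_of_mem_ker (h : IsSq r s q p) {a : A'} (ha : p a = 0) :
    ∃ x, r x = 0 ∧ s x = a :=
  h.lift 0 a (by rw [map_zero, ha])

theorem isIntegral_left (h : IsSq r s q p) (hq : q.IsIntegral) : s.IsIntegral := by
  intro a
  obtain ⟨P, hP, hPa⟩ := hq (p a)
  obtain ⟨Q, hQ, -, hQm⟩ := Polynomial.lifts_and_natDegree_eq_and_monic
    (Polynomial.map_surjective r h.surjective_left P) hP
  have hcomp : p.comp s = q.comp r := RingHom.ext fun x => (h.comm x).symm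
  have h0 : p ((Q * Polynomial.X).eval₂ s a) = 0 := by
    rw [Polynomial.eval₂_mul, map_mul, Polynomial.hom_eval₂, hcomp, ← Polynomial.eval₂_map, hQ,
      hPa, zero_mul]
  obtain ⟨x, -, hx⟩ := h.exists_of_mem_ker h0
  rcases subsingleton_or_nontrivial R with hR | hR
  · have : Subsingleton A' := subsingleton_of_zero_eq_one
      (by rw [← map_zero s, Subsingleton.elim (0 : R) 1, map_one])
    exact ⟨Polynomial.X, Polynomial.monic_X, Subsingleton.elim _ _⟩
  refine ⟨Q * Polynomial.X - Polynomial.C x, (hQm.mul Polynomial.monic_X).sub_of_left ?_, ?_⟩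
  · refine Polynomial.degree_C_le.trans_lt ?_
    rw [Polynomial.degree_mul_X, Polynomial.degree_eq_natDegree hQm.ne_zero]
    exact_mod_cast Nat.succ_pos _
  · rw [Polynomial.eval₂_sub, Polynomial.eval₂_C, hx, sub_self]

theorem away (h : IsSq r s q p) (f : R) {R₁ B₁ A₁' A₁ : Type u} [CommRing R₁] [CommRing B₁]
    [CommRing A₁'] [CommRing A₁] [Algebra R R₁] [Algebra B B₁] [Algebra A' A₁'] [Algebra A A₁]
    [IsLocalization.Away f R₁] [IsLocalization.Away (r f) B₁] [IsLocalization.Away (s f) A₁']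
    [IsLocalization.Away (q (r f)) A₁] (r' : R₁ →+* B₁) (s' : R₁ →+* A₁') (q' : B₁ →+* A₁)
    (p' : A₁' →+* A₁) (hr : ∀ x, r' (algebraMap R R₁ x) = algebraMap B B₁ (r x))
    (hs : ∀ x, s' (algebraMap R R₁ x) = algebraMap A' A₁' (s x))
    (hq : ∀ x, q' (algebraMap B B₁ x) = algebraMap A A₁ (q x))
    (hp' : ∀ x, p' (algebraMap A' A₁' x) = algebraMap A A₁ (p x)) :
    IsSq r' s' q' p' := by
  have hcomm : ∀ x, q' (r' x) =
      p' (s' x) := by
    intro x
    refine RingHom.congr_fun (IsLocalization.ringHom_ext (Submonoid.powers f)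
      (j := (q').comp (r'))
      (k := p'.comp (s')) (RingHom.ext fun y => ?_)) x
    simp only [RingHom.comp_apply, hr, hs, hq, hp', h.comm]
  -- elements with denominators `f ^ n`
  have hu : ∀ n : ℕ, IsUnit (algebraMap R R₁ f ^ n) := fun n =>
    (IsLocalization.Away.algebraMap_isUnit f).pow n
  have hsp : ∀ z : R₁, ∃ n x, z * algebraMap R R₁ f ^ n = algebraMap R R₁ x :=
    fun z => by
      obtain ⟨n, x, hx⟩ := IsLocalization.Away.surj f z
      exact ⟨n, x, hx⟩
  refine ⟨hcomm, ?_, ?_, ?_⟩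
  · intro z
    obtain ⟨n, x, hx⟩ := IsLocalization.Away.surj (q (r f)) z
    obtain ⟨a, rfl⟩ := h.surj x
    refine ⟨algebraMap A' A₁' a * ↑(((IsLocalization.Away.algebraMap_isUnit (S :=
      A₁') (s f)).pow n).unit⁻¹), ?_⟩
    rw [← ((IsLocalization.Away.algebraMap_isUnit (S := A₁)
      (q (r f))).pow n).mul_left_inj, map_mul, hp', hx, mul_assoc]
    rw [show algebraMap A A₁ (q (r f)) ^ n =
      p' (algebraMap A' A₁' (s f) ^ n) by rw [map_pow, hp', h.comm], ← map_mul,
      IsUnit.val_inv_mul, map_one, mul_one]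
  · intro x y hxr hxs
    obtain ⟨n, a, ha⟩ := hsp x
    obtain ⟨m, b, hb⟩ := hsp y
    have key : algebraMap R R₁ (a * f ^ m) = algebraMap R R₁ (b * f ^ n) := by
      have h₁ := congrArg (r') ha
      have h₂ := congrArg (r') hb
      have h₃ := congrArg (s') ha
      have h₄ := congrArg (s') hb
      simp only [map_mul, map_pow, hr, hs] at h₁ h₂ h₃ h₄
      have e₁ : algebraMap B B₁ (r (a * f ^ m)) =
          algebraMap B B₁ (r (b * f ^ n)) := by
        simp only [map_mul, map_pow]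
        rw [← h₁, ← h₂, hxr]; ring
      have e₂ : algebraMap A' A₁' (s (a * f ^ m)) =
          algebraMap A' A₁' (s (b * f ^ n)) := by
        simp only [map_mul, map_pow]
        rw [← h₃, ← h₄, hxs]; ring
      obtain ⟨⟨_, i, rfl⟩, hi⟩ := (IsLocalization.eq_iff_exists (Submonoid.powers (r f)) _).mp e₁
      obtain ⟨⟨_, j, rfl⟩, hj⟩ := (IsLocalization.eq_iff_exists (Submonoid.powers (s f)) _).mp e₂
      simp only at hi hj
      refine (IsLocalization.eq_iff_exists (Submonoid.powers f) _).mpr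
        ⟨⟨f ^ (i + j), ⟨i + j, rfl⟩⟩, h.ext _ _ ?_ ?_⟩
      · simp only [pow_add, map_mul, map_pow] at hi ⊢
        linear_combination (r f) ^ j * hi
      · simp only [pow_add, map_mul, map_pow] at hj ⊢
        linear_combination (s f) ^ i * hj
    rw [← (hu (n + m)).mul_left_inj]
    simp only [map_mul, map_pow] at key
    rw [pow_add, ← mul_assoc, ha, key, mul_comm (algebraMap R R₁ f ^ n), ← mul_assoc, hb]
  · intro b a hba
    obtain ⟨n, b₀, hb⟩ := IsLocalization.Away.surj (r f) b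
    obtain ⟨m, a₀, ha⟩ := IsLocalization.Away.surj (s f) a
    have e : algebraMap A A₁ (q (b₀ * r f ^ m)) =
        algebraMap A A₁ (p (a₀ * s f ^ n)) := by
      have h₁ := congrArg (q') hb
      have h₂ := congrArg p' ha
      simp only [map_mul, map_pow, hq, hp', ← h.comm] at h₁ h₂
      simp only [map_mul, map_pow, ← h.comm]
      rw [← h₁, ← h₂, hba]; ring
    obtain ⟨⟨_, i, rfl⟩, hi⟩ := (IsLocalization.eq_iff_exists (Submonoid.powers (q (r f))) _).mp e
    simp only at hi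
    obtain ⟨x, hxr, hxs⟩ := h.lift (r f ^ i * (b₀ * r f ^ m)) (s f ^ i * (a₀ * s f ^ n)) (by
      simp only [map_mul, map_pow] at hi ⊢
      rw [← h.comm] at hi ⊢
      exact hi)
    refine ⟨algebraMap R R₁ x * ↑((hu (i + m + n)).unit⁻¹), ?_, ?_⟩
    · rw [← ((IsLocalization.Away.algebraMap_isUnit (S := B₁)
        (r f)).pow (i + m + n)).mul_left_inj]
      rw [show algebraMap B B₁ (r f) ^ (i + m + n) =
        r' (algebraMap R R₁ f ^ (i + m + n)) by rw [map_pow, hr],
        ← map_mul, mul_assoc, IsUnit.val_inv_mul, mul_one, hr, hxr]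
      simp only [map_mul, map_pow, hr]
      rw [← hb]; ring
    · rw [← ((IsLocalization.Away.algebraMap_isUnit (S := A₁')
        (s f)).pow (i + m + n)).mul_left_inj]
      rw [show algebraMap A' A₁' (s f) ^ (i + m + n) =
        s' (algebraMap R R₁ f ^ (i + m + n)) by rw [map_pow, hs],
        ← map_mul, mul_assoc, IsUnit.val_inv_mul, mul_one, hs, hxs]
      simp only [map_mul, map_pow, hs]
      rw [← ha]; ring

theorem exists_of_not_le (h : IsSq r s q p) (P : Ideal R) [P.IsPrime]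
    (hP : ¬ RingHom.ker r ≤ P) : ∃ Q : Ideal A', Q.IsPrime ∧ Q.comap s = P := by
  obtain ⟨i, hi, hiP⟩ := SetLike.not_le_iff_exists.mp hP
  rw [RingHom.mem_ker] at hi
  -- `g a` is the element `(0, s i * a)`
  have hpi : p (s i) = 0 := by rw [← h.comm, hi, map_zero]
  have hg : ∀ a, ∃ x, r x = 0 ∧ s x = s i * a :=
    fun a => h.exists_of_mem_ker (by rw [map_mul, hpi, zero_mul])
  choose g hg₁ hg₂ using hg
  have hadd : ∀ a b, g (a + b) = g a + g b := fun a b => h.ext _ _
    (by simp [hg₁]) (by simp [hg₂, mul_add])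
  have hmul : ∀ x a, g (s x * a) = x * g a := fun x a => h.ext _ _
    (by simp [hg₁]) (by simp [hg₂]; ring)
  let Q : Ideal A' :=
    { carrier := {a | ∀ b, g (a * b) ∈ P}
      add_mem' := fun {a b} ha hb c => by rw [add_mul, hadd]; exact P.add_mem (ha c) (hb c)
      zero_mem' := fun c => by
        have : g 0 = 0 := h.ext _ _ (by simp [hg₁]) (by simp [hg₂])
        simp [this]
      smul_mem' := fun c a ha b => by
        rw [smul_eq_mul, mul_comm c a, mul_assoc]; exact ha _ }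
  have hg1 : ∀ a b, g (a * b) * i = g a * g b := fun a b => h.ext _ _
    (by simp [hg₁, hi]) (by simp [hg₂]; ring)
  have hmem : ∀ a, a ∈ Q ↔ g a ∈ P := by
    refine fun a => ⟨fun ha => by simpa using ha 1, fun ha b => ?_⟩
    exact (Ideal.IsPrime.mem_or_mem ‹_› (hg1 a b ▸ P.mul_mem_right _ ha)).resolve_right hiP
  have hgi : g 1 = i := h.ext _ _ (by simp [hg₁, hi]) (by simp [hg₂])
  refine ⟨Q, ⟨?_, fun {a b} hab => ?_⟩, ?_⟩
  · rw [Ne, Ideal.eq_top_iff_one, hmem, hgi]
    exact hiP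
  · rw [hmem, hmem]
    exact Ideal.IsPrime.mem_or_mem ‹_› (hg1 a b ▸ P.mul_mem_right _ ((hmem _).mp hab))
  · ext x
    rw [Ideal.mem_comap, hmem, ← mul_one (s x), hmul, hgi]
    exact ⟨fun hx => (Ideal.IsPrime.mem_or_mem ‹_› hx).resolve_right hiP, P.mul_mem_right _⟩

/-- The spectra of the two rings cover `Spec R`. -/
theorem comap_surjective (h : IsSq r s q p) (x : PrimeSpectrum R) :
    (∃ y : PrimeSpectrum B, PrimeSpectrum.comap r y = x) ∨
      ∃ y : PrimeSpectrum A', PrimeSpectrum.comap s y = x := by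
  by_cases hx : RingHom.ker r ≤ x.asIdeal
  · refine Or.inl ⟨⟨x.asIdeal.map r, Ideal.map_isPrime_of_surjective h.surjective_left hx⟩, ?_⟩
    ext1
    rw [PrimeSpectrum.comap_asIdeal, Ideal.comap_map_of_surjective r h.surjective_left]
    exact sup_eq_left.mpr (by rwa [← RingHom.ker_eq_comap_bot])
  · obtain ⟨Q, hQ, hQx⟩ := h.exists_of_not_le x.asIdeal hx
    exact Or.inr ⟨⟨Q, hQ⟩, PrimeSpectrum.ext hQx⟩

open PrimeSpectrum TopologicalSpace

/-- Opens of the two spectra agreeing on `Spec A` are separated by basic opens of `Spec R`. -/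
theorem exists_basicOpen_of_left (h : IsSq r s q p) {U : Set (PrimeSpectrum A')}
    {V : Set (PrimeSpectrum B)} (hU : IsOpen U) (hV : IsOpen V)
    (hUV : comap p ⁻¹' U = comap q ⁻¹' V) (y : PrimeSpectrum B) (hy : y ∈ V) :
    ∃ f : R, r f ∉ y.asIdeal ∧ (basicOpen (r f) : Set (PrimeSpectrum B)) ⊆ V ∧
      (basicOpen (s f) : Set (PrimeSpectrum A')) ⊆ U := by
  obtain ⟨_, ⟨_, ⟨b, rfl⟩, rfl⟩, hyb, hbV⟩ :=
    PrimeSpectrum.isBasis_basic_opens.exists_subset_of_mem_open hy hV
  obtain ⟨K, hK⟩ : ∃ K : Ideal A', Uᶜ = zeroLocus K :=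
    (isClosed_iff_zeroLocus_ideal _).mp hU.isClosed_compl
  have hqb : q b ∈ (K.map p).radical := by
    rw [Ideal.radical_eq_sInf, Submodule.mem_sInf]
    rintro P ⟨hKP, hP⟩
    by_contra hb
    let z : PrimeSpectrum A := ⟨P, hP⟩
    have hzV : comap q z ∈ V := hbV hb
    have hzU : comap p z ∈ U := hUV.ge hzV
    have : comap p z ∈ Uᶜ := by
      rw [hK]
      exact fun a ha => hKP (Ideal.mem_map_of_mem p ha)
    exact this hzU
  obtain ⟨m, hm⟩ := hqb
  obtain ⟨n, hn0, hn⟩ : ∃ n, 0 < n ∧ q b ^ n ∈ K.map p :=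
    ⟨m + 1, m.succ_pos, by rw [pow_succ]; exact Ideal.mul_mem_right _ _ hm⟩
  obtain ⟨a, haK, ha⟩ := (Ideal.mem_map_iff_of_surjective p h.surj).mp hn
  obtain ⟨f, hfr, hfs⟩ := h.lift (b ^ n) a (by rw [map_pow, ha])
  refine ⟨f, ?_, ?_, ?_⟩
  · rw [hfr]
    exact fun hm => hyb (y.isPrime.mem_of_pow_mem n hm)
  · rw [hfr]
    exact fun z hz => hbV fun hzb => hz (z.asIdeal.pow_mem_of_mem hzb n hn0)
  · rw [hfs]
    intro z hz
    by_contra hzU
    have : z ∈ zeroLocus (K : Set A') := hK.le hzU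
    exact hz (this haK)

theorem exists_basicOpen_of_right (h : IsSq r s q p) {U : Set (PrimeSpectrum A')}
    {V : Set (PrimeSpectrum B)} (hU : IsOpen U) (hV : IsOpen V)
    (hUV : comap p ⁻¹' U = comap q ⁻¹' V) (y : PrimeSpectrum A') (hy : y ∈ U) :
    ∃ f : R, s f ∉ y.asIdeal ∧ (basicOpen (r f) : Set (PrimeSpectrum B)) ⊆ V ∧
      (basicOpen (s f) : Set (PrimeSpectrum A')) ⊆ U := by
  by_cases hyp : RingHom.ker p ≤ y.asIdeal
  · -- `y` comes from `Spec A`
    let z : PrimeSpectrum A := ⟨y.asIdeal.map p, Ideal.map_isPrime_of_surjective h.surj hyp⟩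
    have hz : comap p z = y := by
      ext1
      rw [PrimeSpectrum.comap_asIdeal, Ideal.comap_map_of_surjective p h.surj]
      exact sup_eq_left.mpr (by rwa [← RingHom.ker_eq_comap_bot])
    obtain ⟨f, hf, h₁, h₂⟩ := h.exists_basicOpen_of_left hU hV hUV (comap q z)
      (hUV.le (by rw [Set.mem_preimage, hz]; exact hy))
    refine ⟨f, ?_, h₁, h₂⟩
    rw [← hz, PrimeSpectrum.comap_asIdeal, Ideal.mem_comap, ← h.comm]
    exact hf
  · obtain ⟨i, hi, hiy⟩ := SetLike.not_le_iff_exists.mp hyp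
    obtain ⟨_, ⟨_, ⟨a, rfl⟩, rfl⟩, hya, haU⟩ :=
      PrimeSpectrum.isBasis_basic_opens.exists_subset_of_mem_open hy hU
    obtain ⟨f, hfr, hfs⟩ := h.exists_of_mem_ker (a := i * a)
      (by rw [map_mul, RingHom.mem_ker.mp hi, zero_mul])
    refine ⟨f, ?_, ?_, ?_⟩
    · rw [hfs]
      exact fun hm => (y.isPrime.mem_or_mem hm).elim hiy hya
    · rw [hfr, basicOpen_zero]
      exact fun z hz => hz.elim
    · rw [hfs]
      exact fun z hz => haU fun hza => hz (z.asIdeal.mul_mem_left i hza)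

/-- The open of `Spec R` with prescribed preimages. -/
theorem exists_opens (h : IsSq r s q p) {U : Set (PrimeSpectrum A')} {V : Set (PrimeSpectrum B)}
    (hU : IsOpen U) (hV : IsOpen V) (hUV : comap p ⁻¹' U = comap q ⁻¹' V) :
    ∃ O : Set (PrimeSpectrum R), IsOpen O ∧ comap s ⁻¹' O = U ∧ comap r ⁻¹' O = V := by
  let F : Set R := {f | (basicOpen (r f) : Set (PrimeSpectrum B)) ⊆ V ∧
    (basicOpen (s f) : Set (PrimeSpectrum A')) ⊆ U}
  refine ⟨⋃ f ∈ F, (basicOpen f : Set (PrimeSpectrum R)),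
    isOpen_biUnion fun f _ => (basicOpen f).2, ?_, ?_⟩
  · ext z
    simp only [Set.mem_preimage, Set.mem_iUnion]
    refine ⟨fun ⟨f, hf, hz⟩ => hf.2 hz, fun hz => ?_⟩
    obtain ⟨f, h₁, h₂, h₃⟩ := h.exists_basicOpen_of_right hU hV hUV z hz
    exact ⟨f, ⟨h₂, h₃⟩, h₁⟩
  · ext z
    simp only [Set.mem_preimage, Set.mem_iUnion]
    refine ⟨fun ⟨f, hf, hz⟩ => hf.1 hz, fun hz => ?_⟩
    obtain ⟨f, h₁, h₂, h₃⟩ := h.exists_basicOpen_of_left hU hV hUV z hz
    exact ⟨f, ⟨h₂, h₃⟩, h₁⟩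

theorem subset_of_preimage_subset (h : IsSq r s q p) {O O' : Set (PrimeSpectrum R)}
    (h₁ : comap s ⁻¹' O ⊆ comap s ⁻¹' O') (h₂ : comap r ⁻¹' O ⊆ comap r ⁻¹' O') : O ⊆ O' := by
  intro x hx
  rcases h.comap_surjective x with ⟨y, rfl⟩ | ⟨y, rfl⟩
  · exact h₂ hx
  · exact h₁ hx

/-- `Spec R` is the topological pushout. -/
theorem isOpen_iff (h : IsSq r s q p) {O : Set (PrimeSpectrum R)} :
    IsOpen O ↔ IsOpen (comap s ⁻¹' O) ∧ IsOpen (comap r ⁻¹' O) := by
  refine ⟨fun hO => ⟨hO.preimage (continuous_comap s), hO.preimage (continuous_comap r)⟩,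
    fun ⟨hU, hV⟩ => ?_⟩
  have hc : comap p ⁻¹' (comap s ⁻¹' O) = comap q ⁻¹' (comap r ⁻¹' O) := by
    ext z
    have : comap s (comap p z) = comap r (comap q z) := by
      ext x
      show p (s x) ∈ z.asIdeal ↔ q (r x) ∈ z.asIdeal
      rw [h.comm]
    simp [this]
  obtain ⟨O', hO', h₁, h₂⟩ := h.exists_opens hU hV hc
  have : O = O' := (h.subset_of_preimage_subset h₁.ge h₂.ge).antisymm
    (h.subset_of_preimage_subset h₁.le h₂.le)
  exact this ▸ hO'

end IsSq

end Groth.Agent.Lib.Ferrand
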