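import Groth.Agent.Lib.Ferrand.Ring

/-!
# `Spec` of a Ferrand square is a topological pushout, and the square is cocartesian
-/

universe u

open PrimeSpectrum

namespace Groth.Agent.Lib.Ferrand

variable {R B A' A : Type u} [CommRing R] [CommRing B] [CommRing A'] [CommRing A]
  {r : R →+* B} {s : R →+* A'} {q : B →+* A} {p : A' →+* A}

namespace IsSq

theorem comap_comap (h : IsSq r s q p) (z : PrimeSpectrum A) :
    comap s (comap p z) = comap r (comap q z) := by
  ext x
  show p (s x) ∈ z.asIdeal ↔ q (r x) ∈ z.asIdeal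
  rw [h.comm]

theorem exists_of_comap_eq (h : IsSq r s q p) {x : PrimeSpectrum A'} {y : PrimeSpectrum B}
    (hxy : comap s x = comap r y) : ∃ z, comap p z = x ∧ comap q z = y := by
  have hker : RingHom.ker p ≤ x.asIdeal := by
    intro a ha
    obtain ⟨t, ht₁, ht₂⟩ := h.exists_of_mem_ker ha
    have : t ∈ (comap r y).asIdeal := by
      show r t ∈ y.asIdeal
      rw [ht₁]; exact y.asIdeal.zero_mem
    rw [← hxy, ← ht₂] at *
    exact this
  let z : PrimeSpectrum A := ⟨x.asIdeal.map p, Ideal.map_isPrime_of_surjective h.surj hker⟩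
  have hz : comap p z = x := by
    ext1
    rw [PrimeSpectrum.comap_asIdeal, Ideal.comap_map_of_surjective p h.surj]
    exact sup_eq_left.mpr (by rwa [← RingHom.ker_eq_comap_bot])
  refine ⟨z, hz, comap_injective_of_surjective r h.surjective_left ?_⟩
  rw [← h.comap_comap, hz, hxy]

theorem eq_or_exists_of_comap_eq (h : IsSq r s q p) {x x' : PrimeSpectrum A'}
    (hx : comap s x = comap s x') :
    x = x' ∨ ∃ z z', comap p z = x ∧ comap p z' = x' ∧ comap q z = comap q z' := by
  by_cases hP : RingHom.ker r ≤ (comap s x).asIdeal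
  · let y : PrimeSpectrum B :=
      ⟨(comap s x).asIdeal.map r, Ideal.map_isPrime_of_surjective h.surjective_left hP⟩
    have hy : comap r y = comap s x := by
      ext1
      rw [PrimeSpectrum.comap_asIdeal, Ideal.comap_map_of_surjective r h.surjective_left]
      exact sup_eq_left.mpr (by rwa [← RingHom.ker_eq_comap_bot])
    obtain ⟨z, hz, hzy⟩ := h.exists_of_comap_eq hy.symm
    obtain ⟨z', hz', hzy'⟩ := h.exists_of_comap_eq (hx.symm.trans hy.symm)
    exact Or.inr ⟨z, z', hz, hz', hzy.trans hzy'.symm⟩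
  · refine Or.inl ?_
    obtain ⟨t, ht, htP⟩ := SetLike.not_le_iff_exists.mp hP
    rw [RingHom.mem_ker] at ht
    have hpt : p (s t) = 0 := by rw [← h.comm, ht, map_zero]
    have key : ∀ (x : PrimeSpectrum A'), t ∉ (comap s x).asIdeal → ∀ a g, r g = 0 → s g = s t * a →
        (a ∈ x.asIdeal ↔ g ∈ (comap s x).asIdeal) := by
      intro x hx a g _ hg
      show _ ↔ s g ∈ x.asIdeal
      rw [hg]
      exact ⟨fun ha => x.asIdeal.mul_mem_left _ ha,
        fun ha => (x.isPrime.mem_or_mem ha).resolve_left hx⟩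
    ext a
    obtain ⟨g, hg₁, hg₂⟩ := h.exists_of_mem_ker (a := s t * a) (by rw [map_mul, hpt, zero_mul])
    rw [key x htP a g hg₁ hg₂, hx, ← key x' (hx ▸ htP) a g hg₁ hg₂]

end IsSq

end Groth.Agent.Lib.Ferrand
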