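import Mathlib.RingTheory.Flat.Basic
import Mathlib.RingTheory.Flat.Tensor
import Mathlib.Algebra.TrivSqZeroExt.Basic
import Mathlib.RingTheory.Flat.Stability
import Mathlib.RingTheory.FinitePresentation
import Mathlib.RingTheory.Kaehler.Basic
import Mathlib.RingTheory.Unramified.Basic
import Mathlib.LinearAlgebra.TensorProduct.Tower
import Mathlib.LinearAlgebra.TensorProduct.RightExactness
import Mathlib.RingTheory.TensorProduct.MvPolynomial

/-!
# Gluing properties along two quotients with trivially intersecting kernels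
-/

universe u

open TensorProduct

namespace Groth.Agent.Lib.Ferrand.TwoClosed

variable {R : Type u} [CommRing R]

/-- Ideals of `S` tensored with `M` embed in `S ⊗ M` when the latter is flat over `S`. -/
theorem rTensor_ideal_injective {S : Type u} [CommRing S] [Algebra R S] {M : Type u}
    [AddCommGroup M] [Module R M] [Module.Flat S (S ⊗[R] M)] (N : Ideal S) :
    Function.Injective ((N.subtype.restrictScalars R).rTensor M) := by
  let e := AlgebraTensorModule.cancelBaseChange R S S N M
  let e' := AlgebraTensorModule.cancelBaseChange R S S S M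
  have h := Module.Flat.rTensor_preserves_injective_linearMap (M := S ⊗[R] M) N.subtype
    N.injective_subtype
  have key : ∀ x, (N.subtype.restrictScalars R).rTensor M (e x) =
      e' (N.subtype.rTensor (S ⊗[R] M) x) := by
    intro x
    induction x using TensorProduct.induction_on with
    | zero => simp
    | tmul n y =>
      induction y using TensorProduct.induction_on with
      | zero => simp
      | tmul a m => simp [e, e']
      | add y z hy hz => simp only [TensorProduct.tmul_add, map_add, hy, hz]
    | add y z hy hz => simp only [map_add, hy, hz]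
  intro x y hxy
  obtain ⟨x, rfl⟩ := e.surjective x
  obtain ⟨y, rfl⟩ := e.surjective y
  rw [key, key] at hxy
  rw [h (e'.injective hxy)]

variable {B C : Type u} [CommRing B] [CommRing C] [Algebra R B] [Algebra R C]

section Flat

variable {M : Type u} [AddCommGroup M] [Module R M]

/-- An ideal meeting the kernel of a quotient trivially embeds after tensoring. -/
theorem rTensor_injective_of_inf_eq_bot (hs : Function.Surjective (algebraMap R B))
    [Module.Flat B (B ⊗[R] M)] (I : Ideal R) (hI : I ⊓ RingHom.ker (algebraMap R B) = ⊥) :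
    Function.Injective (I.subtype.rTensor M) := by
  let I' : Ideal B := I.map (algebraMap R B)
  let ψ : I →ₗ[R] I' :=
    { toFun := fun x => ⟨algebraMap R B x.1, Ideal.mem_map_of_mem _ x.2⟩
      map_add' := fun x y => Subtype.ext (map_add _ _ _)
      map_smul' := fun a x => Subtype.ext (by
        show algebraMap R B (a • x.1) = a • algebraMap R B x.1
        rw [smul_eq_mul, map_mul, Algebra.smul_def]) }
  have hψ : Function.Bijective ψ := by
    refine ⟨fun x y hxy => Subtype.ext (sub_eq_zero.mp (hI.le ⟨I.sub_mem x.2 y.2, ?_⟩)),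
      fun ⟨b, hb⟩ => ?_⟩
    · show algebraMap R B (x.1 - y.1) = 0
      rw [map_sub, sub_eq_zero]
      exact congrArg Subtype.val hxy
    · obtain ⟨a, ha, rfl⟩ := (Ideal.mem_map_iff_of_surjective _ hs).mp hb
      exact ⟨⟨a, ha⟩, rfl⟩
  have hcomm : (Algebra.linearMap R B).rTensor M ∘ₗ I.subtype.rTensor M =
      (I'.subtype.restrictScalars R).rTensor M ∘ₗ ψ.rTensor M := by
    rw [← LinearMap.rTensor_comp, ← LinearMap.rTensor_comp]
    congr 1
  refine Function.Injective.of_comp (f := (Algebra.linearMap R B).rTensor M) ?_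
  rw [show ⇑((Algebra.linearMap R B).rTensor M) ∘ ⇑(I.subtype.rTensor M) =
    ⇑((I'.subtype.restrictScalars R).rTensor M) ∘ ⇑(ψ.rTensor M) from
      funext fun x => LinearMap.congr_fun hcomm x]
  exact (rTensor_ideal_injective I').comp
    (LinearEquiv.ofBijective ψ hψ |>.rTensor M).injective

/-- Flatness glues along two quotients with trivially intersecting kernels. -/
theorem flat (hB : Function.Surjective (algebraMap R B)) (hC : Function.Surjective (algebraMap R C))
    (hker : RingHom.ker (algebraMap R B) ⊓ RingHom.ker (algebraMap R C) = ⊥)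
    [Module.Flat B (B ⊗[R] M)] [Module.Flat C (C ⊗[R] M)] : Module.Flat R M := by
  refine Module.Flat.iff_rTensor_injective'.mpr fun I => ?_
  let J := RingHom.ker (algebraMap R B)
  let I' : Ideal B := I.map (algebraMap R B)
  let ψ : I →ₗ[R] I' :=
    { toFun := fun x => ⟨algebraMap R B x.1, Ideal.mem_map_of_mem _ x.2⟩
      map_add' := fun x y => Subtype.ext (map_add _ _ _)
      map_smul' := fun a x => Subtype.ext (by
        show algebraMap R B (a • x.1) = a • algebraMap R B x.1
        rw [smul_eq_mul, map_mul, Algebra.smul_def]) }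
  have hψ : Function.Surjective ψ := fun ⟨b, hb⟩ => by
    obtain ⟨a, ha, rfl⟩ := (Ideal.mem_map_iff_of_surjective _ hB).mp hb
    exact ⟨⟨a, ha⟩, rfl⟩
  let ι : ↥(I ⊓ J) →ₗ[R] I := Submodule.inclusion inf_le_left
  have hex : Function.Exact ι ψ := by
    intro x
    refine ⟨fun hx => ⟨⟨x.1, x.2, congrArg Subtype.val hx⟩, Subtype.ext rfl⟩, ?_⟩
    rintro ⟨y, rfl⟩
    exact Subtype.ext y.2.2
  refine (injective_iff_map_eq_zero _).mpr fun t ht => ?_
  have hcomm : (Algebra.linearMap R B).rTensor M ∘ₗ I.subtype.rTensor M =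
      (I'.subtype.restrictScalars R).rTensor M ∘ₗ ψ.rTensor M := by
    rw [← LinearMap.rTensor_comp, ← LinearMap.rTensor_comp]
    congr 1
  have h0 : ψ.rTensor M t = 0 := by
    refine rTensor_ideal_injective I' ?_
    rw [map_zero]
    exact (LinearMap.congr_fun hcomm t).symm.trans (by rw [LinearMap.comp_apply, ht, map_zero])
  obtain ⟨u, rfl⟩ := (rTensor_exact M hex hψ t).mp h0
  have hinf : (I ⊓ J) ⊓ RingHom.ker (algebraMap R C) = ⊥ :=
    le_bot_iff.mp (le_trans (inf_le_inf_right _ inf_le_right) hker.le)
  rw [← LinearMap.rTensor_comp_apply] at ht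
  have : u = 0 := rTensor_injective_of_inf_eq_bot hC _ hinf (by rw [map_zero]; exact ht)
  rw [this, map_zero]

end Flat

section Algebra

variable {D : Type u} [CommRing D] [Algebra R D]

/-- Unramifiedness glues. -/
theorem formallyUnramified (hB : Function.Surjective (algebraMap R B))
    (hC : Function.Surjective (algebraMap R C))
    (hker : RingHom.ker (algebraMap R B) ⊓ RingHom.ker (algebraMap R C) = ⊥)
    [Algebra.FormallyUnramified B (B ⊗[R] D)] [Algebra.FormallyUnramified C (C ⊗[R] D)] :
    Algebra.FormallyUnramified R D := by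
  -- two lifts agree modulo the extension of the kernel
  have key₀ : ∀ (S : Type u) [CommRing S] [Algebra R S] (_ : Function.Surjective (algebraMap R S))
      [Algebra.FormallyUnramified S (S ⊗[R] D)] (Q : Type u) [CommRing Q] [Algebra R Q]
      (I : Ideal Q) (_ : I ^ 2 = ⊥) (g₁ g₂ : D →ₐ[R] Q) (_ : ∀ x, g₁ x - g₂ x ∈ I) (x : D),
      g₁ x - g₂ x ∈ (RingHom.ker (algebraMap R S)).map (algebraMap R Q) := by
    intro S _ _ hS _ Q _ _ I hI g₁ g₂ hg x
    let J := (RingHom.ker (algebraMap R S)).map (algebraMap R Q)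
    have hk : RingHom.ker (algebraMap R S) ≤ RingHom.ker (algebraMap R (Q ⧸ J)) := fun r hr => by
      rw [RingHom.mem_ker, IsScalarTower.algebraMap_apply R Q (Q ⧸ J)]
      exact Ideal.Quotient.eq_zero_iff_mem.mpr (Ideal.mem_map_of_mem _ hr)
    have hl := RingHom.liftOfRightInverse_comp_apply (algebraMap R S) _
      (Function.rightInverse_surjInv hS) ⟨algebraMap R (Q ⧸ J), hk⟩
    letI : Algebra S (Q ⧸ J) := (RingHom.liftOfRightInverse (algebraMap R S) _
      (Function.rightInverse_surjInv hS) ⟨algebraMap R (Q ⧸ J), hk⟩).toAlgebra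
    have : IsScalarTower R S (Q ⧸ J) := .of_algebraMap_eq fun r => (hl r).symm
    let h : (D →ₐ[R] Q) → (S ⊗[R] D →ₐ[S] Q ⧸ J) := fun g =>
      Algebra.TensorProduct.lift (Algebra.ofId S (Q ⧸ J)) ((Ideal.Quotient.mkₐ R J).comp g)
        fun _ _ => Commute.all _ _
    have hh : ∀ g d, h g (1 ⊗ₜ d) = Ideal.Quotient.mk J (g d) := fun g d => by simp [h]
    let I' : Ideal (Q ⧸ J) := I.map (Ideal.Quotient.mk J)
    have hI' : I' ^ 2 = ⊥ := by rw [← Ideal.map_pow, hI, Ideal.map_bot]
    have hd : ∀ d, h g₁ (1 ⊗ₜ d) - h g₂ (1 ⊗ₜ d) ∈ I' := fun d => by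
      rw [hh, hh, ← map_sub]
      exact Ideal.mem_map_of_mem _ (hg d)
    have := Algebra.FormallyUnramified.comp_injective (R := S) I' hI' (a₁ := h g₁) (a₂ := h g₂) (by
      ext d
      exact Ideal.Quotient.mk_eq_mk_iff_sub_mem _ _ |>.mpr (hd d))
    have := congr($this (1 ⊗ₜ x))
    rw [hh, hh, Ideal.Quotient.eq] at this
    exact this
  -- apply this to the universal square-zero extension
  let M := Ω[D⁄R]
  letI : Module Dᵐᵒᵖ M := Module.compHom M ((RingHom.id D).fromOpposite Commute.all)
  have : IsCentralScalar D M := ⟨fun _ _ => rfl⟩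
  have key : ∀ (S : Type u) [CommRing S] [Algebra R S] (_ : Function.Surjective (algebraMap R S))
      [Algebra.FormallyUnramified S (S ⊗[R] D)] (z : M),
      z ∈ (RingHom.ker (algebraMap R S)).map (algebraMap R D) • (⊤ : Submodule D M) := by
    intro S _ _ hS _ z
    let g₁ : D →ₐ[R] TrivSqZeroExt D M := IsScalarTower.toAlgHom R D (TrivSqZeroExt D M)
    let I : Ideal (TrivSqZeroExt D M) :=
      RingHom.ker (TrivSqZeroExt.fstHom R D M).toRingHom
    have hI : I ^ 2 = ⊥ := by
      rw [pow_two, eq_bot_iff, Ideal.mul_le]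
      intro a ha b hb
      have ha' : TrivSqZeroExt.fst a = 0 := ha
      have hb' : TrivSqZeroExt.fst b = 0 := hb
      ext
      · simp [ha']
      · simp [ha', hb']
    let g₂ : D →ₐ[R] TrivSqZeroExt D M :=
      { toFun := fun x => TrivSqZeroExt.inl x + TrivSqZeroExt.inr (KaehlerDifferential.D R D x)
        map_one' := by ext <;> simp
        map_mul' := fun x y => by
          ext
          · simp
          · simp [op_smul_eq_smul]
        map_zero' := by ext <;> simp
        map_add' := fun x y => by
          ext <;> simp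
        commutes' := fun r => by
          ext <;> simp [TrivSqZeroExt.algebraMap_eq_inl'] }
    have hg : ∀ x, g₂ x - g₁ x = TrivSqZeroExt.inr (KaehlerDifferential.D R D x) := fun x => by
      show TrivSqZeroExt.inl x + _ - algebraMap D (TrivSqZeroExt D M) x = _
      rw [TrivSqZeroExt.algebraMap_eq_inl, add_sub_cancel_left]
    have hmem : ∀ q ∈ (RingHom.ker (algebraMap R S)).map (algebraMap R (TrivSqZeroExt D M)),
        TrivSqZeroExt.snd q ∈
          (RingHom.ker (algebraMap R S)).map (algebraMap R D) • (⊤ : Submodule D M) ∧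
        TrivSqZeroExt.fst q ∈ (RingHom.ker (algebraMap R S)).map (algebraMap R D) := by
      intro q hq
      rw [Ideal.map, Ideal.span] at hq
      induction hq using Submodule.span_induction with
      | mem q hq =>
        obtain ⟨r, hr, rfl⟩ := hq
        rw [TrivSqZeroExt.algebraMap_eq_inl']
        exact ⟨by simp, by simpa using Ideal.mem_map_of_mem _ hr⟩
      | zero => exact ⟨by simp, by simp⟩
      | add a b _ _ ha hb => exact ⟨by simpa using add_mem ha.1 hb.1, by simpa using add_mem ha.2 hb.2⟩
      | smul a b _ hb =>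
        refine ⟨?_, ?_⟩
        · rw [smul_eq_mul, TrivSqZeroExt.snd_mul, op_smul_eq_smul]
          exact add_mem (Submodule.smul_mem _ _ hb.1) (Submodule.smul_mem_smul hb.2 trivial)
        · rw [smul_eq_mul, TrivSqZeroExt.fst_mul]
          exact Ideal.mul_mem_left _ _ hb.2
    have htop : (⊤ : Submodule D M) ≤
        (RingHom.ker (algebraMap R S)).map (algebraMap R D) • (⊤ : Submodule D M) := by
      conv_lhs => rw [← KaehlerDifferential.span_range_derivation R D]
      rw [Submodule.span_le]
      rintro _ ⟨x, rfl⟩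
      have := (hmem _ (key₀ S hS _ I hI g₂ g₁ (fun x => by
        rw [hg]
        show TrivSqZeroExt.fst _ = 0
        simp) x)).1
      rw [hg, TrivSqZeroExt.snd_inr] at this
      exact this
    exact htop trivial
  constructor
  have h₁ : (⊤ : Submodule D M) ≤ _ := fun z _ => key B hB z
  have h₂ : (⊤ : Submodule D M) ≤ _ := fun z _ => key C hC z
  have hJJ : (RingHom.ker (algebraMap R B)).map (algebraMap R D) *
      (RingHom.ker (algebraMap R C)).map (algebraMap R D) = ⊥ := by
    rw [← Ideal.map_mul, le_bot_iff.mp (Ideal.mul_le_inf.trans hker.le), Ideal.map_bot]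
  have htop : (⊤ : Submodule D M) = ⊥ := by
    refine le_bot_iff.mp (h₁.trans ((Submodule.smul_mono le_rfl h₂).trans ?_))
    rw [← Submodule.mul_smul, hJJ, Submodule.bot_smul]
  exact Submodule.subsingleton_iff D |>.mp (subsingleton_of_bot_eq_top htop.symm)

theorem mem_smul_ker {S : Type u} [CommRing S] [Algebra R S]
    (hS : Function.Surjective (algebraMap R S)) {P : Type u} [CommRing P] [Algebra R P]
    [Module.Flat R D] (f : P →ₐ[R] D) (hf : Function.Surjective f) {x : P} (hx : f x = 0)
    (hx' : (1 : S) ⊗ₜ[R] x = 0) :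
    x ∈ (RingHom.ker (algebraMap R S)).map (algebraMap R P) * RingHom.ker f := by
  let J := RingHom.ker (algebraMap R S)
  have hex : Function.Exact J.subtype (Algebra.linearMap R S) := fun r =>
    ⟨fun hr => ⟨⟨r, hr⟩, rfl⟩, by rintro ⟨j, rfl⟩; exact j.2⟩
  obtain ⟨u, hu⟩ := (rTensor_exact P hex hS ((1 : R) ⊗ₜ x)).mp (by
    rw [LinearMap.rTensor_tmul]
    simpa using hx')
  have hinj := Module.Flat.rTensor_preserves_injective_linearMap (M := D) J.subtype
    J.injective_subtype
  have h0 : f.toLinearMap.lTensor J u = 0 := by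
    refine hinj ?_
    rw [map_zero]
    have : J.subtype.rTensor D (f.toLinearMap.lTensor J u) =
        f.toLinearMap.lTensor R (J.subtype.rTensor P u) := by
      rw [← LinearMap.comp_apply, LinearMap.rTensor_comp_lTensor, ← LinearMap.lTensor_comp_rTensor]
      rfl
    rw [this, hu, LinearMap.lTensor_tmul]
    show (1 : R) ⊗ₜ f x = 0
    rw [hx, TensorProduct.tmul_zero]
  obtain ⟨v, rfl⟩ := (lTensor_exact J f.toLinearMap.exact_subtype_ker_map hf u).mp h0
  have key : ∀ v : J ⊗[R] (LinearMap.ker f.toLinearMap),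
      TensorProduct.lid R P (J.subtype.rTensor P
        ((LinearMap.ker f.toLinearMap).subtype.lTensor J v)) ∈
          J.map (algebraMap R P) * RingHom.ker f := by
    intro v
    induction v using TensorProduct.induction_on with
    | zero => simp
    | tmul j k =>
      simp only [LinearMap.lTensor_tmul, LinearMap.rTensor_tmul, TensorProduct.lid_tmul]
      rw [Algebra.smul_def]
      exact Ideal.mul_mem_mul (Ideal.mem_map_of_mem _ j.2) k.2
    | add a b ha hb => simp only [map_add]; exact Ideal.add_mem _ ha hb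
  have := key v
  rw [hu, TensorProduct.lid_tmul, one_smul] at this
  exact this

theorem ideal_le_sup {P : Type u} [CommRing P] (K S₁ S₂ J₁ J₂ : Ideal P) (h₁ : K ≤ S₁ ⊔ J₁ * K)
    (h₂ : K ≤ S₂ ⊔ J₂ * K) (hJJ : J₁ * J₂ = ⊥) : K ≤ S₁ ⊔ S₂ := by
  refine h₁.trans ((sup_le_sup_left (Ideal.mul_mono_right h₂) _).trans (sup_le le_sup_left ?_))
  rw [Ideal.mul_sup, ← mul_assoc, hJJ, Ideal.bot_mul, sup_bot_eq]
  exact le_trans (Ideal.mul_le.mpr fun x _ y hy => S₂.mul_mem_left x hy) (le_sup_right : S₂ ≤ S₁ ⊔ S₂)

/-- Finite presentation glues when the algebra is flat and of finite type. -/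
theorem finitePresentation (hB : Function.Surjective (algebraMap R B))
    (hC : Function.Surjective (algebraMap R C))
    (hker : RingHom.ker (algebraMap R B) ⊓ RingHom.ker (algebraMap R C) = ⊥)
    [Module.Flat R D] [Algebra.FiniteType R D]
    [Algebra.FinitePresentation B (B ⊗[R] D)] [Algebra.FinitePresentation C (C ⊗[R] D)] :
    Algebra.FinitePresentation R D := by
  classical
  obtain ⟨n, f, hf⟩ := Algebra.FiniteType.iff_quotient_mvPolynomial''.mp ‹Algebra.FiniteType R D›
  let P := MvPolynomial (Fin n) R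
  let K := RingHom.ker f
  have key : ∀ (S : Type u) [CommRing S] [Algebra R S] (_ : Function.Surjective (algebraMap R S))
      [Algebra.FinitePresentation S (S ⊗[R] D)],
      ∃ s : Finset P, Ideal.span (s : Set P) ≤ K ∧
        K ≤ Ideal.span (s : Set P) ⊔ (RingHom.ker (algebraMap R S)).map (algebraMap R P) * K := by
    intro S _ _ hS _
    let π : P →ₐ[R] S ⊗[R] P := Algebra.TensorProduct.includeRight
    have hπ : Function.Surjective π := fun x => by
      induction x using TensorProduct.induction_on with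
      | zero => exact ⟨0, map_zero _⟩
      | tmul a d =>
        obtain ⟨r, rfl⟩ := hS a
        exact ⟨r • d, by simp [π, Algebra.algebraMap_eq_smul_one, TensorProduct.smul_tmul]⟩
      | add x y hx hy =>
        obtain ⟨a, rfl⟩ := hx
        obtain ⟨b, rfl⟩ := hy
        exact ⟨a + b, map_add _ _ _⟩
    let F : S ⊗[R] P →ₐ[S] S ⊗[R] D := Algebra.TensorProduct.map (AlgHom.id S S) f
    have hF : Function.Surjective F := fun x => by
      induction x using TensorProduct.induction_on with
      | zero => exact ⟨0, map_zero _⟩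
      | tmul a d => obtain ⟨p, rfl⟩ := hf d; exact ⟨a ⊗ₜ p, by simp [F]⟩
      | add x y hx hy =>
        obtain ⟨a, rfl⟩ := hx
        obtain ⟨b, rfl⟩ := hy
        exact ⟨a + b, map_add _ _ _⟩
    have hFP : Algebra.FinitePresentation S (S ⊗[R] P) := inferInstance
    obtain ⟨t, ht⟩ : (RingHom.ker F).FG :=
      Algebra.FinitePresentation.ker_fG_of_surjective F hF
    have hlift : ∀ y ∈ RingHom.ker F, ∃ k ∈ K, π k = y := by
      intro y hy
      have hk : RingHom.ker F = (RingHom.ker f).map
          (Algebra.TensorProduct.includeRight : P →ₐ[R] S ⊗[R] P) :=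
        Algebra.TensorProduct.lTensor_ker f hf
      rw [hk] at hy
      exact (Ideal.mem_map_iff_of_surjective π hπ).mp hy
    choose! k hkK hkπ using hlift
    refine ⟨t.image k, Ideal.span_le.mpr fun x hx => ?_, fun x hx => ?_⟩
    · obtain ⟨y, hy, rfl⟩ := Finset.mem_image.mp (Finset.mem_coe.mp hx)
      exact hkK y (ht ▸ Ideal.subset_span hy)
    · have hxF : π x ∈ RingHom.ker F := by
        refine RingHom.mem_ker.mpr ?_
        show F ((1 : S) ⊗ₜ x) = 0
        rw [Algebra.TensorProduct.map_tmul, RingHom.mem_ker.mp hx, TensorProduct.tmul_zero]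
      rw [← ht] at hxF
      have : π x ∈ (Ideal.span (t.image k : Set P)).map π := by
        rw [Ideal.map_span]
        refine Ideal.span_mono (fun y hy => ?_) hxF
        exact ⟨k y, Finset.mem_coe.mpr (Finset.mem_image_of_mem k hy),
          hkπ y (ht ▸ Ideal.subset_span hy)⟩
      obtain ⟨x₀, hx₀, hxx₀⟩ := (Ideal.mem_map_iff_of_surjective π hπ).mp this
      have hx₀K : x₀ ∈ K := Ideal.span_le.mpr (fun z hz => by
        obtain ⟨y, hy, rfl⟩ := Finset.mem_image.mp (Finset.mem_coe.mp hz)
        exact hkK y (ht ▸ Ideal.subset_span hy)) hx₀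
      have := mem_smul_ker hS f hf (x := x - x₀) (RingHom.mem_ker.mp (K.sub_mem hx hx₀K)) (by
        show π (x - x₀) = 0
        rw [map_sub, hxx₀, sub_self])
      exact Submodule.mem_sup.mpr ⟨x₀, hx₀, x - x₀, this, by ring⟩
  obtain ⟨s₁, hs₁, h₁⟩ := key B hB
  obtain ⟨s₂, hs₂, h₂⟩ := key C hC
  refine Algebra.FinitePresentation.of_surjective (f := f) hf ⟨s₁ ∪ s₂, le_antisymm ?_ ?_⟩
  · rw [Finset.coe_union, Ideal.span_union]
    exact sup_le hs₁ hs₂
  · rw [Finset.coe_union, Ideal.span_union]
    refine ideal_le_sup _ _ _ _ _ h₁ h₂ ?_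
    rw [← Ideal.map_mul, (le_bot_iff.mp (Ideal.mul_le_inf.trans hker.le) :
      RingHom.ker (algebraMap R B) * RingHom.ker (algebraMap R C) = ⊥), Ideal.map_bot]

end Algebra

end Groth.Agent.Lib.Ferrand.TwoClosed
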